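import Cfsg.Agent.Lib.J4DCE.Stab

/-!
The orbit of the triple, and the check that finitely many orbits of points are closed under all letters.
-/
set_option autoImplicit false
set_option maxRecDepth 4000

namespace CfsgLib.J4DCE

open Cfsg
open CfsgLib.Presented (NTree)

attribute [local irreducible] enc pmask tImg

/-- the table of the orbit of the triple -/
structure OrbTab where
  T0 : ℕ
  R : Reps
  tab : NTree

/-- entry `k` -/
noncomputable def OrbTab.T (O : OrbTab) (k : ℕ) : ℕ := O.tab.get 72 k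

/-- the table consists of the images of the triple, and only entry zero is the triple itself -/
noncomputable def OrbTab.chk (O : OrbTab) (lo cnt : ℕ) : Bool :=
  (List.range cnt).all fun i =>
    Presented.Vec.force (lo + i) fun k =>
      Nat.beq (tImg (O.R.p k) O.T0) (O.T k) && (Nat.beq k 0 || !Nat.beq (O.T k) O.T0)

/-- all entries pass -/
def OrbTab.OK (O : OrbTab) : Prop :=
  O.R.ok = true ∧ ∀ k < O.R.n, tImg (O.R.p k) O.T0 = O.T k ∧ (O.T k = O.T0 → k = 0)

theorem OrbTab.ok_of_chk {O : OrbTab} (hR : O.R.ok = true)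
    (h : ∀ k < O.R.n, ∃ lo cnt, lo ≤ k ∧ k < lo + cnt ∧ O.chk lo cnt = true) : O.OK := by
  refine ⟨hR, fun k hk => ?_⟩
  obtain ⟨lo, cnt, h1, h2, hs⟩ := h k hk
  simp only [OrbTab.chk, List.all_eq_true, List.mem_range, Presented.Vec.force_eq, Bool.and_eq_true,
    Bool.or_eq_true] at hs
  have hs' := hs (k - lo) (by omega)
  rw [Nat.add_sub_cancel' h1] at hs'
  refine ⟨Nat.eq_of_beq_eq_true hs'.1, fun e => ?_⟩
  rcases hs'.2 with h3 | h3
  · exact Nat.eq_of_beq_eq_true h3
  · rw [e] at h3
    simp at h3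

/-- the elements fixing the triple and commuting with the involution -/
def centQ {G : Type*} [Group G] (emb : M24 →* G) (t : G) (T0 : ℕ) : Subgroup M24 where
  carrier := {σ | (tImg (pk 1) T0 = T0 → tImg (pk σ.1) T0 = T0) ∧ emb σ * t = t * emb σ}
  one_mem' := ⟨fun h => h, by simp⟩
  mul_mem' := by
    rintro a b ⟨a1, a2⟩ ⟨b1, b2⟩
    refine ⟨fun h => ?_, ?_⟩
    · rw [← tImg_coe, b1 h, a1 h]
    · rw [map_mul, mul_assoc, b2, ← mul_assoc, a2, mul_assoc]
  inv_mem' := by
    rintro a ⟨a1, a2⟩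
    refine ⟨fun h => ?_, ?_⟩
    · conv_lhs => rw [← a1 h]
      rw [tImg_coe, inv_mul_cancel]
      exact h
    · rw [map_inv, inv_mul_eq_iff_eq_mul, ← mul_assoc, a2, mul_inv_cancel_right]

theorem mem_centQ {G : Type*} [Group G] {emb : M24 →* G} {t : G} {T0 : ℕ} {σ : M24}
    (h1 : tImg (pk σ.1) T0 = T0) (h2 : emb σ * t = t * emb σ) : σ ∈ centQ emb t T0 := ⟨fun _ => h1, h2⟩

theorem centQ_spec {G : Type*} [Group G] {emb : M24 →* G} {t : G} {T0 : ℕ} (h3 : tImg (pk 1) T0 = T0)
    {σ : M24} (h : σ ∈ centQ emb t T0) : tImg (pk σ.1) T0 = T0 ∧ emb σ * t = t * emb σ := ⟨h.1 h3, h.2⟩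

theorem OrbTab.mem_tab {O : OrbTab} (hO : O.OK) {G : Type*} [Group G] {emb : M24 →* G} {t : G}
    (h3 : tImg (pk 1) O.T0 = O.T0)
    (hX : Carries (centQ emb t O.T0) O.R mX) (hY : Carries (centQ emb t O.T0) O.R mY) (σ : M24) :
    ∃ k < O.R.n, tImg (pk σ.1) O.T0 = O.T k ∧ (k = 0 → emb σ * t = t * emb σ) := by
  obtain ⟨k, hk, g, hg, c, hc, rfl⟩ := decompose hO.1 hX hY σ
  obtain ⟨hc1, hc2⟩ := centQ_spec h3 hc
  refine ⟨k, hk, by rw [← tImg_coe, hc1, hg, (hO.2 k hk).1], ?_⟩
  rintro rfl
  have h0 := hO.1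
  simp only [Reps.ok, Bool.and_eq_true] at h0
  have hg1 : g = 1 := Subtype.ext (pk_injective (hg.trans ((Nat.eq_of_beq_eq_true h0.1.2).trans pid_coe)))
  rw [hg1, one_mul]
  exact hc2

theorem OrbTab.setting {O : OrbTab} (hO : O.OK) {G : Type*} [Group G] {emb : M24 →* G} {t : G}
    (ht : t * t = 1) (h3 : tImg (pk 1) O.T0 = O.T0)
    (hX : Carries (centQ emb t O.T0) O.R mX) (hY : Carries (centQ emb t O.T0) O.R mY) :
    Setting emb t O.T0 :=
  ⟨ht, h3, fun σ hσ => by
    obtain ⟨k, hk, hT, hc⟩ := O.mem_tab hO h3 hX hY σ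
    exact hc ((hO.2 k hk).2 (hT.symm.trans hσ))⟩

/-- one entry of a covering: the triple `k` is either an edge, or the image of an earlier one under an
element fixing the point -/
noncomputable def coverStep (d : Cert) (O : OrbTab) (nF : ℕ) (live : List ℕ) (node : ℕ) (seen k par code : ℕ) :
    Bool :=
  Nat.blt (code / 2) nF &&
  cond (Nat.beq par 4095)
    (cond (Nat.beq (code % 2) 0)
      (Nat.beq (d.facts.get (code / 2)).i node && Nat.beq (d.facts.get (code / 2)).r (O.T k) &&
        !Nat.beq (d.facts.get (code / 2)).r 0 && live.any (fun l => Nat.beq l (d.facts.get (code / 2)).j))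
      (Nat.beq (d.facts.get (code / 2)).j node && !Nat.beq (d.facts.get (code / 2)).r 0 &&
        Nat.beq (tImg (d.facts.get (code / 2)).gi (d.facts.get (code / 2)).r) (O.T k) &&
        live.any (fun l => Nat.beq l (d.facts.get (code / 2)).i)))
    (Nat.beq (Nat.mod (Nat.shiftRight seen par) 2) 1 && Nat.blt par O.R.n &&
      Nat.beq (d.facts.get (code / 2)).r 0 && Nat.beq (d.facts.get (code / 2)).i node &&
      Nat.beq (d.facts.get (code / 2)).j node &&
      Nat.beq (tImg (cond (Nat.beq (code % 2) 0) (d.facts.get (code / 2)).g (d.facts.get (code / 2)).gi) (O.T par))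
        (O.T k))

/-- read a covering of one point -/
noncomputable def coverRun (d : Cert) (O : OrbTab) (nF : ℕ) (live : List ℕ) (node : ℕ) : ℕ → ℕ → ℕ → Bool
  | 0, _, seen => Nat.beq seen (2 ^ O.R.n - 1)
  | fuel + 1, st, seen =>
    Presented.Vec.force (st % 1099511627776) fun e =>
    Presented.Vec.force (e % 4096) fun k =>
      coverStep d O nF live node seen k (e / 4096 % 4096) (e / 16777216) &&
        Presented.Vec.force (Nat.lor seen (2 ^ k)) fun seen' =>
          coverRun d O nF live node fuel (st / 1099511627776) seen'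

theorem testBit_iff (seen par : ℕ) :
    Nat.beq (Nat.mod (Nat.shiftRight seen par) 2) 1 = true ↔ seen.testBit par = true := by
  rw [Nat.testBit_eq_decide_div_mod_eq, ← Nat.shiftRight_eq_div_pow, decide_eq_true_eq]
  exact ⟨Nat.eq_of_beq_eq_true, fun e => by show Nat.beq ((seen >>> par) % 2) 1 = true; rw [e]; rfl⟩

section Sound

variable {G : Type*} [Group G] {X : Type*} [MulAction G X] {emb : M24 →* G} {t : G} {base : X} {d : Cert}

/-- the finite set of points -/
def orbSet (d : Cert) (emb : M24 →* G) (t : G) (base : X) (live : List ℕ) : Set X :=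
  {x | ∃ σ : M24, ∃ l ∈ live, x = emb σ • d.pt emb t base l}

variable {O : OrbTab} {nF : ℕ} {live : List ℕ} {node : ℕ}

theorem coverRun_sound (hI : d.Interp emb t base) (hd : d.T0 = O.T0) (hO : O.OK)
    (hok : d.OKOn 0 nF) : ∀ fuel st seen, coverRun d O nF live node fuel st seen = true →
      (∀ k, seen.testBit k = true → tau emb t d.T0 (O.T k) • d.pt emb t base node ∈ orbSet d emb t base live) →
      ∀ k < O.R.n, tau emb t d.T0 (O.T k) • d.pt emb t base node ∈ orbSet d emb t base live
  | 0, st, seen, h, hs => fun k hk => hs k (by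
      rw [coverRun] at h
      rw [Nat.eq_of_beq_eq_true h, Nat.testBit_two_pow_sub_one, decide_eq_true_eq]
      exact hk)
  | fuel + 1, st, seen, h, hs => by
    simp only [coverRun, Presented.Vec.force_eq, Bool.and_eq_true] at h
    obtain ⟨hstep, hrest⟩ := h
    refine coverRun_sound hI hd hO hok fuel _ _ hrest fun k hk => ?_
    rw [show Nat.lor seen (2 ^ (st % 1099511627776 % 4096)) = seen ||| 2 ^ (st % 1099511627776 % 4096) from rfl,
      Nat.testBit_or, Bool.or_eq_true, Nat.testBit_two_pow, decide_eq_true_eq] at hk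
    rcases hk with hk | rfl
    · exact hs k hk
    generalize st % 1099511627776 % 4096 = k at hstep
    generalize st % 1099511627776 / 4096 % 4096 = par at hstep
    generalize st % 1099511627776 / 16777216 = code at hstep
    simp only [coverStep, Bool.and_eq_true, Nat.blt_eq] at hstep
    obtain ⟨hf, hstep⟩ := hstep
    obtain ⟨horb, ρ, hg, hgi, hfact⟩ := Cert.holds_of_ok hI hok _ hf
    cases hp : Nat.beq par 4095
    · simp only [hp, cond_false, Bool.and_eq_true, Nat.blt_eq] at hstep
      obtain ⟨⟨⟨⟨⟨hbit, hpar⟩, hr⟩, hi⟩, hj⟩, himg⟩ := hstep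
      rw [Nat.eq_of_beq_eq_true hi, Nat.eq_of_beq_eq_true hj, Nat.eq_of_beq_eq_true hr, ltr, if_pos rfl,
        one_smul] at hfact
      obtain ⟨σ, l, hl, hσ⟩ := hs par ((testBit_iff seen par).1 hbit)
      have hT : InOrb d.T0 (O.T par) := by
        obtain ⟨g, hg', -⟩ := Reps.exists_g hO.1 hpar
        exact ⟨g, by rw [hd, hg']; exact (hO.2 par hpar).1⟩
      obtain ⟨p, hp1, hp2⟩ : ∃ p : M24, tImg (pk p.1) (O.T par) = O.T k ∧
          emb p • d.pt emb t base node = d.pt emb t base node := by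
        cases hc : Nat.beq (code % 2) 0
        · rw [hc, cond_false] at himg
          refine ⟨ρ⁻¹, by rw [hgi]; exact Nat.eq_of_beq_eq_true himg, ?_⟩
          rw [map_inv, inv_smul_eq_iff, hfact]
        · rw [hc, cond_true] at himg
          exact ⟨ρ, by rw [hg]; exact Nat.eq_of_beq_eq_true himg, hfact⟩
      refine ⟨p * σ, l, hl, ?_⟩
      rw [← hp1, map_mul, mul_smul, ← hσ, smul_smul, emb_mul_tau hI.setting hT, mul_smul, hp2]
    · simp only [hp, cond_true] at hstep
      cases hc : Nat.beq (code % 2) 0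
      · simp only [hc, cond_false, Bool.and_eq_true, Bool.not_eq_true', List.any_eq_true] at hstep
        obtain ⟨⟨⟨hj, hr0⟩, himg⟩, l, hl, hle⟩ := hstep
        have hr : (d.facts.get (code / 2)).r ≠ 0 := fun e => by rw [e] at hr0; exact absurd hr0 (by decide)
        refine ⟨ρ⁻¹, l, hl, ?_⟩
        rw [Nat.eq_of_beq_eq_true hj, ltr, if_neg hr] at hfact
        rw [← Nat.eq_of_beq_eq_true himg, ← hgi, ← conj_tau hI.setting (horb.resolve_left hr) ρ⁻¹,
          Nat.eq_of_beq_eq_true hle, map_inv, inv_inv, mul_smul, mul_smul, hfact, smul_smul (tau emb t d.T0 _),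
          tau_sq hI.setting, one_smul]
      · simp only [hc, cond_true, Bool.and_eq_true, Bool.not_eq_true', List.any_eq_true] at hstep
        obtain ⟨⟨⟨hi, hr⟩, hr0⟩, l, hl, hle⟩ := hstep
        have hrne : (d.facts.get (code / 2)).r ≠ 0 := fun e => by rw [e] at hr0; exact absurd hr0 (by decide)
        refine ⟨ρ, l, hl, ?_⟩
        rw [ltr, if_neg hrne, Nat.eq_of_beq_eq_true hi, Nat.eq_of_beq_eq_true hr] at hfact
        rw [Nat.eq_of_beq_eq_true hle, hfact]

/-- if every point of `live` is covered, the set of points is closed -/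
theorem orbSet_closed (hI : d.Interp emb t base) (hd : d.T0 = O.T0) (hO : O.OK)
    (hX : Carries (centQ emb t O.T0) O.R mX) (hY : Carries (centQ emb t O.T0) O.R mY)
    (hok : d.OKOn 0 nF) (hlive : 0 ∈ live)
    (hcov : ∀ l ∈ live, ∃ st, coverRun d O nF live l O.R.n st 0 = true)
    {g : G} (hg : g ∈ Subgroup.closure (Set.range emb ∪ {t})) :
    g • base ∈ orbSet d emb t base live := by
  have h3 : tImg (pk 1) O.T0 = O.T0 := hd ▸ hI.setting.one
  have hb : base ∈ orbSet d emb t base live := ⟨1, 0, hlive, by rw [map_one, one_smul, Cert.pt_zero]⟩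
  have hemb : ∀ (ρ : M24), ∀ x ∈ orbSet d emb t base live, emb ρ • x ∈ orbSet d emb t base live := by
    rintro ρ _ ⟨σ, l, hl, rfl⟩
    exact ⟨ρ * σ, l, hl, by rw [map_mul, mul_smul]⟩
  have htt : t⁻¹ = t := inv_eq_of_mul_eq_one_right hI.setting.sq
  have ht : ∀ x ∈ orbSet d emb t base live, t • x ∈ orbSet d emb t base live := by
    rintro _ ⟨σ, l, hl, rfl⟩
    obtain ⟨k, hk, hT, -⟩ := O.mem_tab hO h3 hX hY σ⁻¹
    obtain ⟨st, hst⟩ := hcov l hl
    have h := coverRun_sound hI hd hO hok _ st 0 hst (fun k hk => by simp at hk) k hk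
    rw [← hT, ← hd, tau_eq hI.setting rfl] at h
    have := hemb σ _ h
    rw [smul_smul] at this ⊢
    convert this using 2
    rw [map_inv]; group
  suffices ∀ x ∈ orbSet d emb t base live, g • x ∈ orbSet d emb t base live from this _ hb
  induction hg using Subgroup.closure_induction'' with
  | one => intro x hx; rwa [one_smul]
  | mem z hz =>
    rcases hz with ⟨ρ, rfl⟩ | rfl
    · exact hemb ρ
    · exact ht
  | inv_mem z hz =>
    rcases hz with ⟨ρ, rfl⟩ | rfl
    · rw [← map_inv]; exact hemb _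
    · rw [htt]; exact ht
  | mul a b _ _ iha ihb =>
    intro x hx
    rw [mul_smul]
    exact iha _ (ihb x hx)

end Sound

end CfsgLib.J4DCE
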