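/-! Generated: words and a straight line program for elements of given orders in the fourth Janko group. -/
set_option autoImplicit false
set_option maxRecDepth 20000

namespace CfsgLib.J4DCE.LowData

def word29 : List Nat := [1, 3, 2, 3, 2, 0, 1, 0]

def word31 : List Nat := [0, 1, 0, 1, 3, 0, 1]

def word37 : List Nat := [3, 1, 0]

def word43 : List Nat := [3, 2, 3, 2, 3, 1, 0, 1]

def ops0 : List (Nat × Nat) := [(0, 1), (4, 0), (5, 1), (6, 0), (7, 1), (8, 0), (9, 2), (10, 0), (11, 2), (12, 0), (13, 2), (2, 0), (15, 1), (16, 0), (17, 1), (18, 0), (19, 2), (20, 0), (21, 1), (22, 0), (23, 2), (24, 0), (25, 2), (26, 0), (27, 1), (28, 0), (29, 1), (30, 0), (31, 2), (32, 0), (1, 0), (34, 1), (35, 0), (36, 2), (37, 0), (38, 2), (39, 0), (40, 2), (41, 0), (42, 2), (43, 3), (0, 2), (2, 45), (0, 46), (1, 47), (0, 48), (1, 49), (0, 50), (1, 51), (0, 52), (1, 53), (44, 54), (5, 2), (56, 0), (57, 2), (58, 0), (59, 2), (60, 0), (61, 1), (62, 0), (63, 1), (64, 3), (2, 0), (0, 66)]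

def ops1 : List (Nat × Nat) := [(1, 67), (0, 68), (1, 69), (0, 70), (1, 71), (0, 72), (2, 73), (0, 74), (2, 75), (65, 76), (55, 77), (61, 2), (79, 3), (1, 73), (80, 81), (78, 82), (33, 83), (0, 1), (2, 85), (0, 86), (2, 87), (0, 88), (1, 89), (0, 90), (2, 91), (0, 92), (1, 93), (0, 94), (1, 95), (0, 96), (2, 97), (0, 98), (2, 99), (0, 100), (1, 101), (0, 102), (84, 103), (7, 2), (105, 0), (106, 1), (107, 0), (108, 2), (109, 0), (110, 1), (111, 0), (112, 1), (113, 0), (114, 83), (2, 67), (0, 116), (1, 117), (0, 118), (2, 119), (0, 120), (1, 121), (0, 122), (2, 123), (0, 124), (2, 125), (0, 126), (115, 127), (104, 128), (21, 2), (130, 0)]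

def ops2 : List (Nat × Nat) := [(131, 2), (132, 0), (133, 2), (134, 0), (135, 1), (136, 0), (137, 1), (138, 0), (139, 83), (1, 91), (0, 141), (1, 142), (0, 143), (1, 144), (0, 145), (2, 146), (0, 147), (2, 148), (0, 149), (140, 150), (129, 151), (9, 1), (153, 0), (154, 2), (155, 0), (156, 2), (157, 0), (158, 1), (159, 0), (160, 1), (161, 0), (162, 1), (163, 0), (164, 1), (165, 0), (166, 2), (167, 0), (168, 1), (169, 0), (170, 83), (2, 117), (0, 172), (2, 173), (0, 174), (1, 175), (0, 176), (1, 177), (0, 178), (2, 179), (0, 180), (2, 181), (0, 182), (2, 183), (0, 184), (2, 185), (0, 186), (1, 187), (0, 188), (2, 189), (0, 190), (171, 191), (152, 192), (0, 2), (194, 0)]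

def ops3 : List (Nat × Nat) := [(195, 2), (196, 0), (197, 1), (198, 0), (199, 2), (200, 0), (201, 2), (202, 0), (203, 1), (204, 0), (205, 2), (206, 0), (207, 1), (208, 0), (209, 1), (210, 0), (211, 2), (212, 0), (213, 2), (214, 0), (215, 1), (216, 0), (217, 83), (1, 0), (0, 219), (1, 220), (0, 221), (2, 222), (0, 223), (1, 224), (0, 225), (1, 226), (0, 227), (2, 228), (0, 229), (1, 230), (0, 231), (2, 232), (0, 233), (2, 234), (0, 235), (1, 236), (0, 237), (1, 238), (0, 239), (2, 240), (0, 241), (218, 242), (193, 243), (34, 2), (245, 0), (246, 2), (247, 0), (248, 1), (249, 0), (250, 1), (251, 0), (252, 1), (253, 0), (254, 1), (255, 0), (256, 1), (257, 0), (258, 2)]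

def ops4 : List (Nat × Nat) := [(259, 0), (260, 1), (261, 0), (262, 2), (263, 0), (264, 1), (265, 0), (266, 2), (267, 0), (268, 2), (269, 0), (270, 2), (271, 0), (272, 1), (273, 0), (274, 2), (275, 0), (276, 1), (277, 0), (278, 1), (279, 0), (280, 1), (281, 0), (282, 1), (283, 0), (284, 1), (285, 0), (286, 2), (287, 0), (288, 2), (289, 0), (290, 2), (291, 0), (292, 2), (293, 293), (293, 294), (293, 295), (293, 296), (244, 297), (3, 0), (298, 299), (300, 298), (0, 3), (301, 302), (2, 0), (1, 173), (0, 305), (1, 306), (0, 307), (1, 308), (309, 3), (304, 310), (3, 14), (0, 1), (312, 313), (314, 298), (298, 315), (311, 316), (317, 317), (318, 318), (319, 318), (311, 310), (312, 314), (322, 298)]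

def ops5 : List (Nat × Nat) := [(298, 323), (321, 324), (325, 325), (326, 326), (327, 325), (3, 2), (2, 329), (299, 330), (1, 3), (332, 1), (333, 302), (334, 298), (298, 335), (331, 336), (337, 337), (338, 338), (339, 338), (328, 303), (303, 341), (340, 342), (328, 343), (320, 344), (303, 345), (298, 311), (347, 298), (348, 314), (349, 349), (350, 350), (350, 351), (352, 328), (353, 320), (302, 298), (298, 355), (299, 356), (354, 357), (358, 340), (359, 328), (360, 340), (346, 361), (362, 14), (298, 331), (364, 298), (365, 334), (366, 366), (367, 367), (367, 368), (298, 321), (370, 298), (371, 322), (372, 372), (373, 373), (372, 374), (375, 320), (352, 376), (303, 377), (369, 378), (375, 379), (369, 380), (357, 375), (382, 357), (383, 369), (384, 375), (385, 352), (386, 357)]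

def ops6 : List (Nat × Nat) := [(381, 387), (363, 388)]

def ops : List (Nat × Nat) := ops0 ++ ops1 ++ ops2 ++ ops3 ++ ops4 ++ ops5 ++ ops6

def size : Nat := 390
def iz : Nat := 14
def iu : Nat := 389

end CfsgLib.J4DCE.LowData
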