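import Cfsg.Agent.Lib.J4DCE.MatCert
import Cfsg.Agent.Lib.J4DCE.LowData

/-!
Two elements of the fourth Janko group of order eleven whose commutator is central and not trivial.
-/
set_option autoImplicit false
set_option maxRecDepth 20000

namespace CfsgLib.J4DCE.LowData

open CfsgLib.J4DCE.Mat

/-- element `k` of the program -/
noncomputable def el (acc : List ℕ) (k : ℕ) : ℕ := acc.getD (size - 1 - k) idM

/-- the commutator -/
noncomputable def comM (u z : ℕ) : ℕ := mulM (mulM (mulM u z) (powM u 10)) (powM z 10)

/-- the test on the two matrices -/
noncomputable def pairOK (u z : ℕ) : Bool :=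
  Nat.beq (powM z 11) idM && Nat.beq (powM u 11) idM &&
    CfsgLib.Presented.Vec.force (comM u z) fun c =>
      Nat.beq (mulM z c) (mulM c z) && Nat.beq (mulM u c) (mulM c u) &&
        (List.range 112).any fun i => !Nat.beq (rowM c i) (2 ^ i)

/-- the test at the end of the program -/
noncomputable def final (acc : List ℕ) : Bool := pairOK (el acc iu) (el acc iz)

set_option maxHeartbeats 0 in
theorem final_ok : runSLP final ops = true := by decide +kernel

end CfsgLib.J4DCE.LowData
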