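import Cfsg.Agent.Lib.J4DCE.OrbData

/-! Generated: steps of the coset table. -/
set_option autoImplicit false
set_option maxRecDepth 20000

namespace CfsgLib.J4DCE.Orb

theorem stepX_0 : stepOK chainC reps permX nxX 0 1265 = true := by decide +kernel

theorem stepX_1265 : stepOK chainC reps permX nxX 1265 1265 = true := by decide +kernel

theorem stepX_2530 : stepOK chainC reps permX nxX 2530 1265 = true := by decide +kernel

theorem stepX : ∀ k < reps.n, ∃ lo cnt, lo ≤ k ∧ k < lo + cnt ∧ stepOK chainC reps permX nxX lo cnt = true := by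
  intro k hk
  have hk : k < 3795 := hk
  rcases Nat.lt_or_ge k 1265 with h | h
  · exact ⟨0, 1265, Nat.zero_le _, h, stepX_0⟩
  rcases Nat.lt_or_ge k 2530 with h2 | h2
  · exact ⟨1265, 1265, h, h2, stepX_1265⟩
  exact ⟨2530, 1265, h2, hk, stepX_2530⟩

end CfsgLib.J4DCE.Orb
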