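import Cfsg.Agent.Lib.J4DCE.Cover

/-! Generated: the relators as products of conjugates of the involution. -/
set_option autoImplicit false
set_option maxRecDepth 20000

namespace CfsgLib.J4DCE.Rels

open CfsgLib.Presented (ATree NTree)

def rels : List Rel := [
  ⟨[0x8e106470e088010f13, 0x8e106441889a306701, 0x8e1064408789316812], 0xbdab49ca307b9ac5a928398a418820, 0xbdab49ca307b9ac5a928398a418820, false⟩,
  ⟨[0x8e106441889a306701, 0x8e1064408789316812, 0x8e106470e088010f13], 0xbdab49ca307b9ac5a928398a418820, 0xbdab49ca307b9ac5a928398a418820, false⟩,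
  ⟨[0x8e1064408789316812, 0x8e106470e088010f13, 0x8e106441889a306701], 0xbdab49ca307b9ac5a928398a418820, 0xbdab49ca307b9ac5a928398a418820, false⟩,
  ⟨[0xa234054542521889a8, 0x818ea06260431c111c, 0xa234054542521889a8, 0x9907086260430498b4], 0xb9813a49b02862c3a9235d9e4409d5, 0xb9813a49b02862c3a9235d9e4409d5, false⟩,
  ⟨[0x818ea06260431c111c, 0xa234054542521889a8, 0x9907086260430498b4, 0xa234054542521889a8], 0xb9813a49b02862c3a9235d9e4409d5, 0xb9813a49b02862c3a9235d9e4409d5, false⟩,
  ⟨[0xa234054542521889a8, 0x9907086260430498b4, 0xa234054542521889a8, 0x818ea06260431c111c], 0xb9813a49b02862c3a9235d9e4409d5, 0xb9813a49b02862c3a9235d9e4409d5, false⟩,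
  ⟨[0x9907086260430498b4, 0xa234054542521889a8, 0x818ea06260431c111c, 0xa234054542521889a8], 0xb9813a49b02862c3a9235d9e4409d5, 0xb9813a49b02862c3a9235d9e4409d5, false⟩,
  ⟨[0xa10c0e5241a10cb250, 0xa8145846e3001108a7, 0xe245081810f105aa06], 0xbdab49ca307b9ac5a928398a418820, 0xbdab49ca307b9ac5a928398a418820, true⟩]

/-- where the letters are in the table -/
def relIdx : List (List ℕ) := [[209, 3507, 3555], [3507, 3555, 209], [3555, 209, 3507], [0, 2750, 0, 805], [2750, 0, 805, 0], [0, 805, 0, 2750], [805, 0, 2750, 0], [1691, 2025, 941]]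


end CfsgLib.J4DCE.Rels
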