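import Cfsg.Agent.Lib.J4DCE.OrbCheck
import Cfsg.Agent.Lib.J4DCE.OrbStepX
import Cfsg.Agent.Lib.J4DCE.OrbStepY
import Cfsg.Agent.Lib.J4DCE.RelData
import Cfsg.Agent.Lib.J4M24.Main

/-!
The copy of the largest Mathieu group inside the presented fourth Janko group, and the relators as
products of conjugates of the involution.
-/
set_option autoImplicit false
set_option maxRecDepth 20000

namespace CfsgLib.J4DCE.J

open Cfsg
open CfsgLib.Presented.J4M24 (jx jy jx_ne_one j_rels exists_hom M24_rels card_P7_le gx gy)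

attribute [local irreducible] enc pmask tImg

/-- the image of `t` -/
noncomputable def jt : Cfsg.Spor.J4 := PresentedGroup.mk _ Cfsg.Spor.J4.t

theorem exists_emb : ∃ e : M24 →* Cfsg.Spor.J4, e mX = jx ∧ e mY = jy := by
  obtain ⟨φ, hx, hy⟩ := exists_hom M24_rels
  obtain ⟨ψ, hx', hy'⟩ := exists_hom j_rels
  have : Finite Presented.J4M24.P7 := Nat.finite_of_card_ne_zero card_P7_le.1
  have hsur : Function.Surjective φ := by
    rw [← MonoidHom.range_eq_top, eq_top_iff, ← closure_gens, Subgroup.closure_le]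
    rintro z (rfl | rfl)
    · exact ⟨gx, hx⟩
    · exact ⟨gy, hy⟩
  have hbij := hsur.bijective_of_nat_card_le (CfsgLib.Golay.natCard_M24.symm ▸ card_P7_le.2)
  let e := MulEquiv.ofBijective φ hbij
  refine ⟨ψ.comp e.symm.toMonoidHom, ?_, ?_⟩
  · show ψ (e.symm mX) = jx
    rw [show e.symm mX = gx from e.symm_apply_eq.2 hx.symm, hx']
  · show ψ (e.symm mY) = jy
    rw [show e.symm mY = gy from e.symm_apply_eq.2 hy.symm, hy']

/-- the embedding -/
noncomputable def jemb : M24 →* Cfsg.Spor.J4 := exists_emb.choose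

theorem jemb_X : jemb mX = jx := exists_emb.choose_spec.1
theorem jemb_Y : jemb mY = jy := exists_emb.choose_spec.2

theorem jemb_injective : Function.Injective jemb := by
  have : IsSimpleGroup M24 := CfsgLib.Golay.isSimpleGroup_M24
  rw [← MonoidHom.ker_eq_bot_iff]
  refine (IsSimpleGroup.eq_bot_or_eq_top_of_normal _ inferInstance).resolve_right fun h => jx_ne_one ?_
  rw [← jemb_X]
  exact MonoidHom.mem_ker.1 (h ▸ Subgroup.mem_top mX)

/-- the product `y x y⁻¹ x y x y⁻¹ x` -/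
noncomputable def pU : M24 := mY * mX * mY⁻¹ * mX * mY * mX * mY⁻¹ * mX
/-- the product `(y x y x y x y)³` -/
noncomputable def pa : M24 := (mY * mX * mY * mX * mY * mX * mY) ^ 3
/-- the product `(x y)³ y (x y)⁶ y` -/
noncomputable def pb : M24 := (mX * mY) ^ 3 * mY * (mX * mY) ^ 6 * mY
/-- the product `(y x)⁴ y⁻¹ x` -/
noncomputable def pv : M24 := (mY * mX) ^ 4 * mY⁻¹ * mX
/-- the element `y x y (x y⁻¹)² (x y)³` -/
noncomputable def pc : M24 := mY * mX * mY * ((mX * mY⁻¹) ^ 2) * ((mX * mY) ^ 3)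

theorem extra_eq :
    jt * jt = 1 ∧ jt⁻¹ * (jemb pc)⁻¹ * jt * jemb pc = 1 ∧ jt⁻¹ * jx⁻¹ * jt * jx = 1 ∧
    (jemb mY * ((jemb pU)⁻¹ * jt * jemb pU)) ^ 3 = 1 ∧
    (jemb pa * jt * ((jemb pb)⁻¹ * jt * jemb pb)) ^ 2 = 1 := by
  have hm : ∀ r ∈ Cfsg.Spor.J4.extra,
      PresentedGroup.mk (Cfsg.Spor.coxRelators Cfsg.Spor.J4.edges ∪ {r | r ∈ Cfsg.Spor.J4.extra}) r = 1 :=
    fun r hr => PresentedGroup.one_of_mem (Or.inr hr)
  have key : ∀ φ : FreeGroup Cfsg.Spor.J4.Gen →* Cfsg.Spor.J4, (∀ r ∈ Cfsg.Spor.J4.extra, φ r = 1) →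
      ∀ a b c, φ Cfsg.Spor.J4.x = a → φ Cfsg.Spor.J4.y = b → φ Cfsg.Spor.J4.t = c →
      c * c = 1 ∧ c⁻¹ * (b * a * b * ((a * b⁻¹) ^ 2) * ((a * b) ^ 3))⁻¹ * c * (b * a * b * ((a * b⁻¹) ^ 2) * ((a * b) ^ 3)) = 1 ∧
      c⁻¹ * a⁻¹ * c * a = 1 ∧
      (b * ((b * a * b⁻¹ * a * b * a * b⁻¹ * a)⁻¹ * c * (b * a * b⁻¹ * a * b * a * b⁻¹ * a))) ^ 3 = 1 ∧
      ((b * a * b * a * b * a * b) ^ 3 * c * (((a * b) ^ 3 * b * (a * b) ^ 6 * b)⁻¹ * c * ((a * b) ^ 3 * b * (a * b) ^ 6 * b))) ^ 2 = 1 := by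
    intro φ h a b c ha hb hc
    simp only [Cfsg.Spor.J4.extra, List.forall_mem_cons, map_mul, map_pow, map_inv, ha, hb, hc] at h
    obtain ⟨-, -, -, -, -, -, -, h7, h8, h9, h10, h11, -⟩ := h
    exact ⟨by rw [← pow_two]; exact h7, h8, h9, h10, h11⟩
  obtain ⟨h7, h8, h9, h10, h11⟩ := key _ hm jx jy jt rfl rfl rfl
  refine ⟨h7, ?_, h9, ?_, ?_⟩
  · simpa only [pc, map_mul, map_pow, map_inv, jemb_X, jemb_Y] using h8
  · simpa only [pU, map_mul, map_pow, map_inv, jemb_X, jemb_Y] using h10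
  · simpa only [pa, pb, map_mul, map_pow, map_inv, jemb_X, jemb_Y] using h11

theorem jt_sq : jt * jt = 1 := extra_eq.1

theorem commute_of_comm {G : Type*} [Group G] {t c : G} (h : t⁻¹ * c⁻¹ * t * c = 1) : c * t = t * c := by
  have := congrArg (fun z => c * t * z) h
  simp [← mul_assoc] at this
  exact this.symm

theorem pk_permX : pk mX.1 = Orb.permX := Nat.eq_of_beq_eq_true (by decide +kernel)
theorem pk_permY : pk mY.1 = Orb.permY := Nat.eq_of_beq_eq_true (by decide +kernel)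

theorem one_fix : tImg (pk 1) Orb.T0 = Orb.T0 := Nat.eq_of_beq_eq_true (by decide +kernel)

theorem chainC_gens : Orb.chainC.GensIn (centQ jemb jt Orb.T0) := by
  have hX : mX ∈ centQ jemb jt Orb.T0 := mem_centQ (Nat.eq_of_beq_eq_true (by decide +kernel))
    (by rw [jemb_X]; exact commute_of_comm extra_eq.2.2.1)
  have hC : pc ∈ centQ jemb jt Orb.T0 := mem_centQ (Nat.eq_of_beq_eq_true (by decide +kernel))
    (commute_of_comm extra_eq.2.1)
  intro n hn
  have hn' : n < 4 := hn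
  obtain rfl | rfl | rfl | rfl : n = 0 ∨ n = 1 ∨ n = 2 ∨ n = 3 := by omega
  · exact ⟨mX, hX, Nat.eq_of_beq_eq_true (by decide +kernel), Nat.eq_of_beq_eq_true (by decide +kernel)⟩
  · exact ⟨mX⁻¹, Subgroup.inv_mem _ hX, Nat.eq_of_beq_eq_true (by decide +kernel), Nat.eq_of_beq_eq_true (by decide +kernel)⟩
  · exact ⟨pc, hC, Nat.eq_of_beq_eq_true (by decide +kernel), Nat.eq_of_beq_eq_true (by decide +kernel)⟩
  · exact ⟨pc⁻¹, Subgroup.inv_mem _ hC, Nat.eq_of_beq_eq_true (by decide +kernel), Nat.eq_of_beq_eq_true (by decide +kernel)⟩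

theorem carriesX : Carries (centQ jemb jt Orb.orb.T0) Orb.orb.R mX :=
  carries_of_stepOK Orb.chainC_valid chainC_gens Orb.reps_ok pk_permX Orb.stepX

theorem carriesY : Carries (centQ jemb jt Orb.orb.T0) Orb.orb.R mY :=
  carries_of_stepOK Orb.chainC_valid chainC_gens Orb.reps_ok pk_permY Orb.stepY

theorem setting : Setting jemb jt Orb.T0 := OrbTab.setting Orb.orb_ok jt_sq one_fix carriesX carriesY

theorem inOrb_tab {k : ℕ} (hk : k < 3795) : InOrb Orb.T0 (Orb.orb.T k) := by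
  obtain ⟨g, hg, -⟩ := Reps.exists_g Orb.reps_ok (show k < Orb.reps.n from hk)
  refine ⟨g, ?_⟩
  rw [hg]
  exact (Orb.orb_ok.2 k hk).1

theorem inOrb_of_idx {k T : ℕ} (hk : k < 3795) (h : Nat.beq (Orb.orb.T k) T = true) : InOrb Orb.T0 T :=
  Nat.eq_of_beq_eq_true h ▸ inOrb_tab hk

/-- the letters of a relator are in the orbit -/
noncomputable def letOK (us idx : List ℕ) : Bool :=
  Nat.beq us.length idx.length && (us.zip idx).all fun p => Nat.blt p.2 3795 && Nat.beq (Orb.orb.T p.2) p.1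

theorem inOrb_of_letOK {us idx : List ℕ} (h : letOK us idx = true) : ∀ u ∈ us, InOrb Orb.T0 u := by
  simp only [letOK, Bool.and_eq_true, List.all_eq_true, Nat.blt_eq] at h
  intro u hu
  obtain ⟨i, hi, rfl⟩ := List.getElem_of_mem hu
  have hl : i < idx.length := (Nat.eq_of_beq_eq_true h.1) ▸ hi
  obtain ⟨h1, h2⟩ := h.2 (us[i], idx[i]) (List.mem_iff_getElem.2 ⟨i, by simp; omega, by simp⟩)
  exact inOrb_of_idx h1 h2

theorem inOrb_T0 : InOrb Orb.T0 Orb.T0 := ⟨1, one_fix⟩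

theorem tau_T0 : tau jemb jt Orb.T0 Orb.T0 = jt := by
  rw [tau_eq setting (σ := (1 : M24)) one_fix, map_one]; group

theorem conj_t (σ : M24) : (jemb σ)⁻¹ * jt * jemb σ = tau jemb jt Orb.T0 (tImg (pk (σ⁻¹ : M24).1) Orb.T0) := by
  rw [tau_eq setting rfl, map_inv, inv_inv]

/-- the relator `k` -/
noncomputable abbrev rl (k : ℕ) : Rel := Rels.rels.getD k ⟨[], pid, pid, false⟩

/-- a relator value -/
def Valid (us : List ℕ) (σ : M24) : Prop :=
  (∀ u ∈ us, InOrb Orb.T0 u) ∧ val jemb jt Orb.T0 us * jemb σ = 1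

theorem Valid.rot {u : ℕ} {us : List ℕ} {σ : M24} (h : Valid (u :: us) σ) :
    Valid (us ++ [tImg (pk σ.1) u]) σ := by
  obtain ⟨ho, h⟩ := h
  have hu := ho u List.mem_cons_self
  refine ⟨fun v hv => ?_, ?_⟩
  · rcases List.mem_append.1 hv with hv | hv
    · exact ho v (List.mem_cons_of_mem _ hv)
    · rw [List.mem_singleton.1 hv]; exact hu.img σ
  · rw [val_cons, mul_assoc] at h
    have e : val jemb jt Orb.T0 us * jemb σ = tau jemb jt Orb.T0 u :=
      (eq_inv_of_mul_eq_one_right h).trans (inv_eq_of_mul_eq_one_right (tau_sq setting u))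
    rw [val, List.map_append, List.prod_append, List.map_singleton, List.prod_singleton, mul_assoc,
      ← emb_mul_tau setting hu, ← mul_assoc]
    show val jemb jt Orb.T0 us * jemb σ * _ = 1
    rw [e, tau_sq setting]

theorem relOK_of_valid {X : Type*} [MulAction Cfsg.Spor.J4 X] (base : X) {R : Rel} {us : List ℕ} {σ : M24}
    (h : Valid us σ) (hb : R.base = false) (hus : R.us = us) (hs : pk σ.1 = R.s) (hsi : pk (σ⁻¹ : M24).1 = R.si) :
    RelOK jemb jt Orb.T0 base R := by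
  refine ⟨hus ▸ h.1, σ, hs, hsi, ?_⟩
  rw [hb, if_neg (by simp), hus]
  exact h.2

theorem valid_eleven : Valid (rl 0).us 1 := by
  have hA : InOrb Orb.T0 (tImg (pk (pU⁻¹ : M24).1) Orb.T0) := inOrb_T0.img _
  refine ⟨inOrb_of_letOK (idx := Rels.relIdx.getD 0 []) (by decide +kernel), ?_⟩
  have e0 : (rl 0).us = [tImg (pk mY.1) (tImg (pk (pU⁻¹ : M24).1) Orb.T0),
      tImg (pk (mY * mY : M24).1) (tImg (pk (pU⁻¹ : M24).1) Orb.T0),
      tImg (pk (mY * (mY * mY) : M24).1) (tImg (pk (pU⁻¹ : M24).1) Orb.T0)] :=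
    Presented.listEq_eq (by decide +kernel)
  have h := extra_eq.2.2.2.1
  rw [conj_t] at h
  rw [e0, map_one, mul_one, val_cons, val_cons, val_cons, val_nil, mul_one, ← conj_tau setting hA,
    ← conj_tau setting hA, ← conj_tau setting hA, mY_cube, map_one, map_mul]
  rw [pow_succ, pow_succ, pow_succ, pow_zero, one_mul] at h
  generalize tau jemb jt Orb.T0 (tImg (pk (pU⁻¹ : M24).1) Orb.T0) = T at h
  have hy3 : jemb mY * (jemb mY * jemb mY) = 1 := by rw [← map_mul, ← map_mul, mY_cube, map_one]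
  have hy : (jemb mY)⁻¹ = jemb mY * jemb mY := inv_eq_of_mul_eq_one_right hy3
  calc jemb mY * T * (jemb mY)⁻¹ * (jemb mY * jemb mY * T * (jemb mY * jemb mY)⁻¹ * (1 * T * 1⁻¹))
      = jemb mY * T * jemb mY * T * ((jemb mY)⁻¹ * (jemb mY)⁻¹) * T := by group
    _ = jemb mY * T * (jemb mY * T) * (jemb mY * T) := by
        rw [hy]
        have e : jemb mY * jemb mY * (jemb mY * jemb mY) = jemb mY := by
          rw [mul_assoc, hy3, mul_one]
        rw [e]; group
    _ = 1 := h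

theorem valid_twelve : Valid (rl 3).us (pa * pa) := by
  have hB : InOrb Orb.T0 (tImg (pk (pb⁻¹ : M24).1) Orb.T0) := inOrb_T0.img _
  refine ⟨inOrb_of_letOK (idx := Rels.relIdx.getD 3 []) (by decide +kernel), ?_⟩
  have e0 : (rl 3).us = [Orb.T0, tImg (pk pa.1) (tImg (pk (pb⁻¹ : M24).1) Orb.T0), Orb.T0,
      tImg (pk (pa * pa : M24).1) (tImg (pk (pb⁻¹ : M24).1) Orb.T0)] :=
    Presented.listEq_eq (by decide +kernel)
  have hfix : tImg (pk pa.1) Orb.T0 = Orb.T0 := Nat.eq_of_beq_eq_true (by decide +kernel)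
  have hc := setting.stab pa hfix
  have h := extra_eq.2.2.2.2
  rw [conj_t] at h
  rw [e0, val_cons, val_cons, val_cons, val_cons, val_nil, mul_one, tau_T0, ← conj_tau setting hB,
    ← conj_tau setting hB, map_mul]
  rw [pow_two] at h
  generalize tau jemb jt Orb.T0 (tImg (pk (pb⁻¹ : M24).1) Orb.T0) = T at h
  generalize jemb pa = a at h hc
  calc jt * (a * T * a⁻¹ * (jt * (a * a * T * (a * a)⁻¹))) * (a * a)
      = jt * (a * T * a⁻¹ * (jt * a) * (a * T)) := by group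
    _ = jt * (a * T * a⁻¹ * (a * jt) * (a * T)) := by rw [hc]
    _ = jt * a * T * (jt * a * T) := by group
    _ = a * jt * T * (a * jt * T) := by rw [hc]
    _ = 1 := h

theorem relsOK {X : Type*} [MulAction Cfsg.Spor.J4 X] (base : X) :
    ∀ R ∈ Rels.rels.take 7, RelOK jemb jt Orb.T0 base R := by
  have s0 : ∀ k ∈ [0, 1, 2], (Nat.beq (pk (1 : M24).1) (rl k).s && Nat.beq (pk ((1 : M24)⁻¹ : M24).1) (rl k).si &&
      !(rl k).base) = true := by decide +kernel
  have s3 : ∀ k ∈ [3, 4, 5, 6], (Nat.beq (pk (pa * pa : M24).1) (rl k).s &&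
      Nat.beq (pk ((pa * pa)⁻¹ : M24).1) (rl k).si && !(rl k).base) = true := by decide +kernel
  have v1 : Valid (rl 1).us 1 := by
    have e : (rl 1).us = (rl 0).us.tail ++ [tImg (pk (1 : M24).1) ((rl 0).us.headD 0)] :=
      Presented.listEq_eq (by decide +kernel)
    exact e ▸ Valid.rot (u := (rl 0).us.headD 0) (us := (rl 0).us.tail) valid_eleven
  have v2 : Valid (rl 2).us 1 := by
    have e : (rl 2).us = (rl 1).us.tail ++ [tImg (pk (1 : M24).1) ((rl 1).us.headD 0)] :=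
      Presented.listEq_eq (by decide +kernel)
    exact e ▸ Valid.rot (u := (rl 1).us.headD 0) (us := (rl 1).us.tail) v1
  have v4 : Valid (rl 4).us (pa * pa) := by
    have e : (rl 4).us = (rl 3).us.tail ++ [tImg (pk (pa * pa : M24).1) ((rl 3).us.headD 0)] :=
      Presented.listEq_eq (by decide +kernel)
    exact e ▸ Valid.rot (u := (rl 3).us.headD 0) (us := (rl 3).us.tail) valid_twelve
  have v5 : Valid (rl 5).us (pa * pa) := by
    have e : (rl 5).us = (rl 4).us.tail ++ [tImg (pk (pa * pa : M24).1) ((rl 4).us.headD 0)] :=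
      Presented.listEq_eq (by decide +kernel)
    exact e ▸ Valid.rot (u := (rl 4).us.headD 0) (us := (rl 4).us.tail) v4
  have v6 : Valid (rl 6).us (pa * pa) := by
    have e : (rl 6).us = (rl 5).us.tail ++ [tImg (pk (pa * pa : M24).1) ((rl 5).us.headD 0)] :=
      Presented.listEq_eq (by decide +kernel)
    exact e ▸ Valid.rot (u := (rl 5).us.headD 0) (us := (rl 5).us.tail) v5
  intro R hR
  obtain ⟨k, hk7, rfl⟩ : ∃ k < 7, rl k = R := by
    obtain ⟨k, hk, e⟩ := List.getElem_of_mem hR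
    have hk7 : k < 7 := lt_of_lt_of_le hk (List.length_take_le 7 _)
    refine ⟨k, hk7, ?_⟩
    rw [← e, List.getElem_take]
    exact List.getD_eq_getElem _ _ _
  have p0 : ∀ k ∈ [0, 1, 2], Valid (rl k).us 1 → RelOK jemb jt Orb.T0 base (rl k) := fun k hk v => by
    have h := s0 k hk
    simp only [Bool.and_eq_true, Bool.not_eq_true'] at h
    exact relOK_of_valid base v h.2 rfl (Nat.eq_of_beq_eq_true h.1.1) (Nat.eq_of_beq_eq_true h.1.2)
  have p3 : ∀ k ∈ [3, 4, 5, 6], Valid (rl k).us (pa * pa) → RelOK jemb jt Orb.T0 base (rl k) := fun k hk v => by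
    have h := s3 k hk
    simp only [Bool.and_eq_true, Bool.not_eq_true'] at h
    exact relOK_of_valid base v h.2 rfl (Nat.eq_of_beq_eq_true h.1.1) (Nat.eq_of_beq_eq_true h.1.2)
  obtain rfl | rfl | rfl | rfl | rfl | rfl | rfl : k = 0 ∨ k = 1 ∨ k = 2 ∨ k = 3 ∨ k = 4 ∨ k = 5 ∨ k = 6 := by omega
  · exact p0 0 (by decide) valid_eleven
  · exact p0 1 (by decide) v1
  · exact p0 2 (by decide) v2
  · exact p3 3 (by decide) valid_twelve
  · exact p3 4 (by decide) v4
  · exact p3 5 (by decide) v5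
  · exact p3 6 (by decide) v6

/-- the element `w` -/
noncomputable def jw : Cfsg.Spor.J4 := (jemb mY * ((jemb pv)⁻¹ * jt * jemb pv)) ^ 3

theorem val_w : val jemb jt Orb.T0 (rl 7).us = jw := by
  have hA : InOrb Orb.T0 (tImg (pk (pv⁻¹ : M24).1) Orb.T0) := inOrb_T0.img _
  have e0 : (rl 7).us = [tImg (pk mY.1) (tImg (pk (pv⁻¹ : M24).1) Orb.T0),
      tImg (pk (mY * mY : M24).1) (tImg (pk (pv⁻¹ : M24).1) Orb.T0),
      tImg (pk (mY * (mY * mY) : M24).1) (tImg (pk (pv⁻¹ : M24).1) Orb.T0)] :=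
    Presented.listEq_eq (by decide +kernel)
  rw [jw, conj_t, e0, val_cons, val_cons, val_cons, val_nil, mul_one, ← conj_tau setting hA,
    ← conj_tau setting hA, ← conj_tau setting hA, mY_cube, map_one, map_mul, pow_succ, pow_succ, pow_succ,
    pow_zero]
  generalize tau jemb jt Orb.T0 (tImg (pk (pv⁻¹ : M24).1) Orb.T0) = T
  have hy3 : jemb mY * (jemb mY * jemb mY) = 1 := by rw [← map_mul, ← map_mul, mY_cube, map_one]
  have hy : (jemb mY)⁻¹ = jemb mY * jemb mY := inv_eq_of_mul_eq_one_right hy3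
  calc jemb mY * T * (jemb mY)⁻¹ * (jemb mY * jemb mY * T * (jemb mY * jemb mY)⁻¹ * (1 * T * 1⁻¹))
      = jemb mY * T * jemb mY * T * ((jemb mY)⁻¹ * (jemb mY)⁻¹) * T := by group
    _ = 1 * (jemb mY * T) * (jemb mY * T) * (jemb mY * T) := by
        rw [hy]
        have e : jemb mY * jemb mY * (jemb mY * jemb mY) = jemb mY := by
          rw [mul_assoc, hy3, mul_one]
        rw [e]; group

theorem w_inOrb : ∀ u ∈ (rl 7).us, InOrb Orb.T0 u :=
  inOrb_of_letOK (idx := Rels.relIdx.getD 7 []) (by decide +kernel)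

end CfsgLib.J4DCE.J
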