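import Cfsg.Agent.Lib.J4DCE.Perm24
import Cfsg.Agent.Lib.Presented.Tree
import Cfsg.Agent.Lib.Presented.Vec
import Mathlib.GroupTheory.GroupAction.Defs

/-!
Kernel-checkable certificates of double coset enumerations: a group generated by a copy of the group of
the code and an involution whose conjugates are indexed by triples of masks.
-/
set_option autoImplicit false
set_option maxRecDepth 4000

namespace CfsgLib.J4DCE

open Cfsg
open CfsgLib.Presented (ATree NTree listEq listEq_eq Vec.force_eq)

attribute [local irreducible] enc pmask tImg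

/-- `τ_r • P i = emb g • P j` (`r = 0` stands for the identity), with its justification -/
structure Fact where
  r : ℕ
  nr : ℕ
  nri : ℕ
  i : ℕ
  j : ℕ
  g : ℕ
  gi : ℕ
  rule : ℕ
  k : ℕ
  ig : ℕ
  igi : ℕ
  steps : ℕ

/-- a relator `τ us₁ ⋯ τ usₘ * emb s`, equal to one, or (`base`) `τ us₁ ⋯ τ usₘ` fixing the base point -/
structure Rel where
  us : List ℕ
  s : ℕ
  si : ℕ
  base : Bool

/-- a certificate -/
structure Cert where
  T0 : ℕ
  facts : ATree Fact
  par : NTree
  rels : List Rel

/-- the relator `k` -/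
noncomputable def Cert.rel (d : Cert) (k : ℕ) : Rel := d.rels.getD k ⟨[], pid, pid, false⟩

/-- push a letter, cancelling -/
noncomputable def pushT (u : ℕ) : List ℕ → List ℕ
  | [] => [u]
  | h :: l => cond (Nat.beq h u) l (u :: h :: l)

/-- push the images of letters, the last one first -/
noncomputable def pushImgs (g : ℕ) : List ℕ → List ℕ → List ℕ
  | [], acc => acc
  | u :: us, acc => pushT (tImg g u) (pushImgs g us acc)

/-- read a path -/
noncomputable def Cert.walk (d : Cert) (k : ℕ) (self : Fact) (j g : ℕ) (tgt : List ℕ) :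
    ℕ → ℕ → ℕ → ℕ → List ℕ → Bool
  | 0, _, _, _, _ => false
  | fuel + 1, st, cur, q, acc =>
    Presented.Vec.force (st % 8192) fun dd =>
    cond (Nat.beq dd 0) (Nat.beq cur j && Nat.beq q g && listEq acc tgt)
      (cond (Nat.beq dd 1)
        ((!(d.rel self.k).base || Nat.beq cur 0) &&
          Presented.Vec.force (pmul (pmul self.ig (pmul (d.rel self.k).si self.igi)) q) fun q' =>
            d.walk k self j g tgt fuel (st / 8192) cur q' (pushImgs self.ig (d.rel self.k).us acc))
        (Nat.blt ((dd - 2) / 2) k &&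
          cond (Nat.beq ((dd - 2) % 2) 0)
            (Nat.beq (d.facts.get ((dd - 2) / 2)).i cur &&
              cond (Nat.beq (d.facts.get ((dd - 2) / 2)).r 0)
                (Presented.Vec.force (pmul q (d.facts.get ((dd - 2) / 2)).g) fun q' =>
                  d.walk k self j g tgt fuel (st / 8192) (d.facts.get ((dd - 2) / 2)).j q' acc)
                (Presented.Vec.force (tImg q (d.facts.get ((dd - 2) / 2)).r) fun u =>
                  Presented.Vec.force (pmul q (d.facts.get ((dd - 2) / 2)).g) fun q' =>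
                    d.walk k self j g tgt fuel (st / 8192) (d.facts.get ((dd - 2) / 2)).j q' (pushT u acc)))
            (Nat.beq (d.facts.get ((dd - 2) / 2)).j cur &&
              Presented.Vec.force (pmul q (d.facts.get ((dd - 2) / 2)).gi) fun q' =>
                cond (Nat.beq (d.facts.get ((dd - 2) / 2)).r 0)
                  (d.walk k self j g tgt fuel (st / 8192) (d.facts.get ((dd - 2) / 2)).i q' acc)
                  (Presented.Vec.force (tImg q' (d.facts.get ((dd - 2) / 2)).r) fun u =>
                    d.walk k self j g tgt fuel (st / 8192) (d.facts.get ((dd - 2) / 2)).i q' (pushT u acc)))))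

/-- the permutations in a fact are valid and its letter is in the orbit -/
noncomputable def Cert.factOK (d : Cert) (f : Fact) : Bool :=
  okPerm f.g f.gi && okPerm f.ig f.igi && okPerm f.nr f.nri && (Nat.beq f.r 0 || Nat.beq (tImg f.nr d.T0) f.r)

/-- check a fact -/
noncomputable def Cert.chkFact (d : Cert) (k : ℕ) : Bool :=
  d.factOK (d.facts.get k) &&
  cond (Nat.beq (d.facts.get k).rule 0)
    (Nat.blt (d.facts.get k).i (d.facts.get k).j && Nat.beq (d.par.get 13 (d.facts.get k).j) k &&
      Nat.beq (d.facts.get k).g pid && !Nat.beq (d.facts.get k).r 0)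
    (cond (Nat.beq (d.facts.get k).rule 1)
      (Nat.beq (d.facts.get k).r 0 && Nat.beq (d.facts.get k).i 0 && Nat.beq (d.facts.get k).j 0)
      (d.walk k (d.facts.get k) (d.facts.get k).j (d.facts.get k).g
        (cond (Nat.beq (d.facts.get k).r 0) [] [(d.facts.get k).r]) 400 (d.facts.get k).steps
        (d.facts.get k).i pid []))

/-- check `n` facts from `k` on -/
noncomputable def Cert.chkRange (d : Cert) : ℕ → ℕ → Bool
  | 0, _ => true
  | n + 1, k => d.chkFact k && d.chkRange n (k + 1)

/-- the facts in `[lo, hi)` pass -/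
def Cert.OKOn (d : Cert) (lo hi : ℕ) : Prop := ∀ k, lo ≤ k → k < hi → d.chkFact k = true

theorem Cert.okOn_of_chkRange (d : Cert) : ∀ n k, d.chkRange n k = true → d.OKOn k (k + n)
  | 0, k, _ => fun j h1 h2 => absurd h2 (by omega)
  | n + 1, k, h => by
    intro j h1 h2
    simp only [Cert.chkRange, Bool.and_eq_true] at h
    rcases Nat.eq_or_lt_of_le h1 with e | e
    · exact e ▸ h.1
    · exact d.okOn_of_chkRange n (k + 1) h.2 j e (by omega)

theorem Cert.OKOn.append {d : Cert} {a b c : ℕ} (h1 : d.OKOn a b) (h2 : d.OKOn b c) : d.OKOn a c :=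
  fun k ha hc => (Nat.lt_or_ge k b).elim (fun h => h1 k ha h) (fun h => h2 k h hc)

section Sound

variable {G : Type*} [Group G]

/-- the conjugates of the involution -/
noncomputable def tau (emb : M24 →* G) (t : G) (T0 T : ℕ) : G := by
  classical
  exact if h : ∃ σ : M24, tImg (pk σ.1) T0 = T then emb h.choose * t * (emb h.choose)⁻¹ else 1

/-- a letter, `0` standing for the identity -/
noncomputable def ltr (emb : M24 →* G) (t : G) (T0 r : ℕ) : G := if r = 0 then 1 else tau emb t T0 r

/-- the product of letters -/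
noncomputable def val (emb : M24 →* G) (t : G) (T0 : ℕ) (w : List ℕ) : G := (w.map (tau emb t T0)).prod

/-- a triple in the orbit -/
def InOrb (T0 T : ℕ) : Prop := ∃ σ : M24, tImg (pk σ.1) T0 = T

/-- the hypotheses on the involution -/
structure Setting (emb : M24 →* G) (t : G) (T0 : ℕ) : Prop where
  sq : t * t = 1
  one : tImg (pk 1) T0 = T0
  stab : ∀ σ : M24, tImg (pk σ.1) T0 = T0 → emb σ * t = t * emb σ

variable {emb : M24 →* G} {t : G} {T0 : ℕ}

theorem pmul_coe (a b : M24) : pmul (pk a.1) (pk b.1) = pk (a * b : M24).1 := pmul_pk _ _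

theorem tImg_coe (a b : M24) (T : ℕ) : tImg (pk a.1) (tImg (pk b.1) T) = tImg (pk (a * b : M24).1) T :=
  tImg_mul _ _ _

theorem pid_coe : pid = pk (1 : M24).1 := pk_one.symm

theorem tau_eq (hS : Setting emb t T0) {σ : M24} {T : ℕ} (h : tImg (pk σ.1) T0 = T) :
    tau emb t T0 T = emb σ * t * (emb σ)⁻¹ := by
  classical
  have he : ∃ σ : M24, tImg (pk σ.1) T0 = T := ⟨σ, h⟩
  rw [tau, dif_pos he]
  have h1 : tImg (pk (σ⁻¹ * he.choose : M24).1) T0 = T0 := by
    rw [← tImg_coe, he.choose_spec, ← h, tImg_coe, inv_mul_cancel]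
    exact hS.one
  have h2 := hS.stab _ h1
  rw [map_mul, map_inv] at h2
  calc emb he.choose * t * (emb he.choose)⁻¹
      = emb σ * (((emb σ)⁻¹ * emb he.choose) * t) * (emb he.choose)⁻¹ := by group
    _ = emb σ * (t * ((emb σ)⁻¹ * emb he.choose)) * (emb he.choose)⁻¹ := by rw [h2]
    _ = emb σ * t * (emb σ)⁻¹ := by group

theorem InOrb.img {T : ℕ} (h : InOrb T0 T) (ρ : M24) : InOrb T0 (tImg (pk ρ.1) T) := by
  obtain ⟨σ, rfl⟩ := h
  exact ⟨ρ * σ, (tImg_coe _ _ _).symm⟩

theorem conj_tau (hS : Setting emb t T0) {T : ℕ} (h : InOrb T0 T) (ρ : M24) :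
    emb ρ * tau emb t T0 T * (emb ρ)⁻¹ = tau emb t T0 (tImg (pk ρ.1) T) := by
  obtain ⟨σ, rfl⟩ := h
  rw [tau_eq hS rfl, tau_eq hS (σ := ρ * σ) (tImg_coe _ _ _).symm, map_mul]
  group

theorem emb_mul_tau (hS : Setting emb t T0) {T : ℕ} (h : InOrb T0 T) (ρ : M24) :
    emb ρ * tau emb t T0 T = tau emb t T0 (tImg (pk ρ.1) T) * emb ρ := by
  rw [← conj_tau hS h ρ]; group

theorem tau_sq (hS : Setting emb t T0) (T : ℕ) : tau emb t T0 T * tau emb t T0 T = 1 := by
  classical
  rw [tau]
  split
  · next h =>
    calc emb h.choose * t * (emb h.choose)⁻¹ * (emb h.choose * t * (emb h.choose)⁻¹)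
        = emb h.choose * (t * t) * (emb h.choose)⁻¹ := by group
      _ = 1 := by rw [hS.sq]; group
  · rw [mul_one]

theorem val_cons (u : ℕ) (w : List ℕ) : val emb t T0 (u :: w) = tau emb t T0 u * val emb t T0 w := by
  simp [val]

theorem val_nil : val emb t T0 [] = 1 := rfl

theorem val_pushT (hS : Setting emb t T0) (u : ℕ) (w : List ℕ) :
    val emb t T0 (pushT u w) = tau emb t T0 u * val emb t T0 w := by
  cases w with
  | nil => simp [pushT, val]
  | cons h l =>
    rw [pushT]
    cases hb : Nat.beq h u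
    · rw [cond_false, val_cons]
    · rw [cond_true, Nat.eq_of_beq_eq_true hb, val_cons, ← mul_assoc, tau_sq hS, one_mul]

theorem conj_prod (hS : Setting emb t T0) (ρ : M24) : ∀ us : List ℕ, (∀ u ∈ us, InOrb T0 u) →
    (us.map fun u => tau emb t T0 (tImg (pk ρ.1) u)).prod = emb ρ * val emb t T0 us * (emb ρ)⁻¹
  | [], _ => by simp [val]
  | u :: us, h => by
    rw [List.map_cons, List.prod_cons, conj_prod hS ρ us fun v hv => h v (List.mem_cons_of_mem _ hv),
      ← conj_tau hS (h u List.mem_cons_self) ρ, val_cons]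
    group

theorem val_pushImgs (hS : Setting emb t T0) (g : ℕ) : ∀ (us acc : List ℕ),
    val emb t T0 (pushImgs g us acc) = (us.map fun u => tau emb t T0 (tImg g u)).prod * val emb t T0 acc
  | [], acc => by simp [pushImgs]
  | u :: us, acc => by
    rw [pushImgs, val_pushT hS, val_pushImgs hS g us acc, List.map_cons, List.prod_cons, mul_assoc]

variable {X : Type*} [MulAction G X]

/-- a relator is valid -/
def RelOK (emb : M24 →* G) (t : G) (T0 : ℕ) (base : X) (R : Rel) : Prop :=
  (∀ u ∈ R.us, InOrb T0 u) ∧ ∃ σ : M24, pk σ.1 = R.s ∧ pk (σ⁻¹ : M24).1 = R.si ∧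
    if R.base then σ = 1 ∧ val emb t T0 R.us • base = base else val emb t T0 R.us * emb σ = 1

/-- the hypotheses making a certificate meaningful -/
structure Cert.Interp (d : Cert) (emb : M24 →* G) (t : G) (base : X) : Prop where
  setting : Setting emb t d.T0
  fix : ∀ σ : M24, emb σ • base = base
  rels : ∀ R ∈ d.rels, RelOK emb t d.T0 base R

/-- the named points -/
noncomputable def Cert.pt (d : Cert) (emb : M24 →* G) (t : G) (base : X) (b : ℕ) : X :=
  if (d.facts.get (d.par.get 13 b)).i < b then
    tau emb t d.T0 (d.facts.get (d.par.get 13 b)).r • d.pt emb t base (d.facts.get (d.par.get 13 b)).i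
  else base
termination_by b

variable {d : Cert} {base : X}

theorem Cert.pt_zero : d.pt emb t base 0 = base := by rw [Cert.pt]; simp

/-- a fact holds -/
def Cert.Holds (d : Cert) (emb : M24 →* G) (t : G) (base : X) (k : ℕ) : Prop :=
  ((d.facts.get k).r = 0 ∨ InOrb d.T0 (d.facts.get k).r) ∧
  ∃ σ : M24, pk σ.1 = (d.facts.get k).g ∧ pk (σ⁻¹ : M24).1 = (d.facts.get k).gi ∧
    emb σ • d.pt emb t base (d.facts.get k).j =
      ltr emb t d.T0 (d.facts.get k).r • d.pt emb t base (d.facts.get k).i

theorem Cert.relOK_rel (hI : d.Interp emb t base) (k : ℕ) : RelOK emb t d.T0 base (d.rel k) := by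
  rw [Cert.rel, List.getD_eq_getElem?_getD]
  cases h : d.rels[k]? with
  | none => exact ⟨by simp, 1, pk_one, by rw [inv_one]; exact pk_one, by simp [val]⟩
  | some R => exact hI.rels R (List.mem_of_getElem? h)

theorem Cert.walk_sound (hI : d.Interp emb t base) {k : ℕ} (ih : ∀ m < k, d.Holds emb t base m)
    {self : Fact} {ι : M24} (hig : pk ι.1 = self.ig) (higi : pk (ι⁻¹ : M24).1 = self.igi)
    {j g : ℕ} {tgt : List ℕ} {x : X} :
    ∀ {fuel st cur q : ℕ} {acc : List ℕ} {σ : M24}, q = pk σ.1 →
      emb σ • d.pt emb t base cur = val emb t d.T0 acc • x →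
      d.walk k self j g tgt fuel st cur q acc = true →
      ∃ ρ : M24, g = pk ρ.1 ∧ emb ρ • d.pt emb t base j = val emb t d.T0 tgt • x
  | 0, _, _, _, _, _, _, _, h => by simp [Cert.walk] at h
  | fuel + 1, st, cur, q, acc, σ, hq, hx, h => by
    simp only [Cert.walk, Presented.Vec.force_eq] at h
    cases h0 : Nat.beq (st % 8192) 0
    · rw [h0, cond_false] at h
      cases h1 : Nat.beq (st % 8192) 1
      · rw [h1, cond_false, Bool.and_eq_true, Nat.blt_eq] at h
        obtain ⟨hlt, h⟩ := h
        generalize hf : (st % 8192 - 2) / 2 = f at hlt h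
        obtain ⟨horb, ρ, hg, hgi, hfact⟩ := ih f hlt
        cases h2 : Nat.beq ((st % 8192 - 2) % 2) 0
        · rw [h2, cond_false, Bool.and_eq_true] at h
          obtain ⟨hcur, h⟩ := h
          obtain rfl := Nat.eq_of_beq_eq_true hcur
          have hq' : pmul q (d.facts.get f).gi = pk (σ * ρ⁻¹ : M24).1 := by rw [hq, ← hgi, pmul_coe]
          have hrev : d.pt emb t base (d.facts.get f).j =
              (emb ρ)⁻¹ • ltr emb t d.T0 (d.facts.get f).r • d.pt emb t base (d.facts.get f).i := by
            rw [← hfact, inv_smul_smul]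
          rw [hrev, smul_smul, smul_smul, ← map_inv, ← map_mul] at hx
          cases h3 : Nat.beq (d.facts.get f).r 0
          · rw [h3, cond_false] at h
            have hr : (d.facts.get f).r ≠ 0 := fun e => by rw [e] at h3; exact absurd h3 (by decide)
            have hr' := horb.resolve_left hr
            refine Cert.walk_sound hI ih hig higi hq' ?_ h
            rw [val_pushT hI.setting, hq']
            rw [ltr, if_neg hr, emb_mul_tau hI.setting hr', mul_smul] at hx
            rw [mul_smul, ← hx, smul_smul, tau_sq hI.setting, one_smul]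
          · rw [h3, cond_true] at h
            refine Cert.walk_sound hI ih hig higi hq' ?_ h
            rw [ltr, if_pos (Nat.eq_of_beq_eq_true h3), mul_one] at hx
            exact hx
        · rw [h2, cond_true, Bool.and_eq_true] at h
          obtain ⟨hcur, h⟩ := h
          obtain rfl := Nat.eq_of_beq_eq_true hcur
          have hq' : pmul q (d.facts.get f).g = pk (σ * ρ : M24).1 := by rw [hq, ← hg, pmul_coe]
          have hfwd : emb (σ * ρ) • d.pt emb t base (d.facts.get f).j =
              emb σ • ltr emb t d.T0 (d.facts.get f).r • d.pt emb t base (d.facts.get f).i := by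
            rw [map_mul, mul_smul, hfact]
          cases h3 : Nat.beq (d.facts.get f).r 0
          · rw [h3, cond_false] at h
            have hr : (d.facts.get f).r ≠ 0 := fun e => by rw [e] at h3; exact absurd h3 (by decide)
            have hr' := horb.resolve_left hr
            refine Cert.walk_sound hI ih hig higi hq' ?_ h
            rw [val_pushT hI.setting, hfwd, ltr, if_neg hr, smul_smul, emb_mul_tau hI.setting hr', hq,
              mul_smul, mul_smul, hx]
          · rw [h3, cond_true] at h
            refine Cert.walk_sound hI ih hig higi hq' ?_ h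
            rw [hfwd, ltr, if_pos (Nat.eq_of_beq_eq_true h3), one_smul, hx]
      · rw [h1, cond_true, Bool.and_eq_true] at h
        obtain ⟨hb, h⟩ := h
        obtain ⟨horb, s, hs, hsi, hrel⟩ := d.relOK_rel hI self.k
        have hq' : pmul (pmul self.ig (pmul (d.rel self.k).si self.igi)) q =
            pk (ι * (s⁻¹ * ι⁻¹) * σ : M24).1 := by
          rw [hq, ← hig, ← higi, ← hsi, pmul_coe, pmul_coe, pmul_coe]
        refine Cert.walk_sound hI ih hig higi hq' ?_ h
        rw [val_pushImgs hI.setting, ← hig, conj_prod hI.setting ι _ horb, mul_smul, ← hx]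
        cases hB : (d.rel self.k).base
        · rw [hB] at hrel
          simp only [Bool.false_eq_true, if_false] at hrel
          rw [eq_inv_of_mul_eq_one_left hrel, smul_smul]
          congr 1
          simp [mul_assoc]
        · rw [hB] at hrel hb
          simp only [if_true] at hrel
          simp only [Bool.not_true, Bool.false_or] at hb
          obtain rfl := Nat.eq_of_beq_eq_true hb
          obtain ⟨rfl, hbase⟩ := hrel
          rw [Cert.pt_zero, inv_one, one_mul, mul_inv_cancel, one_mul, hI.fix, mul_smul, mul_smul,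
            ← map_inv emb ι, hI.fix, hbase, hI.fix]
    · rw [h0, cond_true, Bool.and_eq_true, Bool.and_eq_true] at h
      obtain ⟨⟨hj, hg⟩, hl⟩ := h
      rw [Nat.eq_of_beq_eq_true hj, listEq_eq hl] at hx
      exact ⟨σ, (Nat.eq_of_beq_eq_true hg).symm.trans hq, hx⟩

theorem Cert.exists_nr {f : Fact} (h : d.factOK f = true) :
    ((f.r = 0 ∨ InOrb d.T0 f.r) ∧ (∃ σ : M24, pk σ.1 = f.g ∧ pk (σ⁻¹ : M24).1 = f.gi) ∧
      ∃ ι : M24, pk ι.1 = f.ig ∧ pk (ι⁻¹ : M24).1 = f.igi) := by
  simp only [Cert.factOK, Bool.and_eq_true, Bool.or_eq_true] at h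
  obtain ⟨⟨⟨hg, hig⟩, hnr⟩, hr⟩ := h
  obtain ⟨ν, hν, -⟩ := exists_of_okPerm hnr
  refine ⟨?_, exists_of_okPerm hg, exists_of_okPerm hig⟩
  rcases hr with hr | hr
  · exact Or.inl (Nat.eq_of_beq_eq_true hr)
  · exact Or.inr ⟨ν, by rw [hν]; exact Nat.eq_of_beq_eq_true hr⟩

theorem Cert.holds_of_ok (hI : d.Interp emb t base) {nF : ℕ} (hok : d.OKOn 0 nF) :
    ∀ k, k < nF → d.Holds emb t base k := by
  intro k
  induction k using Nat.strong_induction_on with
  | _ k IH =>
    intro hk
    have h := hok k (Nat.zero_le _) hk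
    simp only [Cert.chkFact, Bool.and_eq_true] at h
    obtain ⟨hf, h⟩ := h
    obtain ⟨horb, ⟨σ, hg, hgi⟩, ι, hig, higi⟩ := d.exists_nr hf
    refine ⟨horb, σ, hg, hgi, ?_⟩
    cases h0 : Nat.beq (d.facts.get k).rule 0
    · rw [h0, cond_false] at h
      cases h1 : Nat.beq (d.facts.get k).rule 1
      · rw [h1, cond_false] at h
        obtain ⟨ρ, hρ, he⟩ := Cert.walk_sound (x := d.pt emb t base (d.facts.get k).i) hI
          (fun m hm => IH m hm (hm.trans hk)) hig higi (σ := 1) pid_coe
          (by rw [map_one, one_smul, val_nil, one_smul]) h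
        obtain rfl : ρ = σ := Subtype.ext (pk_injective (hρ.symm.trans hg.symm))
        rw [he]
        congr 1
        cases hr : Nat.beq (d.facts.get k).r 0
        · rw [cond_false, val_cons, val_nil, mul_one, ltr, if_neg]
          exact fun e => by rw [e] at hr; exact absurd hr (by decide)
        · rw [cond_true, val_nil, ltr, if_pos (Nat.eq_of_beq_eq_true hr)]
      · rw [h1, cond_true, Bool.and_eq_true, Bool.and_eq_true] at h
        obtain ⟨⟨hr, hi⟩, hj⟩ := h
        rw [Nat.eq_of_beq_eq_true hr, Nat.eq_of_beq_eq_true hi, Nat.eq_of_beq_eq_true hj, Cert.pt_zero, hI.fix,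
          ltr, if_pos rfl, one_smul]
    · rw [h0, cond_true, Bool.and_eq_true, Bool.and_eq_true, Bool.and_eq_true, Nat.blt_eq] at h
      obtain ⟨⟨⟨hlt, hpar⟩, hid⟩, hr⟩ := h
      have hσ : σ = 1 := Subtype.ext (pk_injective (hg.trans ((Nat.eq_of_beq_eq_true hid).trans pid_coe)))
      rw [hσ, map_one, one_smul]
      conv_lhs => rw [Cert.pt]
      rw [Nat.eq_of_beq_eq_true hpar, if_pos hlt, ltr, if_neg]
      intro e
      rw [e] at hr
      exact absurd hr (by decide)

/-- check a loop at the base point -/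
noncomputable def Cert.chkLoop (d : Cert) (nF st g : ℕ) (tgt : List ℕ) : Bool :=
  d.walk nF ⟨0, pid, pid, 0, 0, pid, pid, 2, d.rels.length, pid, pid, 0⟩ 0 g tgt 400 st 0 pid []

theorem Cert.loop_sound (hI : d.Interp emb t base) {nF : ℕ} (hok : d.OKOn 0 nF) {st g : ℕ} {tgt : List ℕ}
    (h : d.chkLoop nF st g tgt = true) : val emb t d.T0 tgt • base = base := by
  obtain ⟨ρ, -, he⟩ := Cert.walk_sound (x := base) hI (fun m hm => Cert.holds_of_ok hI hok m hm) (ι := 1)
    (by exact pk_one) (by rw [inv_one]; exact pk_one) (σ := 1) pid_coe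
    (by rw [map_one, Cert.pt_zero, val_nil]) h
  rw [Cert.pt_zero, hI.fix] at he
  exact he.symm

end Sound

end CfsgLib.J4DCE
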