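import Cfsg.Agent.Lib.J4DCE.Simple
import Mathlib.LinearAlgebra.Matrix.ToLin
import Mathlib.LinearAlgebra.Matrix.GeneralLinearGroup.Defs
import Mathlib.Algebra.Module.ZMod
import Mathlib.Data.Nat.Bitwise

/-!
The representation as matrices over the field with two elements.
-/
set_option autoImplicit false
set_option maxRecDepth 20000

namespace CfsgLib.J4DCE.J

open Cfsg
open CfsgLib.J4Rep (rep Vec112 ev4 permX permY permT act act_xor apply_letter)

/-- binary vectors as functions -/
abbrev Bit112 : Type := Fin 112 → ZMod 2

/-- xor of two vectors -/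
noncomputable def vxor (u v : Vec112) : Vec112 := ⟨u.1 ^^^ v.1, Nat.xor_lt_two_pow u.2 v.2⟩

theorem rep_xor (g : Cfsg.Spor.J4) : ∀ u v : Vec112, rep g (vxor u v) = vxor (rep g u) (rep g v) := by
  have hg : g ∈ Subgroup.closure (Set.range (PresentedGroup.of
      (rels := Cfsg.Spor.coxRelators Cfsg.Spor.J4.edges ∪ {r | r ∈ Cfsg.Spor.J4.extra}))) := by
    rw [PresentedGroup.closure_range_of]; exact Subgroup.mem_top g
  have hl : ∀ x < 4, ∀ u v : Vec112, ev4 permX permY permT x (vxor u v) =
      vxor (ev4 permX permY permT x u) (ev4 permX permY permT x v) := fun x hx u v => Subtype.ext (by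
    simp only [vxor]
    rw [apply_letter hx, apply_letter hx, apply_letter hx, act_xor])
  induction hg using Subgroup.closure_induction with
  | mem z hz =>
    obtain ⟨a, rfl⟩ := hz
    have e : ∃ x < 4, rep (PresentedGroup.of a) = ev4 permX permY permT x := by
      cases a
      · exact ⟨0, by norm_num, PresentedGroup.toGroup.of _⟩
      · exact ⟨1, by norm_num, PresentedGroup.toGroup.of _⟩
      · exact ⟨3, by norm_num, PresentedGroup.toGroup.of _⟩
    obtain ⟨x, hx, e⟩ := e
    intro u v
    erw [e]
    exact hl x hx u v
  | one => intro u v; simp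
  | mul a b _ _ iha ihb =>
    intro u v
    rw [map_mul, Equiv.Perm.mul_apply, ihb, iha, Equiv.Perm.mul_apply, Equiv.Perm.mul_apply]
  | inv a _ ih =>
    intro u v
    apply (rep a).injective
    rw [ih, map_inv]
    simp

/-- bits -/
noncomputable def toBits (v : Vec112) : Bit112 := fun i => if v.1.testBit i then 1 else 0

/-- the equivalence with bit functions -/
noncomputable def bitsEquiv : Vec112 ≃ Bit112 where
  toFun := toBits
  invFun f := ⟨Nat.ofBits fun i => decide (f i = 1), Nat.ofBits_lt_two_pow _⟩
  left_inv v := Subtype.ext (Nat.eq_of_testBit_eq fun i => by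
    rcases Nat.lt_or_ge i 112 with h | h
    · rw [Nat.testBit_ofBits_lt _ _ h]
      simp only [toBits]
      split <;> simp_all
    · rw [Nat.testBit_ofBits_ge _ _ h,
        Nat.testBit_lt_two_pow (lt_of_lt_of_le v.2 (Nat.pow_le_pow_right (by norm_num) h))])
  right_inv f := funext fun i => by
    simp only [toBits, Nat.testBit_ofBits_lt _ _ i.2]
    rcases (by decide : ∀ z : ZMod 2, z = 0 ∨ z = 1) (f i) with h | h <;> simp [h]

theorem toBits_xor (u v : Vec112) : toBits (vxor u v) = toBits u + toBits v := by
  funext i
  simp only [toBits, vxor, Pi.add_apply, Nat.testBit_xor]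
  cases u.1.testBit i <;> cases v.1.testBit i <;> simp; decide

theorem bitsEquiv_symm_add (f g : Bit112) :
    bitsEquiv.symm (f + g) = vxor (bitsEquiv.symm f) (bitsEquiv.symm g) := by
  apply bitsEquiv.injective
  rw [Equiv.apply_symm_apply]
  show f + g = toBits _
  rw [toBits_xor]
  exact congrArg₂ (· + ·) (bitsEquiv.apply_symm_apply f).symm (bitsEquiv.apply_symm_apply g).symm

/-- the linear map of an element -/
noncomputable def linMap : Cfsg.Spor.J4 →* Module.End (ZMod 2) Bit112 where
  toFun g := AddMonoidHom.toZModLinearMap 2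
    (AddMonoidHom.mk' (fun f => bitsEquiv (rep g (bitsEquiv.symm f))) fun f f' => by
      rw [bitsEquiv_symm_add, rep_xor]
      exact toBits_xor _ _)
  map_one' := LinearMap.ext fun f => by simp
  map_mul' a b := LinearMap.ext fun f => by simp

theorem linMap_injective : Function.Injective linMap := fun a b h => rep_injective (Equiv.ext fun v => by
  have := LinearMap.congr_fun h (bitsEquiv v)
  simpa [linMap] using this)

/-- the matrices -/
noncomputable def glHom : Cfsg.Spor.J4 →* GL (Fin 112) (ZMod 2) :=
  ((LinearMap.toMatrixAlgEquiv' (R := ZMod 2) (n := Fin 112)).toMonoidHom.comp linMap).toHomUnits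

theorem glHom_injective : Function.Injective glHom := fun a b h => linMap_injective (by
  have h1 := congrArg Units.val h
  exact (LinearMap.toMatrixAlgEquiv' (R := ZMod 2) (n := Fin 112)).injective h1)

end CfsgLib.J4DCE.J
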