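import Cfsg.Agent.Lib.J4DCE.LoopBase

/-! The loops of the local enumeration as elements: kernel checks. -/
set_option autoImplicit false
set_option maxRecDepth 20000

namespace CfsgLib.J4DCE.J

open Cfsg

attribute [local irreducible] enc pmask tImg

set_option maxHeartbeats 0 in
theorem loopSq : val jemb jt Orb.T0 (wl ++ wl) = 1 :=
  val_of_red (one_of_loop Loc.loop_sq (ps := Loc.pathSq)
    (by decide +kernel) (by decide +kernel) (by decide +kernel)) (by decide +kernel)

set_option maxHeartbeats 0 in
theorem loopA : val jemb jt Orb.T0 (wl ++ wlc WMod.permA) = 1 :=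
  val_of_red (one_of_loop Loc.loop_stabA (ps := Loc.pathStabA)
    (by decide +kernel) (by decide +kernel) (by decide +kernel)) (by decide +kernel)

set_option maxHeartbeats 0 in
theorem loopB : val jemb jt Orb.T0 (wl ++ wlc WMod.permB) = 1 :=
  val_of_red (one_of_loop Loc.loop_stabB (ps := Loc.pathStabB)
    (by decide +kernel) (by decide +kernel) (by decide +kernel)) (by decide +kernel)

end CfsgLib.J4DCE.J
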