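/-! Generated: paths in the orbit of the triple to the letters of the loops (0 and 1 stand for the
generators, the first entry acting last). -/
set_option autoImplicit false

namespace CfsgLib.J4DCE.Loc

def pathSq : List (List Nat) := [[1, 0, 1, 0, 1, 1, 0, 1, 1, 0, 1, 1, 0, 1, 1],
  [0, 1, 0, 1, 1, 0, 1, 1, 0, 1, 1, 0, 1, 0, 1],
  [0, 1, 0, 1, 1, 0, 1, 1, 0, 1, 1, 0, 1, 1],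
  [1, 0, 1, 0, 1, 1, 0, 1, 1, 0, 1, 1, 0, 1, 1],
  [0, 1, 0, 1, 1, 0, 1, 1, 0, 1, 1, 0, 1, 0, 1],
  [0, 1, 0, 1, 1, 0, 1, 1, 0, 1, 1, 0, 1, 1]]

def pathStabA : List (List Nat) := [[1, 0, 1, 0, 1, 1, 0, 1, 1, 0, 1, 1, 0, 1, 1],
  [0, 1, 0, 1, 1, 0, 1, 1, 0, 1, 1, 0, 1, 0, 1],
  [0, 1, 0, 1, 1, 0, 1, 1, 0, 1, 1, 0, 1, 1, 0, 1, 1, 0, 1],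
  [1, 1, 0, 1, 0, 1, 1, 0, 1, 0, 1, 1, 0, 1, 0, 1, 0, 1, 1, 0, 1, 1, 0, 1, 0, 1, 0, 1, 1]]

def pathStabB : List (List Nat) := [[1, 0, 1, 0, 1, 1, 0, 1, 1, 0, 1, 1, 0, 1, 1],
  [0, 1, 0, 1, 1, 0, 1, 1, 0, 1, 1, 0, 1, 0, 1],
  [0, 1, 0, 1, 1, 0, 1, 1, 0, 1, 1, 0, 1, 1],
  [1, 1, 0, 1, 0, 1, 1, 0, 1, 0, 1, 0, 1, 0, 1, 0, 1, 1, 0, 1, 1, 0, 1, 0, 1, 0, 1, 0, 1, 0, 1],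
  [1, 0, 1, 0, 1, 1, 0, 1, 0, 1, 1, 0, 1, 0, 1, 0, 1, 1, 0, 1, 1, 0, 1, 0, 1, 0, 1, 1],
  [0, 1, 0, 1, 0, 1, 0, 1, 0, 1, 0, 1, 0, 1, 0, 1]]

def pathC1 : List (List Nat) := [[1, 0, 1, 0, 1, 1, 0, 1, 1, 0, 1, 1, 0, 1, 1],
  [0, 1, 0, 1, 1, 0, 1, 1, 0, 1, 1, 0, 1, 0, 1],
  [0, 1, 0, 1, 1, 0, 1, 1, 0, 1, 1, 0, 1, 1],
  [0, 1, 0, 1, 0, 1, 1, 0, 1, 1, 0, 1, 1, 0, 1, 1],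
  [1, 0, 1, 1, 0, 1, 1, 0, 1, 1, 0, 1, 0, 1],
  [1, 0, 1, 1, 0, 1, 1, 0, 1, 1, 0, 1, 1],
  [1, 0, 1, 0, 1, 1, 0, 1, 1, 0, 1, 1, 0, 1, 1],
  [0, 1, 0, 1, 1, 0, 1, 1, 0, 1, 1, 0, 1, 0, 1],
  [0, 1, 0, 1, 1, 0, 1, 1, 0, 1, 1, 0, 1, 1],
  [0, 1, 0, 1, 0, 1, 1, 0, 1, 1, 0, 1, 1, 0, 1, 1],
  [1, 0, 1, 1, 0, 1, 1, 0, 1, 1, 0, 1, 0, 1],
  [1, 0, 1, 1, 0, 1, 1, 0, 1, 1, 0, 1, 1]]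

def pathC7 : List (List Nat) := [[1, 0, 1, 0, 1, 1, 0, 1, 1, 0, 1, 1, 0, 1, 1],
  [0, 1, 0, 1, 1, 0, 1, 1, 0, 1, 1, 0, 1, 0, 1],
  [0, 1, 0, 1, 1, 0, 1, 1, 0, 1, 1, 0, 1, 1],
  [0, 1, 0, 1, 0, 1, 0, 1, 0, 1, 1, 0, 1, 1, 0, 1, 1, 0, 1, 1],
  [0, 1, 0, 1, 1, 0, 1, 1, 0, 1, 1, 0, 1, 1, 0, 1, 0, 1],
  [0, 1, 0, 1, 1, 0, 1, 1, 0, 1, 1, 0, 1, 1, 0, 1, 1],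
  [1, 0, 1, 0, 1, 1, 0, 1, 1, 0, 1, 1, 0, 1, 1],
  [0, 1, 0, 1, 1, 0, 1, 1, 0, 1, 1, 0, 1, 0, 1],
  [0, 1, 0, 1, 1, 0, 1, 1, 0, 1, 1, 0, 1, 1],
  [0, 1, 0, 1, 0, 1, 0, 1, 0, 1, 1, 0, 1, 1, 0, 1, 1, 0, 1, 1],
  [0, 1, 0, 1, 1, 0, 1, 1, 0, 1, 1, 0, 1, 1, 0, 1, 0, 1],
  [0, 1, 0, 1, 1, 0, 1, 1, 0, 1, 1, 0, 1, 1, 0, 1, 1]]

def pathC60 : List (List Nat) := [[1, 0, 1, 0, 1, 1, 0, 1, 1, 0, 1, 1, 0, 1, 1],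
  [0, 1, 0, 1, 1, 0, 1, 1, 0, 1, 1, 0, 1, 0, 1],
  [0, 1, 0, 1, 1, 0, 1, 1, 0, 1, 1, 0, 1, 1],
  [0, 1, 0, 1, 0, 1, 1, 0, 1, 1, 0, 1, 0, 1, 0, 1, 1, 0, 1, 1, 0, 1, 1, 0, 1, 1],
  [0, 1, 0, 1, 0, 1, 0, 1, 1, 0, 1, 1, 0, 1, 0, 1],
  [0, 1, 0, 1, 1, 0, 1, 1, 0, 1, 1, 0, 1, 1],
  [1, 0, 1, 0, 1, 1, 0, 1, 1, 0, 1, 1, 0, 1, 1],
  [0, 1, 0, 1, 1, 0, 1, 1, 0, 1, 1, 0, 1, 0, 1],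
  [0, 1, 0, 1, 1, 0, 1, 1, 0, 1, 1, 0, 1, 1],
  [0, 1, 0, 1, 0, 1, 1, 0, 1, 1, 0, 1, 0, 1, 0, 1, 1, 0, 1, 1, 0, 1, 1, 0, 1, 1],
  [0, 1, 0, 1, 0, 1, 0, 1, 1, 0, 1, 1, 0, 1, 0, 1],
  [0, 1, 0, 1, 1, 0, 1, 1, 0, 1, 1, 0, 1, 1]]

def pathTri : List (List Nat) := [[1, 0, 1, 0, 1, 1, 0, 1, 1, 0, 1, 1, 0, 1, 1],
  [0, 1, 0, 1, 1, 0, 1, 1, 0, 1, 1, 0, 1, 0, 1],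
  [0, 1, 0, 1, 1, 0, 1, 1, 0, 1, 1, 0, 1, 1],
  [0, 1, 0, 1, 0, 1, 1, 0, 1, 1, 0, 1, 0, 1, 0, 1, 1, 0, 1, 1, 0, 1, 1, 0, 1, 1],
  [0, 1, 0, 1, 0, 1, 0, 1, 1, 0, 1, 1, 0, 1, 0, 1],
  [0, 1, 0, 1, 1, 0, 1, 1, 0, 1, 1, 0, 1, 1],
  [1, 0, 1, 1, 0, 1, 1, 0, 1, 0, 1, 1, 0, 1, 0, 1, 0, 1, 0, 1, 0, 1, 0, 1, 0, 1, 0, 1, 1, 0, 1, 1, 0, 1, 0, 1],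
  [1, 1, 0, 1, 0, 1, 0, 1, 0, 1, 0, 1, 0, 1, 0, 1, 0, 1, 0, 1, 0, 1, 0, 1, 1],
  [0, 1, 0, 1, 1, 0, 1, 1, 0, 1, 0, 1, 1, 0, 1, 0, 1, 1]]

end CfsgLib.J4DCE.Loc
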