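import Cfsg.Agent.Lib.J4DCE.Cover

/-!
The subgroup generated by the conjugates of an element commuting with enough of them: an elementary
abelian group of bounded order.
-/
set_option autoImplicit false
set_option maxRecDepth 4000

namespace CfsgLib.J4DCE

open Cfsg
open CfsgLib.Presented (NTree)

attribute [local irreducible] enc pmask tImg

/-- one step of the commutation sweep -/
noncomputable def orbRun (c : Chain) (R : Reps) (pa pb : ℕ) : ℕ → ℕ → ℕ → Bool
  | 0, _, seen => Nat.beq seen (2 ^ R.n - 1)
  | fuel + 1, st, seen =>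
    Presented.Vec.force (st % 1099511627776) fun e =>
    Presented.Vec.force (e % 4096) fun k =>
    Presented.Vec.force (e / 4096 % 4096) fun src =>
      Nat.beq (Nat.mod (Nat.shiftRight seen src) 2) 1 && Nat.blt src R.n && Nat.blt k R.n &&
        c.mem (pmul (R.q k) (pmul (cond (Nat.beq (e / 16777216) 0) pa pb) (R.p src))) &&
          Presented.Vec.force (Nat.lor seen (2 ^ k)) fun seen' =>
            orbRun c R pa pb fuel (st / 1099511627776) seen'

/-- the data of a spanning sweep -/
structure SpanData where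
  sp : NTree
  spi : NTree
  c1 : ℕ
  c2 : ℕ

/-- one step of the spanning sweep -/
noncomputable def spanRun (c : Chain) (R : Reps) (D : SpanData) : ℕ → ℕ → ℕ → ℕ → Bool
  | 0, _, _, seen => Nat.beq seen (2 ^ R.n - 1)
  | fuel + 1, i, st, seen =>
    Presented.Vec.force (st % 1099511627776) fun e =>
    Presented.Vec.force (e % 4096) fun a =>
    Presented.Vec.force (e / 4096 % 4096) fun b =>
    Presented.Vec.force (e / 16777216 % 4096) fun d =>
    Presented.Vec.force (cond (Nat.beq (e / 68719476736) 0) a (cond (Nat.beq (e / 68719476736) 1) b d)) fun k =>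
      (cond (Nat.beq k a) true (Nat.beq (Nat.mod (Nat.shiftRight seen a) 2) 1)) &&
      (cond (Nat.beq k b) true (Nat.beq (Nat.mod (Nat.shiftRight seen b) 2) 1)) &&
      (cond (Nat.beq k d) true (Nat.beq (Nat.mod (Nat.shiftRight seen d) 2) 1)) &&
      !Nat.beq a b && !Nat.beq a d && !Nat.beq b d && Nat.blt a R.n && Nat.blt b R.n && Nat.blt d R.n &&
      c.mem (pmul (R.q a) (D.sp.get 120 i)) &&
      c.mem (pmul (R.q b) (pmul (D.sp.get 120 i) (R.p D.c1))) &&
      c.mem (pmul (R.q d) (pmul (D.sp.get 120 i) (R.p D.c2))) &&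
        Presented.Vec.force (Nat.lor seen (2 ^ k)) fun seen' =>
          spanRun c R D fuel (i + 1) (st / 1099511627776) seen'

/-- the spanning permutations in a range are valid -/
noncomputable def SpanData.okRange (D : SpanData) (lo cnt : ℕ) : Bool :=
  (List.range cnt).all fun i => Presented.Vec.force (lo + i) fun k => okPerm (D.sp.get 120 k) (D.spi.get 120 k)

/-- all of the first `n` spanning permutations are valid -/
def SpanData.OK (D : SpanData) (n : ℕ) : Prop := ∀ k < n, okPerm (D.sp.get 120 k) (D.spi.get 120 k) = true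

theorem SpanData.ok_of_ranges {D : SpanData} {n : ℕ}
    (h : ∀ k < n, ∃ lo cnt, lo ≤ k ∧ k < lo + cnt ∧ D.okRange lo cnt = true) : D.OK n := by
  intro k hk
  obtain ⟨lo, cnt, h1, h2, hs⟩ := h k hk
  simp only [SpanData.okRange, List.all_eq_true, List.mem_range, Presented.Vec.force_eq] at hs
  have hs' := hs (k - lo) (by omega)
  rwa [Nat.add_sub_cancel' h1] at hs'

/-- the set of indices as a mask -/
noncomputable def maskOf : List ℕ → ℕ
  | [] => 0
  | k :: l => Nat.lor (2 ^ k) (maskOf l)

theorem mem_of_maskOf : ∀ (l : List ℕ) (k : ℕ), (maskOf l).testBit k = true → k ∈ l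
  | [], k, h => by simp [maskOf] at h
  | a :: l, k, h => by
    rw [show maskOf (a :: l) = 2 ^ a ||| maskOf l from rfl, Nat.testBit_or, Bool.or_eq_true,
      Nat.testBit_two_pow, decide_eq_true_eq] at h
    rcases h with rfl | h
    · exact List.mem_cons_self
    · exact List.mem_cons_of_mem _ (mem_of_maskOf l k h)

section

variable {G : Type*} [Group G] (emb : M24 →* G) (w : G)

/-- a conjugate of `w` -/
def conjW (σ : M24) : G := emb σ * w * (emb σ)⁻¹

/-- the permutations commuting with `w` -/
def commQ : Subgroup M24 := (Subgroup.centralizer {w}).comap emb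

theorem mem_commQ {σ : M24} : σ ∈ commQ emb w ↔ emb σ * w = w * emb σ := by
  rw [commQ, Subgroup.mem_comap, Subgroup.mem_centralizer_singleton_iff]

theorem conjW_mul (σ τ : M24) : conjW emb w (σ * τ) = emb σ * conjW emb w τ * (emb σ)⁻¹ := by
  rw [conjW, conjW, map_mul]; group

theorem conjW_right {c : M24} (hc : c ∈ commQ emb w) (σ : M24) : conjW emb w (σ * c) = conjW emb w σ := by
  rw [conjW_mul, show conjW emb w c = w by rw [conjW, (mem_commQ emb w).1 hc]; group]
  rfl

theorem conjW_eq {σ τ : M24} (h : τ⁻¹ * σ ∈ commQ emb w) : conjW emb w σ = conjW emb w τ := by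
  rw [← conjW_right emb w h τ, mul_inv_cancel_left]

/-- the representative `k` as a permutation -/
noncomputable def repG (R : Reps) (k : ℕ) : M24 := by
  classical
  exact if h : ∃ g : M24, pk g.1 = R.p k then h.choose else 1

/-- the conjugate number `k` -/
noncomputable def wk (R : Reps) (k : ℕ) : G := conjW emb w (repG R k)

variable {emb w} {R : Reps} {c : Chain}

theorem repG_eq {k : ℕ} {g : M24} (hg : pk g.1 = R.p k) : repG R k = g := by
  classical
  have he : ∃ g : M24, pk g.1 = R.p k := ⟨g, hg⟩
  rw [repG, dif_pos he]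
  exact Subtype.ext (pk_injective (he.choose_spec.trans hg.symm))

theorem repG_spec (hR : R.ok = true) {k : ℕ} (hk : k < R.n) :
    pk (repG R k).1 = R.p k ∧ pk ((repG R k)⁻¹ : M24).1 = R.q k := by
  obtain ⟨g, hg, hg'⟩ := Reps.exists_g hR hk
  rw [repG_eq hg]
  exact ⟨hg, hg'⟩

theorem repG_zero (hR : R.ok = true) : repG R 0 = 1 := by
  simp only [Reps.ok, Bool.and_eq_true] at hR
  exact repG_eq (by rw [Nat.eq_of_beq_eq_true hR.1.2]; exact pk_one)

theorem wk_zero (hR : R.ok = true) : wk emb w R 0 = w := by
  rw [wk, repG_zero hR, conjW, map_one]; group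

theorem wk_of_mem (hv : c.valid = true) (hg : c.GensIn (commQ emb w)) (hR : R.ok = true) {k : ℕ} (hk : k < R.n)
    {σ : M24} {x : ℕ} (hx : pk σ.1 = x) (h : c.mem (pmul (R.q k) x) = true) :
    conjW emb w σ = wk emb w R k := by
  refine conjW_eq emb w ?_
  exact Chain.mem_sound hv hg (by rw [← (repG_spec hR hk).2, ← hx, pmul_coe]) h

theorem exists_wk (hR : R.ok = true) (hX : Carries (commQ emb w) R mX) (hY : Carries (commQ emb w) R mY)
    (σ : M24) : ∃ k < R.n, conjW emb w σ = wk emb w R k := by
  obtain ⟨k, hk, g, hg, d, hd, rfl⟩ := decompose hR hX hY σ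
  exact ⟨k, hk, by rw [conjW_right emb w hd, wk, repG_eq hg]⟩

theorem orbRun_sound (hv : c.valid = true) (hg : c.GensIn (commQ emb w)) (hR : R.ok = true) {α β : M24}
    (hα : α ∈ commQ emb w) (hβ : β ∈ commQ emb w) {pa pb : ℕ} (ha : pk α.1 = pa) (hb : pk β.1 = pb) :
    ∀ fuel st seen, orbRun c R pa pb fuel st seen = true →
      (∀ k, seen.testBit k = true → Commute w (wk emb w R k)) → ∀ k < R.n, Commute w (wk emb w R k)
  | 0, _, seen, h, hs => fun k hk => hs k (by
      rw [orbRun] at h
      rw [Nat.eq_of_beq_eq_true h, Nat.testBit_two_pow_sub_one, decide_eq_true_eq]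
      exact hk)
  | fuel + 1, st, seen, h, hs => by
    simp only [orbRun, Presented.Vec.force_eq, Bool.and_eq_true, Nat.blt_eq] at h
    obtain ⟨⟨⟨⟨hbit, hsrc⟩, hk⟩, hmem⟩, hrest⟩ := h
    refine orbRun_sound hv hg hR hα hβ ha hb fuel _ _ hrest fun j hj => ?_
    rw [show Nat.lor seen (2 ^ (st % 1099511627776 % 4096)) = seen ||| 2 ^ (st % 1099511627776 % 4096) from rfl,
      Nat.testBit_or, Bool.or_eq_true, Nat.testBit_two_pow, decide_eq_true_eq] at hj
    rcases hj with hj | rfl
    · exact hs j hj
    generalize st % 1099511627776 % 4096 = k at hk hmem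
    generalize st % 1099511627776 / 4096 % 4096 = src at hsrc hmem hbit
    obtain ⟨γ, hγ, hp⟩ : ∃ γ : M24, γ ∈ commQ emb w ∧ pk γ.1 = cond (Nat.beq (st % 1099511627776 / 16777216) 0) pa pb := by
      cases Nat.beq (st % 1099511627776 / 16777216) 0
      · exact ⟨β, hβ, hb⟩
      · exact ⟨α, hα, ha⟩
    rw [← hp, ← (repG_spec hR hsrc).1, pmul_coe] at hmem
    rw [← wk_of_mem hv hg hR hk rfl hmem, conjW_mul]
    have hw : emb γ * w * (emb γ)⁻¹ = w := by rw [(mem_commQ emb w).1 hγ]; group
    have h1 := (hs src ((testBit_iff seen src).1 hbit)).eq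
    show w * _ = _ * w
    calc w * (emb γ * wk emb w R src * (emb γ)⁻¹)
        = (emb γ * w * (emb γ)⁻¹) * (emb γ * wk emb w R src * (emb γ)⁻¹) := by rw [hw]
      _ = emb γ * (w * wk emb w R src) * (emb γ)⁻¹ := by group
      _ = emb γ * (wk emb w R src * w) * (emb γ)⁻¹ := by rw [h1]
      _ = (emb γ * wk emb w R src * (emb γ)⁻¹) * (emb γ * w * (emb γ)⁻¹) := by group
      _ = (emb γ * wk emb w R src * (emb γ)⁻¹) * w := by rw [hw]

theorem spanRun_sound (hv : c.valid = true) (hg : c.GensIn (commQ emb w)) (hR : R.ok = true) {D : SpanData}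
    (hc1 : D.c1 < R.n) (hc2 : D.c2 < R.n) {N : ℕ} (hD : D.OK N)
    (htri : w * wk emb w R D.c1 * wk emb w R D.c2 = 1) (H : Subgroup G) :
    ∀ fuel i st seen, i + fuel ≤ N → spanRun c R D fuel i st seen = true →
      (∀ k, seen.testBit k = true → wk emb w R k ∈ H) → ∀ k < R.n, wk emb w R k ∈ H
  | 0, _, _, seen, _, h, hs => fun k hk => hs k (by
      rw [spanRun] at h
      rw [Nat.eq_of_beq_eq_true h, Nat.testBit_two_pow_sub_one, decide_eq_true_eq]
      exact hk)
  | fuel + 1, i, st, seen, hN, h, hs => by
    simp only [spanRun, Presented.Vec.force_eq] at h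
    generalize st % 1099511627776 % 4096 = a at h
    generalize st % 1099511627776 / 4096 % 4096 = b at h
    generalize st % 1099511627776 / 16777216 % 4096 = d at h
    generalize hk : (cond (Nat.beq (st % 1099511627776 / 68719476736) 0) a
      (cond (Nat.beq (st % 1099511627776 / 68719476736) 1) b d)) = k at h
    simp only [Bool.and_eq_true, Nat.blt_eq, Bool.not_eq_true'] at h
    obtain ⟨⟨⟨⟨⟨⟨⟨⟨⟨⟨⟨⟨sa, sb⟩, sd⟩, nab⟩, nad⟩, nbd⟩, la⟩, lb⟩, ld⟩, ma⟩, mb⟩, md⟩, hrest⟩ := h
    have hok := hD i (by omega)
    refine spanRun_sound hv hg hR hc1 hc2 hD htri H fuel _ _ _ (by omega) hrest fun j hj => ?_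
    rw [show Nat.lor seen (2 ^ k) = seen ||| 2 ^ k from rfl,
      Nat.testBit_or, Bool.or_eq_true, Nat.testBit_two_pow, decide_eq_true_eq] at hj
    rcases hj with hj | rfl
    · exact hs j hj
    obtain ⟨σ, hσ, -⟩ := exists_of_okPerm hok
    rw [← hσ, ← (repG_spec hR hc1).1, pmul_coe] at mb
    rw [← hσ, ← (repG_spec hR hc2).1, pmul_coe] at md
    have ea := wk_of_mem hv hg hR la rfl (by rwa [← hσ] at ma)
    have eb := wk_of_mem hv hg hR lb rfl mb
    have ed := wk_of_mem hv hg hR ld rfl md
    have hprod : wk emb w R a * wk emb w R b * wk emb w R d = 1 := by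
      rw [← ea, ← eb, ← ed, conjW_mul, conjW_mul]
      calc conjW emb w σ * (emb σ * wk emb w R D.c1 * (emb σ)⁻¹) * (emb σ * wk emb w R D.c2 * (emb σ)⁻¹)
          = emb σ * (w * wk emb w R D.c1 * wk emb w R D.c2) * (emb σ)⁻¹ := by rw [conjW]; group
        _ = 1 := by rw [htri]; group
    have hmem : ∀ x, x ≠ k → (cond (Nat.beq k x) true (Nat.beq (Nat.mod (Nat.shiftRight seen x) 2) 1)) = true →
        wk emb w R x ∈ H := fun x hx hc => by
      cases hb : Nat.beq k x
      · rw [hb, cond_false] at hc
        exact hs x ((testBit_iff seen x).1 hc)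
      · exact absurd (Nat.eq_of_beq_eq_true hb).symm hx
    have hne : ∀ {x y : ℕ}, Nat.beq x y = false → x ≠ y := fun {x y} hxy e => by
      rw [e] at hxy; simp at hxy
    cases hp : Nat.beq (st % 1099511627776 / 68719476736) 0
    · rw [hp, cond_false] at hk
      cases hp1 : Nat.beq (st % 1099511627776 / 68719476736) 1
      · rw [hp1, cond_false] at hk
        subst hk
        rw [eq_inv_of_mul_eq_one_right hprod]
        exact H.inv_mem (H.mul_mem (hmem a (hne nad) sa) (hmem b (hne nbd) sb))
      · rw [hp1, cond_true] at hk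
        subst hk
        have e : wk emb w R b = (wk emb w R a)⁻¹ * (wk emb w R d)⁻¹ := by
          rw [eq_inv_mul_iff_mul_eq]
          exact eq_inv_of_mul_eq_one_left hprod
        rw [e]
        exact H.mul_mem (H.inv_mem (hmem a (hne nab) sa)) (H.inv_mem (hmem d (hne nbd).symm sd))
    · rw [hp, cond_true] at hk
      subst hk
      have e : wk emb w R a = (wk emb w R b * wk emb w R d)⁻¹ := eq_inv_of_mul_eq_one_left (by rwa [← mul_assoc])
      rw [e]
      exact H.inv_mem (H.mul_mem (hmem b (hne nab).symm sb) (hmem d (hne nad).symm sd))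

end

theorem card_closure_invol_le {G : Type*} [Group G] : ∀ l : List G, (∀ a ∈ l, a * a = 1) →
    (∀ a ∈ l, ∀ b ∈ l, Commute a b) →
    Nat.card (Subgroup.closure {x | x ∈ l}) ≠ 0 ∧ Nat.card (Subgroup.closure {x | x ∈ l}) ≤ 2 ^ l.length
  | [], _, _ => by simp
  | a :: l, h2, hc => by
    obtain ⟨h0, hl⟩ := card_closure_invol_le l (fun b hb => h2 b (List.mem_cons_of_mem _ hb))
      (fun b hb b' hb' => hc b (List.mem_cons_of_mem _ hb) b' (List.mem_cons_of_mem _ hb'))
    set H := Subgroup.closure {x | x ∈ l} with hH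
    have ha : a * a = 1 := h2 a List.mem_cons_self
    have hcomm : ∀ x ∈ H, Commute a x := fun x hx => by
      have : H ≤ Subgroup.centralizer {a} := by
        rw [hH, Subgroup.closure_le]
        intro y hy
        rw [SetLike.mem_coe, Subgroup.mem_centralizer_singleton_iff]
        exact (hc a List.mem_cons_self y (List.mem_cons_of_mem _ hy)).eq.symm
      exact (Subgroup.mem_centralizer_singleton_iff.1 (this hx)).symm
    let K : Subgroup G :=
      { carrier := {g | g ∈ H ∨ a * g ∈ H}
        one_mem' := Or.inl H.one_mem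
        mul_mem' := by
          rintro g g' (hg | hg) (hg' | hg')
          · exact Or.inl (H.mul_mem hg hg')
          · exact Or.inr (by rw [← mul_assoc, (hcomm g hg).eq, mul_assoc]; exact H.mul_mem hg hg')
          · exact Or.inr (by rw [← mul_assoc]; exact H.mul_mem hg hg')
          · refine Or.inl ?_
            have e : g * g' = (a * g) * (a * g') := by
              have e1 : a * (a * g) = (a * g) * a := (hcomm _ hg).eq
              calc g * g' = (a * a) * g * g' := by rw [ha, one_mul]
                _ = (a * (a * g)) * g' := by group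
                _ = (a * g) * a * g' := by rw [e1]
                _ = (a * g) * (a * g') := by group
            rw [e]
            exact H.mul_mem hg hg'
        inv_mem' := by
          rintro g (hg | hg)
          · exact Or.inl (H.inv_mem hg)
          · refine Or.inr ?_
            have e1 := (hcomm _ (H.inv_mem hg)).eq
            rw [mul_inv_rev] at e1
            have e : a * g⁻¹ = (a * g)⁻¹ := by
              have ha' : a⁻¹ = a := inv_eq_of_mul_eq_one_right ha
              rw [mul_inv_rev, ha']
              rw [ha', mul_assoc, ha, mul_one] at e1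
              calc a * g⁻¹ = (a * (g⁻¹ * a)) * a := by rw [mul_assoc, mul_assoc, ha, mul_one]
                _ = g⁻¹ * a := by rw [e1]
            rw [e]
            exact H.inv_mem hg }
    have hsub : (Subgroup.closure {x | x ∈ a :: l} : Subgroup G) ≤ K := by
      rw [Subgroup.closure_le]
      intro x hx
      rcases List.mem_cons.1 hx with rfl | hx
      · exact Or.inr (by rw [ha]; exact H.one_mem)
      · exact Or.inl (Subgroup.subset_closure hx)
    have : Finite H := Nat.finite_of_card_ne_zero h0
    have hK : ∀ g : K, ∃ p : Bool × H, g.1 = cond p.1 a 1 * p.2.1 := by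
      rintro ⟨g, hg | hg⟩
      · exact ⟨(false, ⟨g, hg⟩), (one_mul g).symm⟩
      · exact ⟨(true, ⟨a * g, hg⟩), by show g = a * (a * g); rw [← mul_assoc, ha, one_mul]⟩
    choose f hf using hK
    have hinj : Function.Injective f := fun g g' e => Subtype.ext (by rw [hf g, hf g', e])
    have : Finite K := Finite.of_injective f hinj
    have : Finite (Subgroup.closure {x | x ∈ a :: l}) :=
      Finite.of_injective _ (Subgroup.inclusion_injective hsub)
    refine ⟨Nat.card_pos.ne', ?_⟩
    refine le_trans (Nat.card_le_card_of_injective _ (Subgroup.inclusion_injective hsub)) ?_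
    refine le_trans (Nat.card_le_card_of_injective f hinj) ?_
    rw [Nat.card_prod, Nat.card_eq_fintype_card, Fintype.card_bool, List.length_cons, pow_succ, mul_comm]
    exact Nat.mul_le_mul_right _ hl

end CfsgLib.J4DCE
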