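import Cfsg.Agent.Lib.J4DCE.Emb
import Cfsg.Agent.Lib.J4DCE.LocCheck
import Cfsg.Agent.Lib.J4DCE.WMod
import Cfsg.Agent.Lib.J4DCE.WData
import Cfsg.Agent.Lib.J4DCE.LoopWords
import Cfsg.Agent.Lib.J4Rep.Rep
import Mathlib.GroupTheory.Coset.Basic
import Mathlib.GroupTheory.GroupAction.Quotient

/-!
Closed paths of the local enumeration give elements of the copy of the group of the code; those acting
trivially on the binary vectors are trivial.
-/
set_option autoImplicit false
set_option maxRecDepth 20000

namespace CfsgLib.J4DCE.J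

open Cfsg
open CfsgLib.Presented (evW evW_cons evW_append evW_nil)
open CfsgLib.Presented.J4M24 (jx jy)
open CfsgLib.J4Rep (rep ev4 permX permY permT runW runW_fix' apply_word fixesBasis Vec112 permX_ne_one)

attribute [local irreducible] enc pmask tImg

/-- the letters to the value -/
noncomputable def jev : ℕ → Cfsg.Spor.J4 := ev4 jx jy jt

theorem rep_jx : rep jx = permX := PresentedGroup.toGroup.of _
theorem rep_jy : rep jy = permY := PresentedGroup.toGroup.of _
theorem rep_jt : rep jt = permT := PresentedGroup.toGroup.of _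

theorem rep_jev (x : ℕ) : rep (jev x) = ev4 permX permY permT x := by
  unfold jev ev4
  split <;> simp [rep_jx, rep_jy, rep_jt]

theorem rep_evW : ∀ w : List ℕ, rep (evW jev w) = evW (ev4 permX permY permT) w
  | [] => by simp
  | x :: w => by rw [evW_cons, evW_cons, map_mul, rep_jev, rep_evW w]

theorem rep_evW_eq_one {w : List ℕ} (hw : (w.all fun x => Nat.blt x 4) = true)
    (h : fixesBasis w.reverse = true) : rep (evW jev w) = 1 := by
  simp only [List.all_eq_true, Nat.blt_eq] at hw
  refine Equiv.ext fun v => Subtype.ext ?_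
  rw [rep_evW, apply_word w hw]
  exact runW_fix' h v

theorem rep_jemb_injective : Function.Injective (rep.comp jemb) := by
  have : IsSimpleGroup M24 := CfsgLib.Golay.isSimpleGroup_M24
  rw [← MonoidHom.ker_eq_bot_iff]
  refine (IsSimpleGroup.eq_bot_or_eq_top_of_normal _ inferInstance).resolve_right fun h => permX_ne_one ?_
  rw [← rep_jx, ← jemb_X]
  exact MonoidHom.mem_ker.1 (h ▸ Subgroup.mem_top mX : mX ∈ (rep.comp jemb).ker)

/-- the triple at the end of a path -/
noncomputable def pathT : List ℕ → ℕ
  | [] => Orb.T0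
  | k :: p => tImg (cond (Nat.beq k 0) Orb.permX Orb.permY) (pathT p)

/-- the word of a letter -/
noncomputable def pathW : List ℕ → List ℕ
  | [] => [3]
  | k :: p => cond (Nat.beq k 0) ([0] ++ pathW p ++ [0]) ([1] ++ pathW p ++ [2])

theorem path_spec : ∀ p : List ℕ,
    InOrb Orb.T0 (pathT p) ∧ evW jev (pathW p) = tau jemb jt Orb.T0 (pathT p)
  | [] => ⟨inOrb_T0, by rw [pathW, pathT, tau_T0]; simp [jev, ev4]⟩
  | k :: p => by
    obtain ⟨ho, he⟩ := path_spec p
    rw [pathW, pathT]
    cases Nat.beq k 0
    · rw [cond_false, cond_false, ← pk_permY]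
      refine ⟨ho.img mY, ?_⟩
      rw [← conj_tau setting ho mY, ← he, evW_append, evW_append, jemb_Y]
      simp [jev, ev4]
    · rw [cond_true, cond_true, ← pk_permX]
      refine ⟨ho.img mX, ?_⟩
      have hx : jx⁻¹ = jx := inv_eq_of_mul_eq_one_right (by rw [← jemb_X, ← map_mul, mX_sq, map_one])
      rw [← conj_tau setting ho mX, ← he, evW_append, evW_append, jemb_X, hx]
      simp [jev, ev4]

theorem val_paths : ∀ ps : List (List ℕ),
    val jemb jt Orb.T0 (ps.map pathT) = evW jev (ps.map pathW).flatten
  | [] => by simp [val]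
  | p :: ps => by
    rw [List.map_cons, List.map_cons, List.flatten_cons, val_cons, evW_append, val_paths ps, (path_spec p).2]

theorem loc_interp : Loc.cert.Interp jemb jt
    ((1 : Cfsg.Spor.J4) : Cfsg.Spor.J4 ⧸ jemb.range) where
  setting := setting
  fix σ := by
    rw [MulAction.Quotient.smul_coe, smul_eq_mul, mul_one]
    exact QuotientGroup.eq.2 (by simp)
  rels := relsOK _

/-- a closed path of the local enumeration acting trivially is trivial -/
theorem one_of_loop {st g : ℕ} {tgt : List ℕ} (h : Loc.cert.chkLoop 393 st g tgt = true)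
    {ps : List (List ℕ)} (hp : Presented.listEq (ps.map pathT) tgt = true)
    (hw : ((ps.map pathW).flatten.all fun x => Nat.blt x 4) = true)
    (hf : fixesBasis (ps.map pathW).flatten.reverse = true) : val jemb jt Orb.T0 tgt = 1 := by
  have hb := Cert.loop_sound loc_interp Loc.facts_ok h
  change val jemb jt Orb.T0 tgt • _ = _ at hb
  rw [MulAction.Quotient.smul_coe, smul_eq_mul, mul_one] at hb
  have hm : val jemb jt Orb.T0 tgt ∈ jemb.range := by
    have := QuotientGroup.eq.1 hb.symm
    simpa using this
  obtain ⟨σ, hσ⟩ := hm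
  have h1 : (rep.comp jemb) σ = 1 := by
    rw [MonoidHom.comp_apply, hσ, ← Presented.listEq_eq hp, val_paths, rep_evW_eq_one hw hf]
  rw [← hσ, rep_jemb_injective (h1.trans (map_one _).symm), map_one]

theorem val_append (u v : List ℕ) :
    val jemb jt Orb.T0 (u ++ v) = val jemb jt Orb.T0 u * val jemb jt Orb.T0 v := by
  simp [val]

/-- cancel, from the right -/
noncomputable def redR : List ℕ → List ℕ
  | [] => []
  | u :: l => pushT u (redR l)

theorem val_redR : ∀ l : List ℕ, val jemb jt Orb.T0 (redR l) = val jemb jt Orb.T0 l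
  | [] => rfl
  | u :: l => by rw [redR, val_pushT setting, val_redR l, val_cons]

theorem val_of_red {tgt l : List ℕ} (h : val jemb jt Orb.T0 tgt = 1)
    (hl : Presented.listEq (redR l) tgt = true) : val jemb jt Orb.T0 l = 1 := by
  rw [← val_redR, Presented.listEq_eq hl, h]

/-- the letters of `w` -/
noncomputable def wl : List ℕ := (rl 7).us

/-- the letters of a conjugate of `w` -/
noncomputable def wlc (g : ℕ) : List ℕ := wl.map fun u => tImg g u

theorem val_wl : val jemb jt Orb.T0 wl = jw := val_w

theorem val_wlc {ρ : M24} {g : ℕ} (h : pk ρ.1 = g) :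
    val jemb jt Orb.T0 (wlc g) = conjW jemb jw ρ := by
  rw [conjW, ← val_w, ← conj_prod setting ρ _ w_inOrb, val, wlc, List.map_map, ← h]
  rfl

end CfsgLib.J4DCE.J
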