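import Cfsg.Agent.Lib.J4DCE.LoopBase

/-! The loops of the local enumeration as elements: kernel checks. -/
set_option autoImplicit false
set_option maxRecDepth 20000

namespace CfsgLib.J4DCE.J

open Cfsg

attribute [local irreducible] enc pmask tImg

set_option maxHeartbeats 0 in
theorem loopC60 : val jemb jt Orb.T0 (wl ++ wlc (WMod.reps.p 60) ++ (wl ++ wlc (WMod.reps.p 60))) = 1 :=
  val_of_red (one_of_loop Loc.loop_c90 (ps := Loc.pathC60)
    (by decide +kernel) (by decide +kernel) (by decide +kernel)) (by decide +kernel)

set_option maxHeartbeats 0 in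
theorem loopTri : val jemb jt Orb.T0 (wl ++ wlc (WMod.reps.p 60) ++ wlc (WMod.reps.p 1514)) = 1 :=
  val_of_red (one_of_loop Loc.loop_tri (ps := Loc.pathTri)
    (by decide +kernel) (by decide +kernel) (by decide +kernel)) (by decide +kernel)

end CfsgLib.J4DCE.J
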