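import Cfsg.Agent.Lib.J4DCE.LoopA
import Cfsg.Agent.Lib.J4DCE.LoopB
import Cfsg.Agent.Lib.J4DCE.LoopC

/-!
Consequences of the loops: `w` is an involution, its stabiliser, the commutations and the triangle.
-/
set_option autoImplicit false
set_option maxRecDepth 20000

namespace CfsgLib.J4DCE.J

open Cfsg
open CfsgLib.Presented.J4M24 (jx jy)

attribute [local irreducible] enc pmask tImg

theorem jw_sq : jw * jw = 1 := by
  have h := loopSq
  rwa [val_append, val_wl] at h

theorem mem_commQ_of_loop {ρ : M24} {g : ℕ} (hρ : pk ρ.1 = g)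
    (h : val jemb jt Orb.T0 (wl ++ wlc g) = 1) : ρ ∈ commQ jemb jw := by
  rw [val_append, val_wl, val_wlc hρ] at h
  have e : conjW jemb jw ρ = jw :=
    (eq_inv_of_mul_eq_one_right h).trans (inv_eq_of_mul_eq_one_right jw_sq)
  rw [mem_commQ]
  calc jemb ρ * jw = conjW jemb jw ρ * jemb ρ := by rw [conjW]; group
    _ = jw * jemb ρ := by rw [e]

theorem exists_stabA : ∃ ρ ∈ commQ jemb jw,
    pk ρ.1 = WMod.permA ∧ pk (ρ⁻¹ : M24).1 = WMod.permAi := by
  obtain ⟨ρ, h1, h2⟩ := exists_of_okPerm (p := WMod.permA) (q := WMod.permAi) (by decide +kernel)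
  exact ⟨ρ, mem_commQ_of_loop h1 loopA, h1, h2⟩

theorem exists_stabB : ∃ ρ ∈ commQ jemb jw,
    pk ρ.1 = WMod.permB ∧ pk (ρ⁻¹ : M24).1 = WMod.permBi := by
  obtain ⟨ρ, h1, h2⟩ := exists_of_okPerm (p := WMod.permB) (q := WMod.permBi) (by decide +kernel)
  exact ⟨ρ, mem_commQ_of_loop h1 loopB, h1, h2⟩

theorem wk_val (hR : WMod.reps.ok = true) {k : ℕ} (hk : k < 1771) :
    val jemb jt Orb.T0 (wlc (WMod.reps.p k)) = wk jemb jw WMod.reps k :=
  val_wlc (repG_spec hR (show k < WMod.reps.n from hk)).1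

theorem commute_of_sq {x : Cfsg.Spor.J4} (hx : x * x = 1)
    (h : jw * x * (jw * x) = 1) : Commute jw x := by
  have hw' : jw⁻¹ = jw := inv_eq_of_mul_eq_one_right jw_sq
  have hx' : x⁻¹ = x := inv_eq_of_mul_eq_one_right hx
  show jw * x = x * jw
  rw [eq_inv_of_mul_eq_one_left h, mul_inv_rev, hw', hx']

theorem wk_sq (k : ℕ) : wk jemb jw WMod.reps k * wk jemb jw WMod.reps k = 1 := by
  rw [wk, conjW]
  calc _ = jemb (repG WMod.reps k) * (jw * jw) * (jemb (repG WMod.reps k))⁻¹ := by group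
    _ = 1 := by rw [jw_sq]; group

theorem commute_start (hR : WMod.reps.ok = true) : ∀ k ∈ WMod.starts, Commute jw (wk jemb jw WMod.reps k) := by
  intro k hk
  have key : ∀ j < 1771, val jemb jt Orb.T0 (wl ++ wlc (WMod.reps.p j) ++ (wl ++ wlc (WMod.reps.p j))) = 1 →
      Commute jw (wk jemb jw WMod.reps j) := fun j hj h => by
    simp only [val_append, val_wl, wk_val hR hj] at h
    exact commute_of_sq (wk_sq j) h
  simp only [WMod.starts, List.mem_cons, List.not_mem_nil, or_false] at hk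
  rcases hk with rfl | rfl | rfl | rfl
  · rw [wk_zero hR]
  · exact key 1 (by norm_num) loopC1
  · exact key 7 (by norm_num) loopC7
  · exact key 60 (by norm_num) loopC60

theorem triangle (hR : WMod.reps.ok = true) :
    jw * wk jemb jw WMod.reps 60 * wk jemb jw WMod.reps 1514 = 1 := by
  have h := loopTri
  simpa only [val_append, val_wl, wk_val hR (show 60 < 1771 by norm_num),
    wk_val hR (show 1514 < 1771 by norm_num)] using h

end CfsgLib.J4DCE.J
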