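import Cfsg.Agent.Lib.J4DCE.TopData

/-! Generated: kernel checks of facts. -/
set_option autoImplicit false
set_option maxRecDepth 20000

namespace CfsgLib.J4DCE.Top

open CfsgLib.Presented (ATree NTree)

theorem ok_512 : cert.OKOn 512 768 :=
  cert.okOn_of_chkRange 256 512 (by decide +kernel)


end CfsgLib.J4DCE.Top
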