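import Cfsg.Agent.Lib.J4DCE.TopCheck0
import Cfsg.Agent.Lib.J4DCE.TopCheck1
import Cfsg.Agent.Lib.J4DCE.TopCheck2
import Cfsg.Agent.Lib.J4DCE.TopCheck3
import Cfsg.Agent.Lib.J4DCE.TopCheck4
import Cfsg.Agent.Lib.J4DCE.TopCheck5
import Cfsg.Agent.Lib.J4DCE.TopCheck6
import Cfsg.Agent.Lib.J4DCE.TopCheck7
import Cfsg.Agent.Lib.J4DCE.TopCover0
import Cfsg.Agent.Lib.J4DCE.TopCover1
import Cfsg.Agent.Lib.J4DCE.TopCover2
import Cfsg.Agent.Lib.J4DCE.TopCover3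
import Cfsg.Agent.Lib.J4DCE.TopCover4
import Cfsg.Agent.Lib.J4DCE.TopCover5
import Cfsg.Agent.Lib.J4DCE.TopCover6
import Cfsg.Agent.Lib.J4DCE.TopCover7
import Cfsg.Agent.Lib.J4DCE.TopCover8
import Cfsg.Agent.Lib.J4DCE.TopCover9
import Cfsg.Agent.Lib.J4DCE.TopStab

/-! Generated: all checks together. -/
set_option autoImplicit false
set_option maxRecDepth 20000

namespace CfsgLib.J4DCE.Top

open CfsgLib.Presented (ATree NTree)

theorem facts_ok : cert.OKOn 0 nF :=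
  (Cert.OKOn.append ok_0 (Cert.OKOn.append ok_256 (Cert.OKOn.append ok_512 (Cert.OKOn.append ok_768 (Cert.OKOn.append ok_1024 (Cert.OKOn.append ok_1280 (Cert.OKOn.append ok_1536 ok_1792)))))))

theorem covers : ∀ l ∈ live, ∃ st, coverRun cert Orb.orb nF live l Orb.orb.R.n st 0 = true := by
  intro l hl
  simp only [live, List.mem_cons, List.not_mem_nil, or_false] at hl
  rcases hl with rfl | rfl | rfl | rfl | rfl | rfl | rfl | rfl | rfl | rfl | rfl | rfl | rfl | rfl | rfl | rfl | rfl | rfl | rfl | rfl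
  · exact ⟨_, cover_0⟩
  · exact ⟨_, cover_1⟩
  · exact ⟨_, cover_3⟩
  · exact ⟨_, cover_4⟩
  · exact ⟨_, cover_5⟩
  · exact ⟨_, cover_6⟩
  · exact ⟨_, cover_7⟩
  · exact ⟨_, cover_8⟩
  · exact ⟨_, cover_9⟩
  · exact ⟨_, cover_10⟩
  · exact ⟨_, cover_11⟩
  · exact ⟨_, cover_12⟩
  · exact ⟨_, cover_13⟩
  · exact ⟨_, cover_15⟩
  · exact ⟨_, cover_16⟩
  · exact ⟨_, cover_17⟩
  · exact ⟨_, cover_18⟩
  · exact ⟨_, cover_19⟩
  · exact ⟨_, cover_20⟩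
  · exact ⟨_, cover_21⟩

end CfsgLib.J4DCE.Top
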