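import Cfsg.Agent.Lib.J4DCE.WData
import Cfsg.Agent.Lib.J4DCE.WMod

/-! Generated: checks for the conjugates of the element w. -/
set_option autoImplicit false
set_option maxRecDepth 20000

namespace CfsgLib.J4DCE.WMod

theorem reps_ok_0 : reps.okRange 0 384 = true := by decide +kernel

theorem reps_ok_384 : reps.okRange 384 384 = true := by decide +kernel

theorem reps_ok_768 : reps.okRange 768 384 = true := by decide +kernel

theorem reps_ok_1152 : reps.okRange 1152 384 = true := by decide +kernel

theorem reps_ok_1536 : reps.okRange 1536 235 = true := by decide +kernel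

theorem reps_ok : reps.ok = true := by
  refine Reps.ok_of_ranges (by decide +kernel) ?_
  intro k hk
  have hk : k < 1771 := hk
  rcases Nat.lt_or_ge k 384 with h0 | h0
  · exact ⟨0, 384, by omega, by omega, reps_ok_0⟩
  rcases Nat.lt_or_ge k 768 with h384 | h384
  · exact ⟨384, 384, by omega, by omega, reps_ok_384⟩
  rcases Nat.lt_or_ge k 1152 with h768 | h768
  · exact ⟨768, 384, by omega, by omega, reps_ok_768⟩
  rcases Nat.lt_or_ge k 1536 with h1152 | h1152
  · exact ⟨1152, 384, by omega, by omega, reps_ok_1152⟩
  exact ⟨1536, 235, by omega, by omega, reps_ok_1536⟩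

theorem chainW_valid : chainW.valid = true := by decide +kernel

theorem stepX : stepOK chainW reps Orb.permX nxX 0 1771 = true := by decide +kernel

theorem stepY : stepOK chainW reps Orb.permY nxY 0 1771 = true := by decide +kernel

/-- the spanning data -/
def spanData : SpanData := ⟨spanPerm, spanPermI, 60, 1514⟩

theorem orb_run : orbRun chainW reps permA permB orbLen orbSteps (maskOf starts) = true := by decide +kernel

theorem span_ok_0 : spanData.okRange 0 384 = true := by decide +kernel

theorem span_ok_384 : spanData.okRange 384 384 = true := by decide +kernel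

theorem span_ok_768 : spanData.okRange 768 384 = true := by decide +kernel

theorem span_ok_1152 : spanData.okRange 1152 384 = true := by decide +kernel

theorem span_ok_1536 : spanData.okRange 1536 224 = true := by decide +kernel

theorem span_ok : spanData.OK spanLen := by
  refine SpanData.ok_of_ranges ?_
  intro k hk
  have hk : k < 1760 := hk
  rcases Nat.lt_or_ge k 384 with h0 | h0
  · exact ⟨0, 384, by omega, by omega, span_ok_0⟩
  rcases Nat.lt_or_ge k 768 with h384 | h384
  · exact ⟨384, 384, by omega, by omega, span_ok_384⟩
  rcases Nat.lt_or_ge k 1152 with h768 | h768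
  · exact ⟨768, 384, by omega, by omega, span_ok_768⟩
  rcases Nat.lt_or_ge k 1536 with h1152 | h1152
  · exact ⟨1152, 384, by omega, by omega, span_ok_1152⟩
  exact ⟨1536, 224, by omega, by omega, span_ok_1536⟩

theorem span_run : spanRun chainW reps spanData spanLen 0 spanSteps (maskOf basis) = true := by decide +kernel

end CfsgLib.J4DCE.WMod
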