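import Cfsg.Agent.Lib.J4DCE.Loops
import Cfsg.Agent.Lib.J4DCE.WCheck
import Cfsg.Agent.Lib.J4DCE.TopAll

/-!
The presented fourth Janko group is finite: the subgroup generated by the copy of the group of the code
and the element `w` is small, and its cosets fall into twenty orbits of bounded size.
-/
set_option autoImplicit false
set_option maxRecDepth 20000

namespace CfsgLib.J4DCE.J

open Cfsg
open CfsgLib.Presented.J4M24 (jx jy)

attribute [local irreducible] enc pmask tImg

/-! ### The conjugates of `w` -/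

theorem chainW_gens : WMod.chainW.GensIn (commQ jemb jw) := by
  obtain ⟨α, hα, ha, ha'⟩ := exists_stabA
  obtain ⟨β, hβ, hb, hb'⟩ := exists_stabB
  intro n hn
  have hn' : n < 4 := hn
  obtain rfl | rfl | rfl | rfl : n = 0 ∨ n = 1 ∨ n = 2 ∨ n = 3 := by omega
  · exact ⟨α, hα, ha.trans (Nat.eq_of_beq_eq_true (by decide +kernel)),
      ha'.trans (Nat.eq_of_beq_eq_true (by decide +kernel))⟩
  · exact ⟨α⁻¹, Subgroup.inv_mem _ hα, ha'.trans (Nat.eq_of_beq_eq_true (by decide +kernel)),
      (by rw [inv_inv]; exact ha.trans (Nat.eq_of_beq_eq_true (by decide +kernel)))⟩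
  · exact ⟨β, hβ, hb.trans (Nat.eq_of_beq_eq_true (by decide +kernel)),
      hb'.trans (Nat.eq_of_beq_eq_true (by decide +kernel))⟩
  · exact ⟨β⁻¹, Subgroup.inv_mem _ hβ, hb'.trans (Nat.eq_of_beq_eq_true (by decide +kernel)),
      (by rw [inv_inv]; exact hb.trans (Nat.eq_of_beq_eq_true (by decide +kernel)))⟩

theorem carriesWX : Carries (commQ jemb jw) WMod.reps mX :=
  carries_of_stepOK WMod.chainW_valid chainW_gens WMod.reps_ok pk_permX
    fun _ hk => ⟨0, 1771, Nat.zero_le _, by simpa [WMod.reps] using hk, WMod.stepX⟩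

theorem carriesWY : Carries (commQ jemb jw) WMod.reps mY :=
  carries_of_stepOK WMod.chainW_valid chainW_gens WMod.reps_ok pk_permY
    fun _ hk => ⟨0, 1771, Nat.zero_le _, by simpa [WMod.reps] using hk, WMod.stepY⟩

theorem commute_wk {k : ℕ} (hk : k < 1771) : Commute jw (wk jemb jw WMod.reps k) := by
  obtain ⟨α, hα, ha, -⟩ := exists_stabA
  obtain ⟨β, hβ, hb, -⟩ := exists_stabB
  exact orbRun_sound WMod.chainW_valid chainW_gens WMod.reps_ok hα hβ ha hb _ _ _ WMod.orb_run
    (fun j hj => commute_start WMod.reps_ok j (mem_of_maskOf _ j hj)) k hk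

theorem exists_wk' (σ : M24) : ∃ k < 1771, conjW jemb jw σ = wk jemb jw WMod.reps k :=
  exists_wk WMod.reps_ok carriesWX carriesWY σ

theorem commute_conjW (σ τ : M24) : Commute (conjW jemb jw σ) (conjW jemb jw τ) := by
  obtain ⟨k, hk, e⟩ := exists_wk' (σ⁻¹ * τ)
  have h : Commute jw (conjW jemb jw (σ⁻¹ * τ)) := e ▸ commute_wk hk
  have h1 : conjW jemb jw τ = jemb σ * conjW jemb jw (σ⁻¹ * τ) * (jemb σ)⁻¹ := by
    rw [← conjW_mul, mul_inv_cancel_left]
  rw [h1]
  show jemb σ * jw * (jemb σ)⁻¹ * _ = _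
  calc jemb σ * jw * (jemb σ)⁻¹ * (jemb σ * conjW jemb jw (σ⁻¹ * τ) * (jemb σ)⁻¹)
      = jemb σ * (jw * conjW jemb jw (σ⁻¹ * τ)) * (jemb σ)⁻¹ := by group
    _ = jemb σ * (conjW jemb jw (σ⁻¹ * τ) * jw) * (jemb σ)⁻¹ := by rw [h.eq]
    _ = jemb σ * conjW jemb jw (σ⁻¹ * τ) * (jemb σ)⁻¹ * (jemb σ * jw * (jemb σ)⁻¹) := by group

/-- the elementary abelian subgroup generated by the conjugates of `w` -/
noncomputable def subW : Subgroup Cfsg.Spor.J4 := Subgroup.closure (Set.range (conjW jemb jw))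

theorem conjW_mem (σ : M24) : conjW jemb jw σ ∈ subW := Subgroup.subset_closure ⟨σ, rfl⟩

theorem jw_mem : jw ∈ subW := by
  have h := conjW_mem 1
  rwa [conjW, map_one, inv_one, mul_one, one_mul] at h

theorem wk_triangle_eq : jw * wk jemb jw WMod.reps WMod.spanData.c1 * wk jemb jw WMod.reps WMod.spanData.c2 = 1 :=
  triangle WMod.reps_ok

theorem subW_le_basis :
    subW ≤ Subgroup.closure {x | x ∈ WMod.basis.map (wk jemb jw WMod.reps)} := by
  rw [subW, Subgroup.closure_le]
  rintro _ ⟨σ, rfl⟩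
  obtain ⟨k, hk, e⟩ := exists_wk' σ
  rw [e]
  exact spanRun_sound (D := WMod.spanData) WMod.chainW_valid chainW_gens WMod.reps_ok
    (by decide) (by decide) WMod.span_ok wk_triangle_eq _ _ _ _ _ (le_of_eq (Nat.zero_add _)) WMod.span_run
    (fun j hj => Subgroup.subset_closure (List.mem_map_of_mem (mem_of_maskOf _ j hj))) k hk

theorem subW_card : Nat.card subW ≠ 0 ∧ Nat.card subW ≤ 2 ^ 11 := by
  obtain ⟨h0, h1⟩ := card_closure_invol_le (WMod.basis.map (wk jemb jw WMod.reps))
    (fun a ha => by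
      obtain ⟨k, -, rfl⟩ := List.mem_map.1 ha
      exact wk_sq k)
    (fun a ha b hb => by
      obtain ⟨k, -, rfl⟩ := List.mem_map.1 ha
      obtain ⟨l, -, rfl⟩ := List.mem_map.1 hb
      exact commute_conjW _ _)
  have := Nat.finite_of_card_ne_zero h0
  have hle := Subgroup.inclusion_injective subW_le_basis
  have : Finite subW := Finite.of_injective _ hle
  exact ⟨Nat.card_pos.ne', (Nat.card_le_card_of_injective _ hle).trans
    (h1.trans_eq (by rw [List.length_map]; rfl))⟩

instance subW_finite : Finite subW := Nat.finite_of_card_ne_zero subW_card.1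

theorem subW_conj (σ : M24) {a : Cfsg.Spor.J4} (ha : a ∈ subW) : jemb σ * a * (jemb σ)⁻¹ ∈ subW := by
  have h : subW ≤ subW.comap (MulAut.conj (jemb σ)).toMonoidHom := by
    rw [subW, Subgroup.closure_le]
    rintro _ ⟨τ, rfl⟩
    show jemb σ * conjW jemb jw τ * (jemb σ)⁻¹ ∈ Subgroup.closure (Set.range (conjW jemb jw))
    rw [← conjW_mul]
    exact Subgroup.subset_closure ⟨_, rfl⟩
  exact h ha

theorem subW_comm {a b : Cfsg.Spor.J4} (ha : a ∈ subW) (hb : b ∈ subW) : Commute a b := by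
  have key : ∀ {s : Set Cfsg.Spor.J4} (x : Cfsg.Spor.J4), (∀ y ∈ s, Commute x y) →
      ∀ y ∈ Subgroup.closure s, Commute x y := fun {s} x h y hy => by
    have : Subgroup.closure s ≤ Subgroup.centralizer {x} := by
      rw [Subgroup.closure_le]
      intro z hz
      rw [SetLike.mem_coe, Subgroup.mem_centralizer_singleton_iff]
      exact (h z hz).eq.symm
    exact (Subgroup.mem_centralizer_singleton_iff.1 (this hy)).symm
  refine key a ?_ b hb
  rintro _ ⟨σ, rfl⟩
  refine (key _ ?_ a ha).symm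
  rintro _ ⟨τ, rfl⟩
  exact commute_conjW σ τ

theorem subW_sq {a : Cfsg.Spor.J4} (ha : a ∈ subW) : a * a = 1 := by
  induction ha using Subgroup.closure_induction with
  | mem x hx =>
    obtain ⟨σ, rfl⟩ := hx
    rw [conjW]
    calc _ = jemb σ * (jw * jw) * (jemb σ)⁻¹ := by group
      _ = 1 := by rw [jw_sq]; group
  | one => exact one_mul 1
  | mul x y hx hy ihx ihy =>
    have e := (subW_comm hy hx).eq
    calc x * y * (x * y) = x * (y * x) * y := by group
      _ = x * (x * y) * y := by rw [e]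
      _ = (x * x) * (y * y) := by group
      _ = 1 := by rw [ihx, ihy, one_mul]
  | inv x _ ih => rw [← mul_inv_rev, ih, inv_one]

/-! ### The subgroup -/

/-- the subgroup generated by the copy of the group of the code and `w` -/
noncomputable def subH : Subgroup Cfsg.Spor.J4 := Subgroup.closure (Set.range jemb ∪ {jw})

theorem jemb_mem (σ : M24) : jemb σ ∈ subH := Subgroup.subset_closure (Or.inl ⟨σ, rfl⟩)

theorem subW_le_subH : subW ≤ subH := by
  rw [subW, Subgroup.closure_le]
  rintro _ ⟨σ, rfl⟩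
  exact Subgroup.mul_mem _ (Subgroup.mul_mem _ (jemb_mem σ) (Subgroup.subset_closure (Or.inr rfl)))
    (Subgroup.inv_mem _ (jemb_mem σ))

theorem mem_subH {g : Cfsg.Spor.J4} : g ∈ subH ↔ ∃ a ∈ subW, ∃ σ : M24, g = a * jemb σ := by
  refine ⟨fun hg => ?_, ?_⟩
  · induction hg using Subgroup.closure_induction with
    | mem x hx =>
      rcases hx with ⟨σ, rfl⟩ | rfl
      · exact ⟨1, subW.one_mem, σ, (one_mul _).symm⟩
      · exact ⟨jw, jw_mem, 1, by rw [map_one, mul_one]⟩
    | one => exact ⟨1, subW.one_mem, 1, by rw [map_one, mul_one]⟩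
    | mul x y _ _ ihx ihy =>
      obtain ⟨a, ha, σ, rfl⟩ := ihx
      obtain ⟨b, hb, τ, rfl⟩ := ihy
      exact ⟨a * (jemb σ * b * (jemb σ)⁻¹), subW.mul_mem ha (subW_conj σ hb), σ * τ, by rw [map_mul]; group⟩
    | inv x _ ih =>
      obtain ⟨a, ha, σ, rfl⟩ := ih
      exact ⟨jemb σ⁻¹ * a⁻¹ * (jemb σ⁻¹)⁻¹, subW_conj σ⁻¹ (subW.inv_mem ha), σ⁻¹, by rw [map_inv]; group⟩
  · rintro ⟨a, ha, σ, rfl⟩
    exact subH.mul_mem (subW_le_subH ha) (jemb_mem σ)

/-- the product map -/
noncomputable def mapH (x : subW × M24) : subH :=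
  ⟨x.1.1 * jemb x.2, mem_subH.2 ⟨x.1.1, x.1.2, x.2, rfl⟩⟩

theorem mapH_surjective : Function.Surjective mapH := fun g => by
  obtain ⟨a, ha, σ, e⟩ := mem_subH.1 g.2
  exact ⟨(⟨a, ha⟩, σ), Subtype.ext e.symm⟩

theorem card_M24_ne : Nat.card M24 ≠ 0 := by rw [CfsgLib.Golay.natCard_M24]; norm_num

instance M24_finite : Finite M24 := Nat.finite_of_card_ne_zero card_M24_ne

instance subH_finite : Finite subH := Finite.of_surjective _ mapH_surjective

theorem subH_card_le : Nat.card subH ≤ 2 ^ 11 * 244823040 := by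
  refine (Nat.card_le_card_of_surjective _ mapH_surjective).trans ?_
  rw [Nat.card_prod, CfsgLib.Golay.natCard_M24]
  exact Nat.mul_le_mul_right _ subW_card.2

/-! ### The cosets -/

/-- the cosets -/
abbrev Cosets : Type := Cfsg.Spor.J4 ⧸ subH

/-- the base coset -/
noncomputable def cbase : Cosets := ((1 : Cfsg.Spor.J4) : Cfsg.Spor.J4 ⧸ subH)

theorem smul_cbase (g : Cfsg.Spor.J4) : g • cbase = (g : Cfsg.Spor.J4 ⧸ subH) := by
  rw [cbase, MulAction.Quotient.smul_coe, smul_eq_mul, mul_one]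

theorem smul_cbase_eq {g : Cfsg.Spor.J4} : g • cbase = cbase ↔ g ∈ subH := by
  rw [smul_cbase, cbase, QuotientGroup.eq, mul_one, Subgroup.inv_mem_iff]

theorem rels_split : Rels.rels = Rels.rels.take 7 ++ [rl 7] := by rfl

theorem top_interp : Top.cert.Interp jemb jt cbase where
  setting := setting
  fix σ := smul_cbase_eq.2 (jemb_mem σ)
  rels R hR := by
    have hR' : R ∈ Rels.rels.take 7 ++ [rl 7] := rels_split ▸ hR
    rcases List.mem_append.1 hR' with h | h
    · exact relsOK _ R h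
    rw [List.mem_singleton.1 h]
    refine ⟨w_inOrb, 1, Nat.eq_of_beq_eq_true (by decide +kernel), Nat.eq_of_beq_eq_true (by decide +kernel), ?_⟩
    rw [if_pos (show (rl 7).base = true from rfl)]
    exact ⟨rfl, smul_cbase_eq.2 (show val jemb jt Orb.T0 (rl 7).us ∈ subH by
      rw [val_w]; exact subW_le_subH jw_mem)⟩

theorem closure_emb_t : Subgroup.closure (Set.range jemb ∪ {jt}) = (⊤ : Subgroup Cfsg.Spor.J4) := by
  rw [eq_top_iff, ← PresentedGroup.closure_range_of
    (Cfsg.Spor.coxRelators Cfsg.Spor.J4.edges ∪ {r | r ∈ Cfsg.Spor.J4.extra}), Subgroup.closure_le]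
  rintro _ ⟨a, rfl⟩
  cases a
  · exact Subgroup.subset_closure (Or.inl ⟨mX, jemb_X⟩)
  · exact Subgroup.subset_closure (Or.inl ⟨mY, jemb_Y⟩)
  · exact Subgroup.subset_closure (Or.inr rfl)

/-- a named point -/
noncomputable def cpt (l : ℕ) : Cosets := Top.cert.pt jemb jt cbase l

theorem cover_all (x : Cosets) : ∃ σ : M24, ∃ l ∈ Top.live, x = jemb σ • cpt l := by
  obtain ⟨g, rfl⟩ := QuotientGroup.mk_surjective x
  rw [← smul_cbase g]
  exact orbSet_closed top_interp rfl Orb.orb_ok carriesX carriesY Top.facts_ok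
    (by decide) Top.covers (closure_emb_t.symm ▸ Subgroup.mem_top g)

instance cosets_finite : Finite Cosets := by
  have : Finite {l // l ∈ Top.live} := Top.live.finite_toSet.to_subtype
  refine Finite.of_surjective (fun p : M24 × {l // l ∈ Top.live} => jemb p.1 • cpt p.2.1) fun x => ?_
  obtain ⟨σ, l, hl, e⟩ := cover_all x
  exact ⟨(σ, ⟨l, hl⟩), e.symm⟩

instance J4_finite : Finite Cfsg.Spor.J4 :=
  Nat.finite_of_card_ne_zero (by
    rw [Subgroup.card_eq_card_quotient_mul_card_subgroup subH]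
    exact Nat.mul_ne_zero Nat.card_pos.ne' Nat.card_pos.ne')

/-! ### The orbit sizes -/

/-- the orbit of a named point under the group of the code -/
noncomputable def orbM (l : ℕ) : Set Cosets := Set.range fun σ : M24 => jemb σ • cpt l

/-- a generator of a stabiliser comes from a fact -/
noncomputable def genOK (l : ℕ) (c : Chain) (code n : ℕ) : Bool :=
  Presented.Vec.force (code / 2) fun f =>
    Nat.blt f Top.nF && Nat.beq (Top.cert.facts.get f).r 0 && Nat.beq (Top.cert.facts.get f).i l &&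
      Nat.beq (Top.cert.facts.get f).j l &&
      cond (Nat.beq (code % 2) 0)
        (Nat.beq (Top.cert.facts.get f).g (c.p n) && Nat.beq (Top.cert.facts.get f).gi (c.q n))
        (Nat.beq (Top.cert.facts.get f).gi (c.p n) && Nat.beq (Top.cert.facts.get f).g (c.q n))

/-- a stabiliser chain is valid and gives the size -/
noncomputable def nodeOK (e : ℕ × Chain × List ℕ × ℕ) : Bool :=
  e.2.1.valid && e.2.1.lower [] e.2.1.levels && Nat.beq (lenProd e.2.1.levels * e.2.2.2) 244823040 &&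
    (List.range e.2.1.ng).all fun n => genOK e.1 e.2.1 (e.2.2.1.getD n 0) n

theorem nodes_ok : Top.chains.all nodeOK = true := by decide +kernel

theorem orbM_card_le {e : ℕ × Chain × List ℕ × ℕ} (he : e ∈ Top.chains) :
    (orbM e.1).ncard ≤ e.2.2.2 := by
  have h := List.all_eq_true.1 nodes_ok e he
  simp only [nodeOK, Bool.and_eq_true, List.all_eq_true, List.mem_range] at h
  obtain ⟨⟨⟨hv, hl⟩, hsz⟩, hg⟩ := h
  have hsz := Nat.eq_of_beq_eq_true hsz
  let Q : Subgroup M24 := (MulAction.stabilizer Cfsg.Spor.J4 (cpt e.1)).comap jemb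
  have hQ : e.2.1.GensIn Q := fun n hn => by
    have h := hg n hn
    simp only [genOK, Presented.Vec.force_eq, Bool.and_eq_true, Nat.blt_eq] at h
    obtain ⟨⟨⟨⟨hf, hr⟩, hi⟩, hj⟩, hc⟩ := h
    obtain ⟨-, ρ, hρ, hρ', hfact⟩ := Cert.holds_of_ok top_interp Top.facts_ok _ hf
    rw [Nat.eq_of_beq_eq_true hi, Nat.eq_of_beq_eq_true hj, Nat.eq_of_beq_eq_true hr, ltr, if_pos rfl,
      one_smul] at hfact
    have hρQ : ρ ∈ Q := MulAction.mem_stabilizer_iff.2 hfact
    cases hb : Nat.beq (e.2.2.1.getD n 0 % 2) 0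
    · rw [hb, cond_false, Bool.and_eq_true] at hc
      exact ⟨ρ⁻¹, Q.inv_mem hρQ, hρ'.trans (Nat.eq_of_beq_eq_true hc.1),
        by rw [inv_inv]; exact hρ.trans (Nat.eq_of_beq_eq_true hc.2)⟩
    · rw [hb, cond_true, Bool.and_eq_true] at hc
      exact ⟨ρ, hρQ, hρ.trans (Nat.eq_of_beq_eq_true hc.1), hρ'.trans (Nat.eq_of_beq_eq_true hc.2)⟩
  have hcard := Chain.le_card hv hQ hl
  have hs : ∀ x : orbM e.1, ∃ σ : M24, jemb σ • cpt e.1 = x.1 := fun x => x.2
  choose s hs using hs
  let f : orbM e.1 × Q → M24 := fun p => s p.1 * p.2.1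
  have hf : Function.Injective f := by
    rintro ⟨x, a⟩ ⟨y, b⟩ hxy
    have key : ∀ (x : orbM e.1) (a : Q), jemb (s x * a.1) • cpt e.1 = x.1 := fun x a => by
      rw [map_mul, mul_smul, show jemb a.1 • cpt e.1 = cpt e.1 from MulAction.mem_stabilizer_iff.1 a.2, hs]
    have : x = y := Subtype.ext (by rw [← key x a, ← key y b]; exact congrArg (fun g => jemb g • cpt e.1) hxy)
    subst this
    exact Prod.ext rfl (Subtype.ext (mul_left_cancel hxy))
  have hle := Nat.card_le_card_of_injective f hf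
  rw [Nat.card_prod, Nat.card_coe_set_eq, CfsgLib.Golay.natCard_M24, ← hsz] at hle
  have h2 : (orbM e.1).ncard * lenProd e.2.1.levels ≤ lenProd e.2.1.levels * e.2.2.2 :=
    (Nat.mul_le_mul_left _ hcard).trans hle
  have hpos : 0 < lenProd e.2.1.levels := by
    rcases Nat.eq_zero_or_pos (lenProd e.2.1.levels) with h0 | h0
    · rw [h0, zero_mul] at hsz; exact absurd hsz (by norm_num)
    · exact h0
  exact Nat.le_of_mul_le_mul_right (by rw [mul_comm _ e.2.2.2] at h2; exact h2) hpos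

/-- the sum of the sizes -/
noncomputable def sizeSum (es : List (ℕ × Chain × List ℕ × ℕ)) : ℕ := (es.map fun e => e.2.2.2).sum

/-- the union of the orbits -/
noncomputable def orbUnion : List (ℕ × Chain × List ℕ × ℕ) → Set Cosets
  | [] => ∅
  | e :: es => orbM e.1 ∪ orbUnion es

theorem mem_orbUnion {x : Cosets} : ∀ {es : List (ℕ × Chain × List ℕ × ℕ)},
    x ∈ orbUnion es ↔ ∃ e ∈ es, x ∈ orbM e.1
  | [] => by simp [orbUnion]
  | e :: es => by simp [orbUnion, mem_orbUnion]

theorem orbUnion_ncard_le : ∀ es : List (ℕ × Chain × List ℕ × ℕ), (∀ e ∈ es, e ∈ Top.chains) →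
    (orbUnion es).ncard ≤ sizeSum es
  | [], _ => by simp [orbUnion, sizeSum]
  | e :: es, h => by
    refine (Set.ncard_union_le _ _).trans ?_
    rw [sizeSum, List.map_cons, List.sum_cons]
    exact Nat.add_le_add (orbM_card_le (h e List.mem_cons_self))
      (orbUnion_ncard_le es fun e' he' => h e' (List.mem_cons_of_mem _ he'))

theorem orbUnion_all : orbUnion Top.chains = Set.univ := by
  refine Set.eq_univ_of_forall fun x => ?_
  obtain ⟨σ, l, hl, rfl⟩ := cover_all x
  have h : (Top.live.all fun l => Top.chains.any fun e => Nat.beq e.1 l) = true := by decide +kernel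
  obtain ⟨e, he, hel⟩ := List.any_eq_true.1 (List.all_eq_true.1 h l hl)
  exact mem_orbUnion.2 ⟨e, he, σ, by rw [Nat.eq_of_beq_eq_true hel]⟩

theorem sizeSum_all : sizeSum Top.chains = 173067389 := Nat.eq_of_beq_eq_true (by decide +kernel)

theorem cosets_card_le : Nat.card Cosets ≤ 173067389 := by
  rw [← Set.ncard_univ, ← orbUnion_all, ← sizeSum_all]
  exact orbUnion_ncard_le _ fun _ he => he

end CfsgLib.J4DCE.J
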