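import Cfsg.Agent.Lib.J4DCE.LowerPrimes
import Cfsg.Agent.Lib.J4DCE.Upper
import Cfsg.Agent.Lib.J4DCE.ElevenCheck
import Mathlib.GroupTheory.PGroup
import Mathlib.GroupTheory.SpecificGroups.Cyclic

/-!
The order of the presented fourth Janko group is exact: the conjugates of `w` generate a group of order
`2¹¹`, and there are elements of the large prime orders and a group of order `11³` in the representation.
-/
set_option autoImplicit false
set_option maxRecDepth 20000

namespace CfsgLib.J4DCE.J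

open Cfsg
open CfsgLib.Presented (evW evW_cons evW_append evW_nil)
open CfsgLib.J4Rep (rep fixesBasis ev4 permX permY permT runW apply_word Vec112)

attribute [local irreducible] enc pmask tImg

/-! ### The eleven-group -/

theorem pcube_dvd {G : Type*} [Group G] [Finite G] {p : ℕ} (hp : p.Prime) {a b c : G} (ha : a ^ p = 1)
    (hb : b ^ p = 1) (hc : c ^ p = 1) (hab : a * b = c * (b * a)) (hca : a * c = c * a) (hcb : b * c = c * b)
    (hne : c ≠ 1) : p ^ 3 ∣ Nat.card G := by
  have : _root_.Fact p.Prime := ⟨hp⟩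
  let P := Subgroup.closure ({a, b, c} : Set G)
  refine dvd_trans ?_ (Subgroup.card_subgroup_dvd_card P)
  have ma : a ∈ P := Subgroup.subset_closure (by simp)
  have mb : b ∈ P := Subgroup.subset_closure (by simp)
  have mc : c ∈ P := Subgroup.subset_closure (by simp)
  let Z : Subgroup G := Subgroup.zpowers c
  have hcent : ∀ x ∈ P, ∀ z ∈ Z, x * z = z * x := by
    intro x hx z hz
    obtain ⟨n, rfl⟩ := hz
    have hxc : Commute x c := by
      induction hx using Subgroup.closure_induction with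
      | mem y hy =>
        simp only [Set.mem_insert_iff, Set.mem_singleton_iff] at hy
        rcases hy with rfl | rfl | rfl
        · exact hca
        · exact hcb
        · exact Commute.refl _
      | one => exact Commute.one_left _
      | mul y y' _ _ h h' => exact h.mul_left h'
      | inv y _ h => exact h.inv_left
    exact (hxc.zpow_right n).eq
  have hZ : ∀ z ∈ Z, z ^ p = 1 := fun z hz => by
    obtain ⟨n, rfl⟩ := hz
    rw [← zpow_natCast, ← zpow_mul, mul_comm, zpow_mul, zpow_natCast, hc, one_zpow]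
  have hZP : Z ≤ P := Subgroup.zpowers_le.2 mc
  let ZP : Subgroup P := Z.subgroupOf P
  have : ZP.Normal := ⟨fun z hz x => by
    have hz' : z.1 ∈ Z := hz
    show (x.1 * z.1 * x.1⁻¹) ∈ Z
    rw [hcent _ x.2 _ hz', mul_assoc, mul_inv_cancel, mul_one]
    exact hz'⟩
  let π := QuotientGroup.mk' ZP
  have hgen : Subgroup.closure ({⟨a, ma⟩, ⟨b, mb⟩, ⟨c, mc⟩} : Set P) = ⊤ := by
    rw [eq_top_iff]
    intro x _
    have key : ∀ y, ∀ hy : y ∈ P, (⟨y, hy⟩ : P) ∈ Subgroup.closure ({⟨a, ma⟩, ⟨b, mb⟩, ⟨c, mc⟩} : Set P) := by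
      intro y hy
      induction hy using Subgroup.closure_induction with
      | mem y hy =>
        simp only [Set.mem_insert_iff, Set.mem_singleton_iff] at hy
        rcases hy with rfl | rfl | rfl <;> exact Subgroup.subset_closure (by simp)
      | one => exact Subgroup.one_mem _
      | mul y y' hy hy' h h' => exact Subgroup.mul_mem _ h h'
      | inv y hy h => exact Subgroup.inv_mem _ h
    exact key x.1 x.2
  have hcomm : ∀ u v : P ⧸ ZP, Commute u v := by
    have hg : ∀ u ∈ ({⟨a, ma⟩, ⟨b, mb⟩, ⟨c, mc⟩} : Set P), ∀ v ∈ ({⟨a, ma⟩, ⟨b, mb⟩, ⟨c, mc⟩} : Set P),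
        Commute (π u) (π v) := by
      have hπc : π ⟨c, mc⟩ = 1 := (QuotientGroup.eq_one_iff _).2 (Subgroup.mem_zpowers c)
      have hπ : Commute (π ⟨a, ma⟩) (π ⟨b, mb⟩) := by
        show _ * _ = _ * _
        rw [← map_mul, ← map_mul]
        have : (⟨a, ma⟩ * ⟨b, mb⟩ : P) = ⟨c, mc⟩ * (⟨b, mb⟩ * ⟨a, ma⟩) := Subtype.ext hab
        rw [this, map_mul, hπc, one_mul]
      intro u hu v hv
      simp only [Set.mem_insert_iff, Set.mem_singleton_iff] at hu hv
      rcases hu with rfl | rfl | rfl <;> rcases hv with rfl | rfl | rfl <;>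
        first
          | exact Commute.refl _
          | exact hπ
          | exact hπ.symm
          | (rw [hπc]; exact Commute.one_left _)
          | (rw [hπc]; exact Commute.one_right _)
    intro u v
    obtain ⟨x, rfl⟩ := QuotientGroup.mk'_surjective ZP u
    obtain ⟨y, rfl⟩ := QuotientGroup.mk'_surjective ZP v
    have hx : x ∈ Subgroup.closure ({⟨a, ma⟩, ⟨b, mb⟩, ⟨c, mc⟩} : Set P) := hgen ▸ Subgroup.mem_top x
    induction hx using Subgroup.closure_induction with
    | mem x hx =>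
      have hy : y ∈ Subgroup.closure ({⟨a, ma⟩, ⟨b, mb⟩, ⟨c, mc⟩} : Set P) := hgen ▸ Subgroup.mem_top y
      induction hy using Subgroup.closure_induction with
      | mem y hy => exact hg x hx y hy
      | one => simp
      | mul y y' _ _ h h' => rw [map_mul]; exact h.mul_right h'
      | inv y _ h => rw [map_inv]; exact h.inv_right
    | one => simp
    | mul x x' _ _ h h' => rw [map_mul]; exact h.mul_left h'
    | inv x _ h => rw [map_inv]; exact h.inv_left
  have hexp : ∀ x : P, (π x) ^ p = 1 := by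
    intro x
    have hx : x ∈ Subgroup.closure ({⟨a, ma⟩, ⟨b, mb⟩, ⟨c, mc⟩} : Set P) := hgen ▸ Subgroup.mem_top x
    induction hx using Subgroup.closure_induction with
    | mem x hx =>
      simp only [Set.mem_insert_iff, Set.mem_singleton_iff] at hx
      rw [← map_pow]
      rcases hx with rfl | rfl | rfl
      · rw [show (⟨a, ma⟩ : P) ^ p = 1 from Subtype.ext ha, map_one]
      · rw [show (⟨b, mb⟩ : P) ^ p = 1 from Subtype.ext hb, map_one]
      · rw [show (⟨c, mc⟩ : P) ^ p = 1 from Subtype.ext hc, map_one]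
    | one => simp
    | mul x x' _ _ h h' => rw [map_mul, (hcomm _ _).mul_pow, h, h', one_mul]
    | inv x _ h => rw [map_inv, inv_pow, h, inv_one]
  have hP : IsPGroup p P := fun x => ⟨2, Subtype.ext (by
    have h := hexp x
    rw [← map_pow] at h
    have hz1 : x ^ p ∈ ZP := (QuotientGroup.eq_one_iff _).1 h
    have hz : ((x ^ p : P) : G) ∈ Z := hz1
    rw [SubgroupClass.coe_pow, pow_two, pow_mul]
    exact hZ _ (by simpa using hz))⟩
  obtain ⟨n, hn⟩ := IsPGroup.iff_card.1 hP
  have hnc : ¬ ∀ u v : P, u * v = v * u := fun h => hne (by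
    have e : a * b = b * a := congrArg Subtype.val (h ⟨a, ma⟩ ⟨b, mb⟩)
    rw [hab] at e
    exact mul_eq_right.1 e)
  rw [hn]
  refine Nat.pow_dvd_pow p ?_
  by_contra hlt
  push Not at hlt
  refine hnc fun u v => ?_
  obtain rfl | rfl | rfl : n = 0 ∨ n = 1 ∨ n = 2 := by omega
  · have : Subsingleton P := (Nat.card_eq_one_iff_unique.1 (by rw [hn, pow_zero])).1
    exact Subsingleton.elim _ _
  · rw [pow_one] at hn
    have : IsCyclic P := isCyclic_of_prime_card hn
    exact IsMulCommutative.is_comm.comm u v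
  · have := IsPGroup.isMulCommutative_of_card_eq_prime_sq (G := P) hn
    exact IsMulCommutative.is_comm.comm u v

theorem dvd_1331 : 11 ^ 3 ∣ Nat.card Cfsg.Spor.J4 := by
  obtain ⟨acc, hgood, hf⟩ := Mat.runSLP_sound LowData.final_ok
  obtain ⟨gu, hu⟩ := Mat.good_getD hgood (LowData.size - 1 - LowData.iu)
  obtain ⟨gz, hz⟩ := Mat.good_getD hgood (LowData.size - 1 - LowData.iz)
  simp only [LowData.final, LowData.pairOK, LowData.el, Presented.Vec.force_eq, Bool.and_eq_true,
    List.any_eq_true, List.mem_range, Bool.not_eq_true'] at hf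
  generalize acc.getD (LowData.size - 1 - LowData.iu) Mat.idM = U at hf hu
  generalize acc.getD (LowData.size - 1 - LowData.iz) Mat.idM = V at hf hz
  obtain ⟨⟨hz11, hu11⟩, ⟨hzc, huc⟩, i, hi, hne⟩ := hf
  have one11 : ∀ {g M}, Mat.Val g M → Nat.beq (Mat.powM M 11) Mat.idM = true → rep g ^ 11 = 1 :=
    fun {g M} hg h => by
      rw [← map_pow, ← map_one rep]
      have hv := Mat.val_powM hg 11
      rw [Nat.eq_of_beq_eq_true h] at hv
      exact hv.rep_eq Mat.val_one
  have a11 := one11 hu hu11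
  have b11 := one11 hz hz11
  have hC : Mat.Val (gu * gz * gu ^ 10 * gz ^ 10) (LowData.comM U V) :=
    Mat.val_mulM (Mat.val_mulM (Mat.val_mulM hu hz) (Mat.val_powM hu 10)) (Mat.val_powM hz 10)
  set gc := gu * gz * gu ^ 10 * gz ^ 10 with hgc
  have hbc : rep gz * rep gc = rep gc * rep gz := by
    have h1 := Mat.val_mulM hz hC
    rw [Nat.eq_of_beq_eq_true hzc] at h1
    rw [← map_mul, ← map_mul]
    exact h1.rep_eq (Mat.val_mulM hC hz)
  have hac : rep gu * rep gc = rep gc * rep gu := by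
    have h1 := Mat.val_mulM hu hC
    rw [Nat.eq_of_beq_eq_true huc] at h1
    rw [← map_mul, ← map_mul]
    exact h1.rep_eq (Mat.val_mulM hC hu)
  have hab : rep gu * rep gz = rep gc * (rep gz * rep gu) := by
    rw [hgc]
    simp only [map_mul, map_pow]
    calc rep gu * rep gz = rep gu * rep gz * rep gu ^ 10 * (rep gz ^ 11) * rep gu := by
          rw [b11, mul_one, mul_assoc (rep gu * rep gz), ← pow_succ, a11, mul_one]
      _ = rep gu * rep gz * rep gu ^ 10 * rep gz ^ 10 * (rep gz * rep gu) := by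
          rw [pow_succ]; group
  have c11 : rep gc ^ 11 = 1 := by
    have comm : Commute (rep gc) (rep gz) := hbc.symm
    have e : rep gc * rep gz = rep gu * rep gz * (rep gu)⁻¹ := by
      rw [eq_mul_inv_iff_mul_eq, mul_assoc]
      exact hab.symm
    have e' : (rep gc * rep gz) ^ 11 = 1 := by
      rw [e, conj_pow, b11, mul_one, mul_inv_cancel]
    rwa [comm.mul_pow, b11, mul_one] at e'
  have hne' : rep gc ≠ 1 := hC.rep_ne_one hi hne
  let φ := rep.rangeRestrict
  have hd := pcube_dvd (G := rep.range) (by norm_num : Nat.Prime 11) (a := φ gu) (b := φ gz) (c := φ gc)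
    (Subtype.ext a11) (Subtype.ext b11) (Subtype.ext c11) (Subtype.ext hab) (Subtype.ext hac)
    (Subtype.ext hbc) (fun e => hne' (congrArg Subtype.val e))
  exact hd.trans (Subgroup.card_range_dvd rep)

/-! ### The element of order twenty-three -/

/-- an element of order 23 -/
noncomputable def s23 : M24 := mX * mY

theorem s23_pow : s23 ^ 23 = 1 :=
  Subtype.ext (pk_injective ((Nat.eq_of_beq_eq_true (show Nat.beq (pk (s23 ^ 23 : M24).1) pid = true by
    decide +kernel)).trans pid_coe))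

/-- the letters of `w` -/
noncomputable def wWord : List ℕ := ((Loc.pathSq.take 3).map pathW).flatten

theorem evW_wWord : evW jev wWord = jw := by
  rw [wWord, ← val_paths, ← val_wl]
  exact congrArg _ (Presented.listEq_eq (by decide +kernel))

theorem jw_inv : jw⁻¹ = jw := inv_eq_of_mul_eq_one_right jw_sq

theorem s23_moves : jemb s23 * jw * (jemb s23)⁻¹ ≠ jw := by
  intro h
  refine rep_evW_ne_one (w := [0, 1] ++ wWord ++ [2, 0] ++ wWord) (by decide +kernel) (by decide +kernel) ?_
  have e1 : evW jev [0, 1] = jemb s23 := by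
    rw [s23, map_mul, jemb_X, jemb_Y]; simp [jev, ev4]
  have e2 : evW jev [2, 0] = (jemb s23)⁻¹ := by
    have hx : jemb mX * jemb mX = 1 := by rw [← map_mul, mX_sq, map_one]
    rw [s23, map_mul, mul_inv_rev, inv_eq_of_mul_eq_one_right hx, jemb_X, jemb_Y]; simp [jev, ev4]
  rw [evW_append, evW_append, evW_append, evW_wWord, e1, e2, h, jw_sq, map_one]

theorem fixed_modEq {V : Subgroup Cfsg.Spor.J4}
    (hV : ∀ a ∈ V, jemb s23 * a * (jemb s23)⁻¹ ∈ V) :
    Nat.card V ≡ Nat.card ↥(V ⊓ Subgroup.centralizer {jemb s23}) [MOD 23] := by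
  have : _root_.Fact (Nat.Prime 23) := ⟨by norm_num⟩
  let f : V → V := fun a => ⟨jemb s23 * a.1 * (jemb s23)⁻¹, hV _ a.2⟩
  have hf : Function.Injective f := fun a b h => Subtype.ext (by
    have := congrArg Subtype.val h
    simpa [f] using this)
  let e : Equiv.Perm V := Equiv.ofBijective f (Finite.injective_iff_bijective.1 hf)
  have hpow : ∀ (n : ℕ) (a : V), ((e ^ n) a).1 = jemb (s23 ^ n) * a.1 * (jemb (s23 ^ n))⁻¹ := by
    intro n
    induction n with
    | zero => intro a; simp
    | succ n ih =>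
      intro a
      rw [pow_succ', Equiv.Perm.mul_apply, pow_succ', map_mul]
      show jemb s23 * ((e ^ n) a).1 * (jemb s23)⁻¹ = _
      rw [ih]; group
  have he : e ^ 23 = 1 := Equiv.ext fun a => Subtype.ext (by rw [hpow, s23_pow]; simp)
  have hP : IsPGroup 23 (Subgroup.zpowers e) := by
    rintro ⟨g, k, rfl⟩
    refine ⟨1, Subtype.ext ?_⟩
    show (e ^ k) ^ (23 ^ 1) = 1
    rw [pow_one, ← zpow_natCast, ← zpow_mul, mul_comm, zpow_mul, zpow_natCast, he, one_zpow]
  refine (hP.card_modEq_card_fixedPoints V).trans (congrArg (fun n => n % 23) ?_)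
  refine Nat.card_congr ⟨fun a => ⟨a.1.1, a.1.2, ?_⟩, fun a => ⟨⟨a.1, a.2.1⟩, ?_⟩, fun a => rfl, fun a => rfl⟩
  · refine Subgroup.mem_centralizer_singleton_iff.2 ?_
    have h : jemb s23 * a.1.1 * (jemb s23)⁻¹ = a.1.1 :=
      congrArg Subtype.val (a.2 ⟨e, Subgroup.mem_zpowers e⟩)
    exact (mul_inv_eq_iff_eq_mul.1 h).symm
  · rintro ⟨g, hg⟩
    have h1 : e ∈ MulAction.stabilizer (Equiv.Perm V) (⟨a.1, a.2.1⟩ : V) :=
      MulAction.mem_stabilizer_iff.2 (Subtype.ext (by
        show jemb s23 * a.1 * (jemb s23)⁻¹ = a.1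
        rw [mul_inv_eq_iff_eq_mul]
        exact (Subgroup.mem_centralizer_singleton_iff.1 a.2.2).symm))
    exact MulAction.mem_stabilizer_iff.1 (Subgroup.zpowers_le.2 h1 hg)

theorem subW_pgroup : IsPGroup 2 subW := fun a => ⟨1, Subtype.ext (by
  rw [pow_one, SubgroupClass.coe_pow, pow_two]
  exact subW_sq a.2)⟩

theorem two_pow_mod : ∀ k < 12, ∀ j < k + 1, 2 ^ k % 23 = 2 ^ j % 23 → j = k ∨ (j = 0 ∧ k = 11) := by decide

theorem exists_exp {V : Subgroup Cfsg.Spor.J4} (hV : V ≤ subW) : ∃ k < 12, Nat.card V = 2 ^ k := by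
  have : _root_.Fact (Nat.Prime 2) := ⟨Nat.prime_two⟩
  have : Finite V := Finite.of_injective _ (Subgroup.inclusion_injective hV)
  obtain ⟨k, hk⟩ := IsPGroup.iff_card.1 (subW_pgroup.to_le hV)
  refine ⟨k, ?_, hk⟩
  have h := (Nat.card_le_card_of_injective _ (Subgroup.inclusion_injective hV)).trans subW_card.2
  rw [hk] at h
  exact Nat.lt_succ_of_le ((Nat.pow_le_pow_iff_right (by norm_num)).1 h)

theorem subW_fix_bot : subW ⊓ Subgroup.centralizer {jemb s23} = ⊥ ∧ Nat.card subW = 2 ^ 11 := by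
  have hm := fixed_modEq (V := subW) fun a ha => subW_conj s23 ha
  obtain ⟨k, hk, ek⟩ := exists_exp (le_refl subW)
  obtain ⟨j, -, ej⟩ := exists_exp (V := subW ⊓ Subgroup.centralizer {jemb s23}) inf_le_left
  have hlt : Nat.card ↥(subW ⊓ Subgroup.centralizer {jemb s23}) < Nat.card subW := by
    by_contra h
    push Not at h
    have e := Subgroup.eq_of_le_of_card_ge inf_le_left h
    have hw : jw ∈ subW ⊓ Subgroup.centralizer {jemb s23} := e.symm ▸ jw_mem
    refine s23_moves ?_
    rw [mul_inv_eq_iff_eq_mul]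
    exact (Subgroup.mem_centralizer_singleton_iff.1 hw.2).symm
  rw [ek, ej] at hm hlt
  have hjk : j < k := (Nat.pow_lt_pow_iff_right (by norm_num)).1 hlt
  rcases two_pow_mod k hk j (by omega) hm.symm.symm.symm.symm with h | ⟨rfl, rfl⟩
  · omega
  · exact ⟨Subgroup.eq_bot_of_card_eq _ (by rw [ej]; rfl), ek⟩

/-- invariant subgroups of the conjugates of `w` -/
theorem subW_irred {V : Subgroup Cfsg.Spor.J4} (hV : V ≤ subW)
    (hinv : ∀ a ∈ V, jemb s23 * a * (jemb s23)⁻¹ ∈ V) : V = ⊥ ∨ V = subW := by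
  have : Finite V := Finite.of_injective _ (Subgroup.inclusion_injective hV)
  have hm := fixed_modEq hinv
  have hb : V ⊓ Subgroup.centralizer {jemb s23} = ⊥ :=
    le_bot_iff.1 ((inf_le_inf_right _ hV).trans subW_fix_bot.1.le)
  rw [hb, Subgroup.card_bot] at hm
  obtain ⟨k, hk, ek⟩ := exists_exp hV
  rw [ek] at hm
  rcases two_pow_mod k hk 0 (by omega) (hm.trans (by decide)) with h | ⟨-, h⟩
  · exact Or.inl (Subgroup.eq_bot_of_card_eq _ (by rw [ek, ← h]; rfl))
  · exact Or.inr (Subgroup.eq_of_le_of_card_ge hV (by rw [ek, h, subW_fix_bot.2]))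

theorem emb_mem_subW {σ : M24} (h : jemb σ ∈ subW) : σ = 1 := by
  have : IsSimpleGroup M24 := CfsgLib.Golay.isSimpleGroup_M24
  let V : Subgroup M24 := subW.comap jemb
  have : V.Normal := ⟨fun a ha τ => by
    show jemb (τ * a * τ⁻¹) ∈ subW
    rw [map_mul, map_mul, map_inv]
    exact subW_conj τ ha⟩
  rcases IsSimpleGroup.eq_bot_or_eq_top_of_normal V inferInstance with hV | hV
  · exact Subgroup.mem_bot.1 (hV ▸ (h : σ ∈ V))
  · have hinj : Function.Injective fun τ : M24 => (⟨jemb τ, (hV ▸ Subgroup.mem_top τ : τ ∈ V)⟩ : subW) :=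
      fun a b e => jemb_injective (congrArg Subtype.val e)
    have := Nat.card_le_card_of_injective _ hinj
    rw [CfsgLib.Golay.natCard_M24, subW_fix_bot.2] at this
    norm_num at this

theorem mapH_injective : Function.Injective mapH := by
  rintro ⟨a, σ⟩ ⟨b, τ⟩ h
  have h' : a.1 * jemb σ = b.1 * jemb τ := congrArg Subtype.val h
  have hm : jemb (τ * σ⁻¹) ∈ subW := by
    have : jemb (τ * σ⁻¹) = b.1⁻¹ * a.1 := by
      rw [map_mul, map_inv, eq_inv_mul_iff_mul_eq, ← mul_assoc, ← h']; group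
    rw [this]
    exact subW.mul_mem (subW.inv_mem b.2) a.2
  obtain rfl : σ = τ := (mul_inv_eq_one.1 (emb_mem_subW hm)).symm
  exact Prod.ext (Subtype.ext (mul_right_cancel h')) rfl

theorem subH_card : Nat.card subH = 2 ^ 11 * 244823040 := by
  rw [← Nat.card_eq_of_bijective mapH ⟨mapH_injective, mapH_surjective⟩, Nat.card_prod,
    CfsgLib.Golay.natCard_M24, subW_fix_bot.2]

theorem J4_card_eq : Nat.card Cfsg.Spor.J4 = 86775571046077562880 ∧ Nat.card Cosets = 173067389 := by
  have hH : 2 ^ 11 * 244823040 ∣ Nat.card Cfsg.Spor.J4 := subH_card ▸ Subgroup.card_subgroup_dvd_card subH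
  have h0 : (2 ^ 11 * 244823040 / 11) ∣ Nat.card Cfsg.Spor.J4 :=
    (Nat.div_dvd_of_dvd (by norm_num)).trans hH
  have h1 := Nat.Coprime.mul_dvd_of_dvd_of_dvd (by norm_num) h0 dvd_1331
  have h2 := Nat.Coprime.mul_dvd_of_dvd_of_dvd (by norm_num) h1 dvd_29
  have h3 := Nat.Coprime.mul_dvd_of_dvd_of_dvd (by norm_num) h2 dvd_31
  have h4 := Nat.Coprime.mul_dvd_of_dvd_of_dvd (by norm_num) h3 dvd_37
  have h5 := Nat.le_of_dvd Nat.card_pos (Nat.Coprime.mul_dvd_of_dvd_of_dvd (by norm_num) h4 dvd_43)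
  have hprod : Nat.card Cfsg.Spor.J4 = Nat.card Cosets * (2 ^ 11 * 244823040) := by
    rw [← subH_card]; exact Subgroup.card_eq_card_quotient_mul_card_subgroup subH
  have hle := cosets_card_le
  norm_num at h5 hprod ⊢
  omega

end CfsgLib.J4DCE.J
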