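import Cfsg.Agent.Lib.J4DCE.Loops
import Cfsg.Agent.Lib.J4DCE.LowData
import Mathlib.GroupTheory.PGroup
import Mathlib.GroupTheory.OrderOfElement

/-!
Elements of the presented fourth Janko group of the large prime orders.
-/
set_option autoImplicit false
set_option maxRecDepth 20000

namespace CfsgLib.J4DCE.J

open Cfsg
open CfsgLib.Presented (evW evW_cons evW_append evW_nil)
open CfsgLib.J4Rep (rep fixesBasis ev4 permX permY permT runW apply_word Vec112)

attribute [local irreducible] enc pmask tImg

/-! ### Words acting non-trivially -/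

theorem rep_evW_ne_one {w : List ℕ} (hw : (w.all fun x => Nat.blt x 4) = true)
    (h : fixesBasis w.reverse = false) : rep (evW jev w) ≠ 1 := by
  simp only [List.all_eq_true, Nat.blt_eq] at hw
  intro e
  have hfix : fixesBasis w.reverse = true := by
    simp only [fixesBasis, List.all_eq_true, List.mem_range]
    intro i hi
    have h1 := apply_word w hw ⟨2 ^ i, Nat.pow_lt_pow_right (by norm_num) hi⟩
    rw [← rep_evW, e, Equiv.Perm.one_apply] at h1
    rw [← h1]
    exact Nat.beq_refl _
  rw [hfix] at h
  exact Bool.noConfusion h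

theorem evW_replicate (w : List ℕ) : ∀ p, evW jev (List.replicate p w).flatten = evW jev w ^ p
  | 0 => by simp
  | p + 1 => by rw [List.replicate_succ, List.flatten_cons, evW_append, evW_replicate w p, pow_succ']

theorem prime_dvd_card {w : List ℕ} {p : ℕ} (hp : p.Prime)
    (hw : (w.all fun x => Nat.blt x 4) = true) (h1 : fixesBasis w.reverse = false)
    (hP : ((List.replicate p w).flatten.all fun x => Nat.blt x 4) = true)
    (h2 : fixesBasis (List.replicate p w).flatten.reverse = true) : p ∣ Nat.card Cfsg.Spor.J4 := by
  have : _root_.Fact p.Prime := ⟨hp⟩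
  have e1 : rep (evW jev w) ^ p = 1 := by
    rw [← map_pow, ← evW_replicate]
    exact rep_evW_eq_one hP h2
  have e2 := orderOf_eq_prime e1 (rep_evW_ne_one hw h1)
  exact e2 ▸ (orderOf_map_dvd rep _).trans (orderOf_dvd_natCard _)

theorem dvd_29 : 29 ∣ Nat.card Cfsg.Spor.J4 :=
  prime_dvd_card (w := LowData.word29) (by norm_num) (by decide +kernel) (by decide +kernel) (by decide +kernel)
    (by decide +kernel)

theorem dvd_31 : 31 ∣ Nat.card Cfsg.Spor.J4 :=
  prime_dvd_card (w := LowData.word31) (by norm_num) (by decide +kernel) (by decide +kernel) (by decide +kernel)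
    (by decide +kernel)

theorem dvd_37 : 37 ∣ Nat.card Cfsg.Spor.J4 :=
  prime_dvd_card (w := LowData.word37) (by norm_num) (by decide +kernel) (by decide +kernel) (by decide +kernel)
    (by decide +kernel)

theorem dvd_43 : 43 ∣ Nat.card Cfsg.Spor.J4 :=
  prime_dvd_card (w := LowData.word43) (by norm_num) (by decide +kernel) (by decide +kernel) (by decide +kernel)
    (by decide +kernel)

end CfsgLib.J4DCE.J
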