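import Cfsg.Agent.Lib.J4Rep.Rep

/-!
Straight line programs in the 112-dimensional binary representation: matrices are packed in one number,
and every matrix computed from those of the letters is the value of some element of the presented group.
-/
set_option autoImplicit false
set_option maxRecDepth 20000

namespace CfsgLib.J4DCE.Mat

open CfsgLib.Presented (Vec.force Vec.force_eq)
open CfsgLib.J4Rep (Vec112 rep ev4 permX permY permT act act_xor apply_letter)

/-- row `i` of a packed matrix -/
noncomputable def rowM (M i : ℕ) : ℕ :=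
  Nat.mod (Nat.shiftRight M (112 * i)) 5192296858534827628530496329220096

/-- the combination of the first `n` rows selected by the bits of `v` -/
noncomputable def applyM (M v : ℕ) : ℕ → ℕ :=
  Nat.rec (motive := fun _ => ℕ) 0 fun i ih =>
    Bool.rec (motive := fun _ => ℕ) ih (Nat.xor ih (rowM M i)) (Nat.beq (Nat.mod (Nat.shiftRight v i) 2) 1)

/-- pack the first `n` values of `f` -/
noncomputable def matOf (f : ℕ → ℕ) : ℕ → ℕ :=
  Nat.rec (motive := fun _ => ℕ) 0 fun i ih => Vec.force (f i) fun r => ih + Nat.shiftLeft r (112 * i)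

/-- the matrix of a letter -/
noncomputable def letterM (x : ℕ) : ℕ := matOf (fun i => act x (2 ^ i)) 112

/-- the product -/
noncomputable def mulM (A B : ℕ) : ℕ := matOf (fun i => applyM A (rowM B i) 112) 112

/-- the identity matrix -/
noncomputable def idM : ℕ := matOf (fun i => 2 ^ i) 112

/-- run a program, the newest matrix first, and test the result -/
noncomputable def run (f : List ℕ → Bool) : List (ℕ × ℕ) → ℕ → List ℕ → Bool
  | [], _, acc => f acc
  | o :: os, n, acc =>
    Vec.force (mulM (acc.getD (n - 1 - o.1) idM) (acc.getD (n - 1 - o.2) idM)) fun m =>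
      run f os (n + 1) (m :: acc)

/-- start with the four letters -/
noncomputable def runSLP (f : List ℕ → Bool) (ops : List (ℕ × ℕ)) : Bool :=
  Vec.force (letterM 0) fun a => Vec.force (letterM 1) fun b => Vec.force (letterM 2) fun c =>
    Vec.force (letterM 3) fun d => run f ops 4 [d, c, b, a]

theorem pow112 : (2 : ℕ) ^ 112 = 5192296858534827628530496329220096 := by norm_num

theorem rowM_eq (M i : ℕ) : rowM M i = M / 2 ^ (112 * i) % 2 ^ 112 := by
  rw [pow112, ← Nat.shiftRight_eq_div_pow]
  rfl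

theorem rowM_lt (M i : ℕ) : rowM M i < 2 ^ 112 := by
  rw [rowM_eq]
  exact Nat.mod_lt _ (Nat.two_pow_pos _)

theorem applyM_succ (M v n : ℕ) :
    applyM M v (n + 1) = if v.testBit n then applyM M v n ^^^ rowM M n else applyM M v n := by
  show Bool.rec (motive := fun _ => ℕ) (applyM M v n) (Nat.xor (applyM M v n) (rowM M n))
    (Nat.beq (Nat.mod (Nat.shiftRight v n) 2) 1) = _
  have h : Nat.beq (Nat.mod (Nat.shiftRight v n) 2) 1 = v.testBit n := by
    rw [Nat.testBit_eq_decide_div_mod_eq, ← Nat.shiftRight_eq_div_pow]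
    show Nat.beq ((v >>> n) % 2) 1 = _
    cases hb : Nat.beq ((v >>> n) % 2) 1
    · symm
      rw [decide_eq_false_iff_not]
      exact fun e => by rw [e] at hb; exact absurd hb (by decide)
    · rw [Nat.eq_of_beq_eq_true hb]; rfl
  rw [h]
  cases v.testBit n <;> rfl

theorem applyM_xor (M v w : ℕ) : ∀ n, applyM M (v ^^^ w) n = applyM M v n ^^^ applyM M w n
  | 0 => by simp [applyM]
  | n + 1 => by
    rw [applyM_succ, applyM_succ, applyM_succ, Nat.testBit_xor, applyM_xor M v w n]
    cases v.testBit n <;> cases w.testBit n <;>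
      simp [Nat.xor_assoc, Nat.xor_comm, Nat.xor_left_comm]

theorem applyM_two_pow (M i : ℕ) : ∀ n, applyM M (2 ^ i) n = if i < n then rowM M i else 0
  | 0 => rfl
  | n + 1 => by
    rw [applyM_succ, applyM_two_pow M i n, Nat.testBit_two_pow]
    rcases lt_trichotomy i n with h | rfl | h
    · simp [h, h.ne, Nat.lt_succ_of_lt h]
    · simp
    · simp [h.ne', Nat.not_lt.2 h.le, show ¬ i < n + 1 by omega]

/-- two additive maps agreeing on the basis agree -/
theorem lin_ext {f g : ℕ → ℕ} (hf : ∀ u v, f (u ^^^ v) = f u ^^^ f v) (hg : ∀ u v, g (u ^^^ v) = g u ^^^ g v)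
    (h : ∀ i < 112, f (2 ^ i) = g (2 ^ i)) : ∀ n ≤ 112, ∀ v < 2 ^ n, f v = g v
  | 0, _, v, hv => by
    rw [pow_zero, Nat.lt_one_iff] at hv
    subst hv
    have z : ∀ {k : ℕ → ℕ}, (∀ u v, k (u ^^^ v) = k u ^^^ k v) → k 0 = 0 := fun hk => by
      have := hk 0 0; simpa using this
    rw [z hf, z hg]
  | n + 1, hn, v, hv => by
    by_cases hb : v < 2 ^ n
    · exact lin_ext hf hg h n (by omega) v hb
    · have hlt : v - 2 ^ n < 2 ^ n := by rw [pow_succ] at hv; omega
      have e : v = 2 ^ n ^^^ (v - 2 ^ n) := by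
        apply Nat.eq_of_testBit_eq
        intro i
        have h1 : v = 2 ^ n + (v - 2 ^ n) := by omega
        conv_lhs => rw [h1]
        rw [Nat.testBit_xor, Nat.testBit_two_pow]
        by_cases hi : n = i
        · subst hi
          rw [Nat.testBit_two_pow_add_eq, Nat.testBit_lt_two_pow hlt]
          simp
        · have h2 : 2 ^ n + (v - 2 ^ n) = 2 ^ n ||| (v - 2 ^ n) := by
            simpa using Nat.two_pow_add_eq_or_of_lt hlt 1
          rw [h2, Nat.testBit_or, Nat.testBit_two_pow]
          simp [hi]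
      rw [e, hf, hg, h n (by omega), lin_ext hf hg h n (by omega) _ hlt]

theorem matOf_succ (f : ℕ → ℕ) (n : ℕ) : matOf f (n + 1) = matOf f n + f n * 2 ^ (112 * n) := by
  show Vec.force (f n) (fun r => matOf f n + Nat.shiftLeft r (112 * n)) = _
  rw [Vec.force_eq]
  exact congrArg (_ + ·) (Nat.shiftLeft_eq _ _)

theorem matOf_lt {f : ℕ → ℕ} (hf : ∀ i, f i < 2 ^ 112) : ∀ n, matOf f n < 2 ^ (112 * n)
  | 0 => by simp [matOf]
  | n + 1 => by
    have hs := matOf_succ f n
    have h1 := matOf_lt hf n
    have h2 : (f n + 1) * 2 ^ (112 * n) ≤ 2 ^ 112 * 2 ^ (112 * n) := Nat.mul_le_mul_right _ (hf n)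
    rw [hs, show 112 * (n + 1) = 112 + 112 * n by ring, pow_add]
    rw [add_mul, one_mul] at h2
    omega

theorem rowM_matOf {f : ℕ → ℕ} (hf : ∀ i, f i < 2 ^ 112) : ∀ n, ∀ i < n, rowM (matOf f n) i = f i
  | 0, i, hi => absurd hi (Nat.not_lt_zero i)
  | n + 1, i, hi => by
    have hs := matOf_succ f n
    rw [hs, rowM_eq]
    rcases Nat.lt_succ_iff_lt_or_eq.1 hi with h | rfl
    · have ih := rowM_matOf hf n i h
      rw [rowM_eq] at ih
      have e : f n * 2 ^ (112 * n) = f n * 2 ^ (112 * (n - i - 1)) * 2 ^ 112 * 2 ^ (112 * i) := by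
        rw [mul_assoc, mul_assoc, ← pow_add, ← pow_add]
        congr 2
        omega
      rw [e, Nat.add_mul_div_right _ _ (Nat.two_pow_pos _), Nat.add_mul_mod_self_right, ih]
    · rw [Nat.add_mul_div_right _ _ (Nat.two_pow_pos _), Nat.div_eq_of_lt (matOf_lt hf i), zero_add,
        Nat.mod_eq_of_lt (hf i)]

theorem applyM_lt (M v : ℕ) : ∀ n, applyM M v n < 2 ^ 112
  | 0 => Nat.two_pow_pos _
  | n + 1 => by
    rw [applyM_succ]
    split
    · exact Nat.xor_lt_two_pow (applyM_lt M v n) (rowM_lt M n)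
    · exact applyM_lt M v n

/-- a matrix is the value of the element `g` -/
def Val (g : Cfsg.Spor.J4) (M : ℕ) : Prop := ∀ v : Vec112, (rep g v).1 = applyM M v.1 112

/-- a matrix is the value of an element -/
def Good (M : ℕ) : Prop := ∃ g : Cfsg.Spor.J4, Val g M

theorem good_matOf {f : ℕ → ℕ} (hf : ∀ u v, f (u ^^^ v) = f u ^^^ f v) (hlt : ∀ v, f v < 2 ^ 112) {v : ℕ}
    (hv : v < 2 ^ 112) : applyM (matOf (fun i => f (2 ^ i)) 112) v 112 = f v :=
  lin_ext (f := fun v => applyM (matOf (fun i => f (2 ^ i)) 112) v 112) (g := f)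
    (fun u w => applyM_xor _ u w 112) hf (fun i hi => by
    simp only [applyM_two_pow, if_pos hi, rowM_matOf (fun _ => hlt _) 112 i hi]) 112 le_rfl v hv

theorem val_one : Val 1 idM := by
  intro v
  rw [map_one, Equiv.Perm.one_apply]
  symm
  refine lin_ext (f := fun u => applyM idM u 112) (g := fun u => u) (fun u w => applyM_xor _ u w 112)
    (fun u w => rfl) (fun i hi => ?_) 112 le_rfl v.1 v.2
  simp only [applyM_two_pow, if_pos hi, idM]
  have h : ∀ j < 112, rowM (matOf (fun i => 2 ^ i) 112) j = 2 ^ j := fun j hj => by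
    have hm : matOf (fun i => 2 ^ i) 112 = matOf (fun i => if i < 112 then 2 ^ i else 0) 112 := by
      suffices ∀ n ≤ 112, matOf (fun i => 2 ^ i) n = matOf (fun i => if i < 112 then 2 ^ i else 0) n from
        this 112 le_rfl
      intro n hn
      induction n with
      | zero => rfl
      | succ k ih =>
        rw [matOf_succ, matOf_succ, ih (by omega), if_pos (show k < 112 by omega)]
    rw [hm, rowM_matOf (fun i => ?_) 112 j hj, if_pos hj]
    split
    · next hi' => exact Nat.pow_lt_pow_right (by norm_num) hi'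
    · exact Nat.two_pow_pos _
  exact h i hi

theorem good_idM : Good idM := ⟨1, val_one⟩

theorem good_letter {x : ℕ} (hx : x < 4) : Good (letterM x) := by
  obtain ⟨g, hg⟩ : ∃ g, rep g = ev4 permX permY permT x := by
    refine ⟨ev4 (PresentedGroup.mk _ Cfsg.Spor.J4.x) (PresentedGroup.mk _ Cfsg.Spor.J4.y)
      (PresentedGroup.mk _ Cfsg.Spor.J4.t) x, ?_⟩
    unfold ev4
    split <;> first | exact PresentedGroup.toGroup.of _ |
      (rw [map_inv]; exact congrArg (·⁻¹) (PresentedGroup.toGroup.of _))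
  refine ⟨g, fun v => ?_⟩
  rw [hg, apply_letter hx, letterM]
  exact (good_matOf (f := act x) (act_xor x) (CfsgLib.J4Rep.act_lt hx) v.2).symm

theorem val_mulM {g h : Cfsg.Spor.J4} {A B : ℕ} (hg : Val g A) (hh : Val h B) :
    Val (g * h) (mulM A B) := by
  intro v
  rw [map_mul, Equiv.Perm.mul_apply, hg, hh, mulM]
  refine lin_ext (f := fun u => applyM A (applyM B u 112) 112)
    (g := fun u => applyM (matOf (fun i => applyM A (rowM B i) 112) 112) u 112)
    (fun u w => ?_) (fun u w => applyM_xor _ u w 112) (fun i hi => ?_) 112 le_rfl v.1 v.2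
  · simp only [applyM_xor B u w 112, applyM_xor A]
  · simp only [applyM_two_pow, if_pos hi, rowM_matOf (fun j => applyM_lt _ _ 112) 112 i hi]

theorem good_mulM {A B : ℕ} (ha : Good A) (hb : Good B) : Good (mulM A B) := by
  obtain ⟨g, hg⟩ := ha
  obtain ⟨h, hh⟩ := hb
  exact ⟨g * h, val_mulM hg hh⟩

/-- a power -/
noncomputable def powM (M : ℕ) : ℕ → ℕ :=
  Nat.rec (motive := fun _ => ℕ) idM fun _ ih => Vec.force ih fun r => mulM r M

theorem val_powM {g : Cfsg.Spor.J4} {M : ℕ} (h : Val g M) : ∀ n, Val (g ^ n) (powM M n)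
  | 0 => by rw [pow_zero]; exact val_one
  | n + 1 => by
    rw [pow_succ, show powM M (n + 1) = mulM (powM M n) M from
      (show Vec.force (powM M n) (fun r => mulM r M) = _ from Vec.force_eq _ _)]
    exact val_mulM (val_powM h n) h

theorem Val.rep_eq {g h : Cfsg.Spor.J4} {M : ℕ} (hg : Val g M) (hh : Val h M) : rep g = rep h :=
  Equiv.ext fun v => Subtype.ext ((hg v).trans (hh v).symm)

theorem Val.rep_ne_one {g : Cfsg.Spor.J4} {M : ℕ} (hg : Val g M) {i : ℕ} (hi : i < 112)
    (h : Nat.beq (rowM M i) (2 ^ i) = false) : rep g ≠ 1 := fun e => by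
  have h1 := hg ⟨2 ^ i, Nat.pow_lt_pow_right (by norm_num) hi⟩
  rw [e, Equiv.Perm.one_apply, applyM_two_pow, if_pos hi] at h1
  rw [← h1] at h
  simp at h

theorem good_getD {acc : List ℕ} (h : ∀ M ∈ acc, Good M) (i : ℕ) : Good (acc.getD i idM) := by
  rw [List.getD_eq_getElem?_getD]
  cases e : acc[i]? with
  | none => exact good_idM
  | some M => exact h M (List.mem_of_getElem? e)

theorem run_sound {f : List ℕ → Bool} : ∀ os n acc, (∀ M ∈ acc, Good M) → run f os n acc = true →
    ∃ acc', (∀ M ∈ acc', Good M) ∧ f acc' = true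
  | [], _, acc, hA, h => ⟨acc, hA, h⟩
  | o :: os, n, acc, hA, h => by
    rw [run, Vec.force_eq] at h
    refine run_sound os _ _ ?_ h
    intro M hM
    rcases List.mem_cons.1 hM with rfl | hM
    · exact good_mulM (good_getD hA _) (good_getD hA _)
    · exact hA M hM

/-- the result of a program consists of values of elements -/
theorem runSLP_sound {f : List ℕ → Bool} {ops : List (ℕ × ℕ)} (h : runSLP f ops = true) :
    ∃ acc, (∀ M ∈ acc, Good M) ∧ f acc = true := by
  simp only [runSLP, Vec.force_eq] at h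
  refine run_sound ops 4 _ ?_ h
  intro M hM
  simp only [List.mem_cons, List.not_mem_nil, or_false] at hM
  rcases hM with rfl | rfl | rfl | rfl <;> exact good_letter (by norm_num)

end CfsgLib.J4DCE.Mat
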