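import Cfsg.Agent.Lib.J4DCE.OrbData

/-! Generated: the orbit table. -/
set_option autoImplicit false
set_option maxRecDepth 20000

namespace CfsgLib.J4DCE.Orb

theorem reps_ok_0 : reps.okRange 0 384 = true := by decide +kernel

theorem reps_ok_384 : reps.okRange 384 384 = true := by decide +kernel

theorem reps_ok_768 : reps.okRange 768 384 = true := by decide +kernel

theorem reps_ok_1152 : reps.okRange 1152 384 = true := by decide +kernel

theorem reps_ok_1536 : reps.okRange 1536 384 = true := by decide +kernel

theorem reps_ok_1920 : reps.okRange 1920 384 = true := by decide +kernel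

theorem reps_ok_2304 : reps.okRange 2304 384 = true := by decide +kernel

theorem reps_ok_2688 : reps.okRange 2688 384 = true := by decide +kernel

theorem reps_ok_3072 : reps.okRange 3072 384 = true := by decide +kernel

theorem reps_ok_3456 : reps.okRange 3456 339 = true := by decide +kernel

theorem reps_ok : reps.ok = true := by
  refine Reps.ok_of_ranges (by decide +kernel) ?_
  intro k hk
  have hk : k < 3795 := hk
  rcases Nat.lt_or_ge k 384 with h0 | h0
  · exact ⟨0, 384, by omega, by omega, reps_ok_0⟩
  rcases Nat.lt_or_ge k 768 with h384 | h384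
  · exact ⟨384, 384, by omega, by omega, reps_ok_384⟩
  rcases Nat.lt_or_ge k 1152 with h768 | h768
  · exact ⟨768, 384, by omega, by omega, reps_ok_768⟩
  rcases Nat.lt_or_ge k 1536 with h1152 | h1152
  · exact ⟨1152, 384, by omega, by omega, reps_ok_1152⟩
  rcases Nat.lt_or_ge k 1920 with h1536 | h1536
  · exact ⟨1536, 384, by omega, by omega, reps_ok_1536⟩
  rcases Nat.lt_or_ge k 2304 with h1920 | h1920
  · exact ⟨1920, 384, by omega, by omega, reps_ok_1920⟩
  rcases Nat.lt_or_ge k 2688 with h2304 | h2304
  · exact ⟨2304, 384, by omega, by omega, reps_ok_2304⟩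
  rcases Nat.lt_or_ge k 3072 with h2688 | h2688
  · exact ⟨2688, 384, by omega, by omega, reps_ok_2688⟩
  rcases Nat.lt_or_ge k 3456 with h3072 | h3072
  · exact ⟨3072, 384, by omega, by omega, reps_ok_3072⟩
  exact ⟨3456, 339, by omega, by omega, reps_ok_3456⟩

theorem tab_chk : orb.chk 0 3795 = true := by decide +kernel

theorem chainC_valid : chainC.valid = true := by decide +kernel

theorem orb_ok : orb.OK :=
  OrbTab.ok_of_chk reps_ok fun _ hk => ⟨0, 3795, Nat.zero_le _, by simpa [orb, reps] using hk, tab_chk⟩

end CfsgLib.J4DCE.Orb
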