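import Cfsg.Agent.Lib.Golay.M24Group

/-!
Permutations of the 24 points packed into numbers (five bits per image), images of masks and of triples
of masks, for kernel computation.
-/
set_option autoImplicit false
set_option maxRecDepth 4000

namespace CfsgLib.J4DCE

open Cfsg
open CfsgLib.Golay (idx pt pt_idx idx_pt)

/-- the image of the position `i` -/
noncomputable def pget (p i : ℕ) : ℕ := Nat.mod (Nat.shiftRight p (Nat.mul 5 i)) 32

/-- pack the first `n` values -/
noncomputable def enc (f : ℕ → ℕ) : ℕ → ℕ :=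
  Nat.rec (motive := fun _ => ℕ) 0 fun i ih => Nat.add ih (Nat.shiftLeft (f i) (Nat.mul 5 i))

theorem enc_zero (f : ℕ → ℕ) : enc f 0 = 0 := rfl

theorem enc_succ (f : ℕ → ℕ) (n : ℕ) : enc f (n + 1) = enc f n + f n * 32 ^ n := by
  show enc f n + (f n <<< (5 * n)) = _
  rw [Nat.shiftLeft_eq, pow_mul]; rfl

theorem pget_eq (p i : ℕ) : pget p i = p / 32 ^ i % 32 := by
  show (p >>> (5 * i)) % 32 = _
  rw [Nat.shiftRight_eq_div_pow, pow_mul]; rfl

theorem enc_lt {f : ℕ → ℕ} : ∀ {n : ℕ}, (∀ i < n, f i < 32) → enc f n < 32 ^ n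
  | 0, _ => by rw [enc_zero]; exact Nat.one_pos
  | n + 1, h => by
    have h1 := enc_lt (f := f) (n := n) fun i hi => h i (Nat.lt_succ_of_lt hi)
    have h2 := h n (Nat.lt_succ_self n)
    have h3 : f n * 32 ^ n ≤ 31 * 32 ^ n := Nat.mul_le_mul_right _ (by omega)
    rw [enc_succ, pow_succ]
    omega

theorem pget_enc {f : ℕ → ℕ} : ∀ {n i : ℕ}, (∀ k < n, f k < 32) → i < n → pget (enc f n) i = f i
  | 0, _, _, hi => absurd hi (Nat.not_lt_zero _)
  | n + 1, i, h, hi => by
    have hlt := enc_lt (f := f) (n := n) fun k hk => h k (Nat.lt_succ_of_lt hk)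
    rw [pget_eq, enc_succ]
    rcases Nat.lt_succ_iff_lt_or_eq.1 hi with h1 | rfl
    · obtain ⟨d, rfl⟩ : ∃ d, n = i + 1 + d := ⟨n - (i + 1), by omega⟩
      have e : f (i + 1 + d) * 32 ^ (i + 1 + d) = 32 ^ i * (32 * (f (i + 1 + d) * 32 ^ d)) := by ring
      rw [e, Nat.add_mul_div_left _ _ (by positivity), Nat.add_mul_mod_self_left, ← pget_eq]
      exact pget_enc (fun k hk => h k (Nat.lt_succ_of_lt hk)) h1
    · rw [Nat.add_mul_div_right _ _ (by positivity), Nat.div_eq_of_lt hlt, zero_add,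
        Nat.mod_eq_of_lt (h i (Nat.lt_succ_self i))]

theorem enc_congr {f g : ℕ → ℕ} : ∀ {n : ℕ}, (∀ i < n, f i = g i) → enc f n = enc g n
  | 0, _ => rfl
  | n + 1, h => by
    rw [enc_succ, enc_succ, h n (Nat.lt_succ_self n),
      enc_congr fun i hi => h i (Nat.lt_succ_of_lt hi)]

/-- the images of a permutation -/
def imgF (σ : Equiv.Perm GolayPt) (i : ℕ) : ℕ := if h : i < 24 then (idx (σ (pt ⟨i, h⟩))).val else 0

theorem imgF_lt (σ : Equiv.Perm GolayPt) (i : ℕ) : imgF σ i < 24 := by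
  unfold imgF; split
  · exact Fin.isLt _
  · norm_num

theorem imgF_lt32 (σ : Equiv.Perm GolayPt) (i : ℕ) : imgF σ i < 32 :=
  (imgF_lt σ i).trans (by norm_num)

theorem imgF_mul (a b : Equiv.Perm GolayPt) {i : ℕ} (hi : i < 24) : imgF a (imgF b i) = imgF (a * b) i := by
  have hb := imgF_lt b i
  rw [imgF, dif_pos hb]
  simp only [imgF, dif_pos hi, Fin.eta, pt_idx, Equiv.Perm.mul_apply]

theorem imgF_one {i : ℕ} (hi : i < 24) : imgF 1 i = i := by
  simp only [imgF, dif_pos hi, Equiv.Perm.one_apply, idx_pt]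

/-- the packed permutation -/
noncomputable def pk (σ : Equiv.Perm GolayPt) : ℕ := enc (imgF σ) 24

/-- the identity -/
noncomputable def pid : ℕ := enc (fun i => i) 24

/-- the product of packed permutations -/
noncomputable def pmul (a b : ℕ) : ℕ := enc (fun i => pget a (pget b i)) 24

theorem pget_pk (σ : Equiv.Perm GolayPt) {i : ℕ} (hi : i < 24) : pget (pk σ) i = imgF σ i :=
  pget_enc (fun k _ => imgF_lt32 σ k) hi

theorem pk_one : pk 1 = pid := enc_congr fun _ hi => imgF_one hi

theorem pmul_pk (a b : Equiv.Perm GolayPt) : pmul (pk a) (pk b) = pk (a * b) :=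
  enc_congr fun i hi => by rw [pget_pk b hi, pget_pk a (imgF_lt b i), imgF_mul a b hi]

theorem pk_injective : Function.Injective pk := by
  intro a b h
  ext1 p
  apply CfsgLib.Golay.idx_injective
  apply Fin.ext
  have h1 := pget_pk a (idx p).isLt
  rw [h, pget_pk b (idx p).isLt] at h1
  simp only [imgF, dif_pos (idx p).isLt, Fin.eta, pt_idx] at h1
  exact h1.symm

attribute [local irreducible] enc

/-- validity of a packed permutation in the group of the code, with its inverse -/
noncomputable def okPerm (p q : ℕ) : Bool :=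
  Nat.beq (enc (pget p) 24) p && Nat.beq (enc (pget q) 24) q && Nat.beq (pmul p q) pid && Nat.beq (pmul q p) pid &&
    ((List.range 24).all fun i => Nat.blt (pget p i) 24 && Nat.blt (pget q i) 24) &&
    CfsgLib.Golay.isPres ((List.range 24).map (pget p))

theorem exists_of_okPerm {p q : ℕ} (h : okPerm p q = true) :
    ∃ σ : M24, pk σ.1 = p ∧ pk (σ⁻¹ : M24).1 = q := by
  simp only [okPerm, Bool.and_eq_true, List.all_eq_true, List.mem_range, Nat.blt_eq] at h
  obtain ⟨⟨⟨⟨⟨hp, hq⟩, hpq⟩, hqp⟩, hlt⟩, hpres⟩ := h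
  have hp := Nat.eq_of_beq_eq_true hp
  have hq := Nat.eq_of_beq_eq_true hq
  have hpq := Nat.eq_of_beq_eq_true hpq
  have hqp := Nat.eq_of_beq_eq_true hqp
  have key : ∀ {a b : ℕ}, (∀ i < 24, pget b i < 24) → (∀ i < 24, pget a i < 24) → pmul a b = pid →
      ∀ i < 24, pget a (pget b i) = i := fun {a b} hb ha e i hi => by
    have h1 := congrArg (fun m => pget m i) e
    simp only [pmul, pid] at h1
    rwa [pget_enc (fun k hk => (ha _ (hb k hk)).trans (by norm_num)) hi,
      pget_enc (fun k hk => hk.trans (by norm_num)) hi] at h1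
  let π : Equiv.Perm (Fin 24) :=
    ⟨fun i => ⟨pget p i, (hlt i i.2).1⟩, fun i => ⟨pget q i, (hlt i i.2).2⟩,
      fun i => Fin.ext (key (fun i hi => (hlt i hi).1) (fun i hi => (hlt i hi).2) hqp i i.2),
      fun i => Fin.ext (key (fun i hi => (hlt i hi).2) (fun i hi => (hlt i hi).1) hpq i i.2)⟩
  let σ : Equiv.Perm GolayPt := CfsgLib.Golay.ptEquiv.permCongr π
  have himg : ∀ i (hi : i < 24), imgF σ i = pget p i := fun i hi => by
    simp [σ, π, imgF, hi, Equiv.permCongr_apply, CfsgLib.Golay.ptEquiv, pt_idx, idx_pt]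
  have himg' : ∀ i (hi : i < 24), imgF σ⁻¹ i = pget q i := fun i hi => by
    have e1 : imgF σ (imgF σ⁻¹ i) = i := by rw [imgF_mul _ _ hi, mul_inv_cancel, imgF_one hi]
    have h1 := congrArg (pget q) e1
    rw [himg _ (imgF_lt _ _), key (fun i hi => (hlt i hi).1) (fun i hi => (hlt i hi).2) hqp _ (imgF_lt _ _)] at h1
    exact h1
  have hmem : σ ∈ M24 := by
    rw [CfsgLib.Golay.mem_M24_iff_isPres]
    have e : CfsgLib.Golay.toList σ = (List.range 24).map (pget p) := by
      apply List.ext_getElem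
      · simp [CfsgLib.Golay.toList_length]
      · intro i h1 h2
        have hi : i < 24 := CfsgLib.Golay.toList_length σ ▸ h1
        rw [CfsgLib.Golay.toList_getElem, List.getElem_map, List.getElem_range, ← himg i hi, imgF, dif_pos hi]
    rwa [e]
  refine ⟨⟨σ, hmem⟩, ?_, ?_⟩
  · exact (enc_congr himg).trans hp
  · exact (enc_congr himg').trans hq

/-- the image of a mask -/
noncomputable def pmask (g m : ℕ) : ℕ :=
  Nat.rec (motive := fun _ => ℕ) 0 (fun i ih =>
    Bool.rec (motive := fun _ => ℕ) ih (Nat.lor ih (Nat.shiftLeft 1 (pget g i)))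
      (Nat.beq (Nat.mod (Nat.shiftRight m i) 2) 1)) 24

/-- the image of a mask, up to the bit `n` -/
noncomputable def pmaskN (g m : ℕ) : ℕ → ℕ :=
  Nat.rec (motive := fun _ => ℕ) 0 fun i ih =>
    Bool.rec (motive := fun _ => ℕ) ih (Nat.lor ih (Nat.shiftLeft 1 (pget g i)))
      (Nat.beq (Nat.mod (Nat.shiftRight m i) 2) 1)

theorem testBit_pmaskN (g m k : ℕ) : ∀ n,
    (pmaskN g m n).testBit k = true ↔ ∃ i < n, m.testBit i = true ∧ pget g i = k
  | 0 => by simp [pmaskN]
  | n + 1 => by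
    have hb : Nat.beq (Nat.mod (Nat.shiftRight m n) 2) 1 = m.testBit n := by
      rw [Nat.testBit_eq_decide_div_mod_eq, ← Nat.shiftRight_eq_div_pow]
      show Nat.beq ((m >>> n) % 2) 1 = _
      cases hc : Nat.beq ((m >>> n) % 2) 1
      · symm
        rw [decide_eq_false_iff_not]
        exact fun e => by rw [e] at hc; exact absurd hc (by decide)
      · rw [Nat.eq_of_beq_eq_true hc]; rfl
    have ih := testBit_pmaskN g m k n
    show (Bool.rec (motive := fun _ => ℕ) (pmaskN g m n) (Nat.lor (pmaskN g m n) (1 <<< pget g n))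
      (Nat.beq (Nat.mod (Nat.shiftRight m n) 2) 1)).testBit k = true ↔ _
    rw [hb]
    cases hm : m.testBit n
    · show (pmaskN g m n).testBit k = true ↔ _
      rw [ih]
      refine ⟨fun ⟨i, hi, h⟩ => ⟨i, hi.trans (Nat.lt_succ_self n), h⟩, fun ⟨i, hi, h1, h2⟩ => ?_⟩
      rcases Nat.lt_succ_iff_lt_or_eq.1 hi with h' | rfl
      · exact ⟨i, h', h1, h2⟩
      · rw [hm] at h1; exact absurd h1 (by simp)
    · show (pmaskN g m n ||| 1 <<< pget g n).testBit k = true ↔ _
      rw [Nat.testBit_or, Bool.or_eq_true, ih, Nat.one_shiftLeft, Nat.testBit_two_pow, decide_eq_true_eq]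
      constructor
      · rintro (⟨i, hi, h⟩ | h)
        · exact ⟨i, hi.trans (Nat.lt_succ_self n), h⟩
        · exact ⟨n, Nat.lt_succ_self n, hm, h⟩
      · rintro ⟨i, hi, h1, h2⟩
        rcases Nat.lt_succ_iff_lt_or_eq.1 hi with h' | rfl
        · exact Or.inl ⟨i, h', h1, h2⟩
        · exact Or.inr h2

theorem testBit_pmask (σ : Equiv.Perm GolayPt) (m k : ℕ) :
    (pmask (pk σ) m).testBit k = true ↔ ∃ i < 24, m.testBit i = true ∧ imgF σ i = k := by
  rw [show pmask (pk σ) m = pmaskN (pk σ) m 24 from rfl, testBit_pmaskN]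
  constructor <;> rintro ⟨i, hi, h1, h2⟩ <;> exact ⟨i, hi, h1, by simpa [pget_pk σ hi] using h2⟩

theorem pmask_lt (σ : Equiv.Perm GolayPt) (m : ℕ) : pmask (pk σ) m < 2 ^ 24 := by
  refine Nat.lt_pow_two_of_testBit _ fun i hi => ?_
  by_contra hb
  obtain ⟨j, -, -, hj⟩ := (testBit_pmask σ m i).1 (by simpa using hb)
  have := imgF_lt σ j
  omega

theorem pmask_mul (a b : Equiv.Perm GolayPt) (m : ℕ) :
    pmask (pk a) (pmask (pk b) m) = pmask (pk (a * b)) m := by
  apply Nat.eq_of_testBit_eq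
  intro k
  rw [Bool.eq_iff_iff, testBit_pmask, testBit_pmask]
  constructor
  · rintro ⟨j, -, hb, rfl⟩
    obtain ⟨i, hi, hm, rfl⟩ := (testBit_pmask b m j).1 hb
    exact ⟨i, hi, hm, (imgF_mul a b hi).symm⟩
  · rintro ⟨i, hi, hm, rfl⟩
    exact ⟨imgF b i, imgF_lt b i, (testBit_pmask b m _).2 ⟨i, hi, hm, rfl⟩, imgF_mul a b hi⟩

theorem pmask_one {m : ℕ} (hm : m < 2 ^ 24) : pmask (pk 1) m = m := by
  apply Nat.eq_of_testBit_eq
  intro k
  rw [Bool.eq_iff_iff, testBit_pmask]
  constructor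
  · rintro ⟨i, hi, h, rfl⟩; rwa [imgF_one hi]
  · intro h
    have hk : k < 24 := by
      by_contra hk
      rw [Nat.testBit_lt_two_pow (hm.trans_le (Nat.pow_le_pow_right (by norm_num) (not_lt.1 hk)))] at h
      exact absurd h (by simp)
    exact ⟨k, hk, h, imgF_one hk⟩

/-- the smaller number -/
noncomputable def bmin (a b : ℕ) : ℕ := cond (Nat.ble a b) a b
/-- the larger number -/
noncomputable def bmax (a b : ℕ) : ℕ := cond (Nat.ble a b) b a

theorem bmin_eq (a b : ℕ) : bmin a b = min a b := by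
  cases h : Nat.ble a b
  · have : ¬ a ≤ b := fun e => by rw [Nat.ble_eq_true_of_le e] at h; exact absurd h (by decide)
    rw [bmin, h, min_eq_right (by omega)]; rfl
  · rw [bmin, h, min_eq_left (Nat.le_of_ble_eq_true h)]; rfl

theorem bmax_eq (a b : ℕ) : bmax a b = max a b := by
  cases h : Nat.ble a b
  · have : ¬ a ≤ b := fun e => by rw [Nat.ble_eq_true_of_le e] at h; exact absurd h (by decide)
    rw [bmax, h, max_eq_left (by omega)]; rfl
  · rw [bmax, h, max_eq_right (Nat.le_of_ble_eq_true h)]; rfl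

/-- three masks as a number, sorted -/
noncomputable def sort3 (x y z : ℕ) : ℕ :=
  bmin (bmin x y) z + 16777216 * (x + y + z - bmin (bmin x y) z - bmax (bmax x y) z) +
    281474976710656 * bmax (bmax x y) z

theorem sort3_eq (x y z : ℕ) : sort3 x y z =
    min (min x y) z + 16777216 * (x + y + z - min (min x y) z - max (max x y) z) +
      281474976710656 * max (max x y) z := by
  simp only [sort3, bmin_eq, bmax_eq]

/-- the image of a triple of masks -/
noncomputable def tImg (g T : ℕ) : ℕ :=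
  sort3 (pmask g (T % 16777216)) (pmask g (T / 16777216 % 16777216)) (pmask g (T / 281474976710656))

theorem sort3_swap12 (x y z : ℕ) : sort3 y x z = sort3 x y z := by simp only [sort3_eq]; omega
theorem sort3_swap23 (x y z : ℕ) : sort3 x z y = sort3 x y z := by simp only [sort3_eq]; omega

theorem tImg_sort3 (g : ℕ) {x y z : ℕ} (hx : x < 16777216) (hy : y < 16777216) (hz : z < 16777216) :
    tImg g (sort3 x y z) = sort3 (pmask g x) (pmask g y) (pmask g z) := by
  have key : ∀ {a b c : ℕ}, a ≤ b → b ≤ c → a < 16777216 → b < 16777216 → c < 16777216 →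
      tImg g (sort3 a b c) = sort3 (pmask g a) (pmask g b) (pmask g c) := by
    intro a b c h1 h2 ha hb hc
    have e : sort3 a b c = a + 16777216 * b + 281474976710656 * c := by rw [sort3_eq]; omega
    rw [tImg, e]
    congr 2 <;> omega
  have s13 : ∀ a b c, sort3 c b a = sort3 a b c := fun a b c => by simp only [sort3_eq]; omega
  have r1 : ∀ a b c, sort3 b c a = sort3 a b c := fun a b c => by simp only [sort3_eq]; omega
  have r2 : ∀ a b c, sort3 c a b = sort3 a b c := fun a b c => by simp only [sort3_eq]; omega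
  rcases Nat.le_total x y with h1 | h1 <;> rcases Nat.le_total y z with h2 | h2 <;>
    rcases Nat.le_total x z with h3 | h3
  all_goals first
    | exact key h1 h2 hx hy hz
    | (rw [← sort3_swap23 x y z, key h3 h2 hx hz hy, sort3_swap23])
    | (rw [← sort3_swap12 x y z, key h1 h3 hy hx hz, sort3_swap12])
    | (rw [← r1 x y z, key h2 h3 hy hz hx, r1])
    | (rw [← r2 x y z, key h3 h1 hz hx hy, r2])
    | (rw [← s13 x y z, key h2 h1 hz hy hx, s13])

theorem tImg_mul (a b : Equiv.Perm GolayPt) (T : ℕ) : tImg (pk a) (tImg (pk b) T) = tImg (pk (a * b)) T := by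
  conv_lhs => arg 2; rw [tImg]
  rw [tImg_sort3 _ (pmask_lt b _) (pmask_lt b _) (pmask_lt b _), pmask_mul, pmask_mul, pmask_mul]
  rfl

theorem tImg_one {x y z : ℕ} (hx : x < 16777216) (hy : y < 16777216) (hz : z < 16777216) :
    tImg (pk 1) (sort3 x y z) = sort3 x y z := by
  rw [tImg_sort3 _ hx hy hz, pmask_one hx, pmask_one hy, pmask_one hz]

end CfsgLib.J4DCE
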