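import Cfsg.Agent.Lib.J4DCE.Lower

/-!
The subgroup generated by the copy of the group of the code and the element `w` is maximal and contains
no normal subgroup: the presented fourth Janko group is simple and the representation is faithful.
-/
set_option autoImplicit false
set_option maxRecDepth 20000

namespace CfsgLib.J4DCE.J

open Cfsg
open CfsgLib.Presented (evW evW_cons evW_append evW_nil)
open CfsgLib.J4Rep (rep fixesBasis ev4)

attribute [local irreducible] enc pmask tImg

/-- the twenty-four transporting products (0 and 1 stand for the two generators of the stabiliser) -/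
def transWords : List (List ℕ) :=
  [[], [1, 0, 1, 0], [0, 1, 1, 0, 1, 0, 1], [1, 1, 0], [0, 1], [1, 1, 0, 1, 0, 1], [1], [1, 0, 1, 0, 1], [0],
    [0, 1, 0, 1, 0], [1, 0, 1], [0, 1, 1], [1, 0, 1, 0, 1, 0], [0, 1, 0], [0, 1, 1, 1], [0, 1, 0, 1],
    [0, 1, 0, 1, 1, 1, 0], [0, 1, 1, 0], [1, 0, 1, 1, 1, 0], [1, 1, 1, 0], [1, 0], [1, 1], [1, 1, 1],
    [0, 1, 1, 1, 0]]

/-- their values -/
noncomputable def transEv (l : List ℕ) : M24 := (l.map fun k => cond (Nat.beq k 0) mX pc).prod

theorem trans_ok : ((List.range 24).all fun i =>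
    Nat.beq (pget (pk (transEv (transWords.getD i [])).1) 0) i) = true := by decide +kernel

/-- an element of the stabiliser fixing one position only -/
noncomputable def hFix : M24 := pc * mX * pc * mX * pc * pc * mX

theorem hFix_ok : ((List.range 24).all fun i =>
    !Nat.beq (pget (pk hFix.1) i) i || Nat.beq i 0) = true := by decide +kernel

/-- only the identity commutes with the two generators -/
theorem eq_one_of_commute {τ : M24} (hx : Commute τ mX) (hc : Commute τ pc) : τ = 1 := by
  have ha : ∀ l : List ℕ, Commute τ (transEv l) := by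
    intro l
    induction l with
    | nil => exact Commute.one_right _
    | cons k l ih =>
      rw [transEv, List.map_cons, List.prod_cons]
      refine Commute.mul_right ?_ ih
      cases Nat.beq k 0
      · exact hc
      · exact hx
  have hh : Commute τ hFix :=
    (((((hc.mul_right hx).mul_right hc).mul_right hx).mul_right hc).mul_right hc).mul_right hx
  have h0 : imgF τ.1 0 = 0 := by
    have e : imgF hFix.1 (imgF τ.1 0) = imgF τ.1 0 := by
      have h1 : imgF hFix.1 0 = 0 := by
        have h := List.all_eq_true.1 trans_ok 0 (by simp)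
        have h2 : (Nat.beq (pget (pk hFix.1) 0) 0) = true := by decide +kernel
        rw [← pget_pk _ (by norm_num)]
        exact Nat.eq_of_beq_eq_true h2
      rw [imgF_mul _ _ (by norm_num)]
      show imgF (hFix * τ : M24).1 0 = _
      rw [← hh.eq]
      show imgF (τ.1 * hFix.1) 0 = _
      rw [← imgF_mul _ _ (by norm_num), h1]
    have h := List.all_eq_true.1 hFix_ok (imgF τ.1 0) (List.mem_range.2 (imgF_lt _ _))
    rw [pget_pk _ (imgF_lt _ _), e, Bool.or_eq_true] at h
    rcases h with h | h
    · simp at h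
    · exact Nat.eq_of_beq_eq_true h
  refine Subtype.ext (pk_injective ?_)
  rw [show pk (1 : M24).1 = pid from pk_one]
  refine enc_congr fun i hi => ?_
  have h := Nat.eq_of_beq_eq_true (List.all_eq_true.1 trans_ok i (List.mem_range.2 hi))
  rw [pget_pk _ (by norm_num)] at h
  conv_lhs => rw [← h]
  rw [imgF_mul _ _ (by norm_num)]
  show imgF (τ * transEv (transWords.getD i []) : M24).1 0 = _
  rw [(ha _).eq]
  show imgF ((transEv (transWords.getD i [])).1 * τ.1) 0 = _
  rw [← imgF_mul _ _ (by norm_num), h0, h]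

theorem commute_jt_mX : jemb mX * jt = jt * jemb mX := by
  rw [jemb_X]; exact commute_of_comm extra_eq.2.2.1

theorem commute_jt_pc : jemb pc * jt = jt * jemb pc := commute_of_comm extra_eq.2.1

theorem jt_not_normalizes : ¬ jt * jw * jt ∈ subW := by
  intro h
  have hc := (subW_comm h jw_mem).eq
  refine rep_evW_ne_one (w := [3] ++ wWord ++ [3] ++ wWord ++ [3] ++ wWord ++ [3] ++ wWord)
    (by decide +kernel) (by decide +kernel) ?_
  have e : evW jev [3] = jt := by simp [jev, ev4]
  simp only [evW_append, evW_wWord, e]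
  have h1 : jt * jw * jt * jw * jt * jw * jt * jw = 1 := by
    calc jt * jw * jt * jw * jt * jw * jt * jw = (jt * jw * jt * jw) * (jt * jw * jt * jw) := by group
      _ = (jw * (jt * jw * jt)) * (jt * jw * jt * jw) := by rw [hc]
      _ = jw * jt * jw * (jt * jt) * jw * jt * jw := by group
      _ = jw * jt * (jw * jw) * jt * jw := by rw [jt_sq]; group
      _ = jw * (jt * jt) * jw := by rw [jw_sq]; group
      _ = jw * jw := by rw [jt_sq]; group
      _ = 1 := jw_sq
  rw [h1, map_one]

theorem pa_sq_ne : pa * pa ≠ 1 := fun h => by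
  have h1 : Nat.beq (pk (pa * pa : M24).1) pid = false := by decide +kernel
  rw [h, show pk (1 : M24).1 = pid from pk_one] at h1
  simp at h1

theorem subH_conj {h a : Cfsg.Spor.J4} (hh : h ∈ subH) (ha : a ∈ subW) : h * a * h⁻¹ ∈ subW := by
  obtain ⟨b, hb, σ, rfl⟩ := mem_subH.1 hh
  have h1 := subW_conj σ ha
  have e : b * jemb σ * a * (b * jemb σ)⁻¹ = b * (jemb σ * a * (jemb σ)⁻¹) * b⁻¹ := by group
  rw [e]
  exact subW.mul_mem (subW.mul_mem hb h1) (subW.inv_mem hb)

/-- the test on unions of orbits -/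
noncomputable def unionOK (n : ℕ) : List ℕ → ℕ → Bool
  | [], acc => !Nat.beq (Nat.mod n acc) 0 || Nat.beq acc 1 || Nat.beq acc n
  | s :: l, acc => unionOK n l acc && Presented.Vec.force (acc + s) fun a => unionOK n l a

theorem unionOK_sound {n : ℕ} {α : Type*} (f : α → ℕ) (p : α → Bool) : ∀ (es : List α) (acc : ℕ),
    unionOK n (es.map f) acc = true → (acc + ((es.filter p).map f).sum) ∣ n →
    acc + ((es.filter p).map f).sum = 1 ∨ acc + ((es.filter p).map f).sum = n
  | [], acc, h, hd => by
    simp only [List.map_nil, List.filter_nil, List.sum_nil, add_zero] at *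
    simp only [unionOK, Bool.or_eq_true, Bool.not_eq_true'] at h
    rcases h with (h | h) | h
    · have : Nat.mod n acc = 0 := Nat.mod_eq_zero_of_dvd hd
      rw [this] at h; simp at h
    · exact Or.inl (Nat.eq_of_beq_eq_true h)
    · exact Or.inr (Nat.eq_of_beq_eq_true h)
  | e :: es, acc, h, hd => by
    simp only [List.map_cons, unionOK, Presented.Vec.force_eq, Bool.and_eq_true] at h
    cases hp : p e
    · simp only [List.filter_cons, hp, Bool.false_eq_true, if_false] at *
      exact unionOK_sound f p es acc h.1 hd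
    · simp only [List.filter_cons, hp, if_true, List.map_cons, List.sum_cons, ← add_assoc] at *
      exact unionOK_sound f p es _ h.2 hd

theorem union_ok : unionOK 173067389 (Top.chains.tail.map fun e => e.2.2.2) 1 = true := by decide +kernel

theorem jemb_smul_iff {L : Subgroup Cfsg.Spor.J4} (hL : subH ≤ L) (σ : M24) (x : Cosets) :
    jemb σ • x ∈ MulAction.orbit L cbase ↔ x ∈ MulAction.orbit L cbase := by
  constructor
  · rintro ⟨g, hg⟩
    refine ⟨⟨(jemb σ)⁻¹, L.inv_mem (hL (jemb_mem σ))⟩ * g, ?_⟩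
    show ((jemb σ)⁻¹ * g.1) • cbase = x
    rw [mul_smul, show g.1 • cbase = jemb σ • x from hg, inv_smul_smul]
  · rintro ⟨g, hg⟩
    refine ⟨⟨jemb σ, hL (jemb_mem σ)⟩ * g, ?_⟩
    show (jemb σ * g.1) • cbase = jemb σ • x
    rw [mul_smul, show g.1 • cbase = x from hg]

/-- the subgroup is maximal -/
theorem eq_subH_or_top {L : Subgroup Cfsg.Spor.J4} (hL : subH ≤ L) : L = subH ∨ L = ⊤ := by
  classical
  let B := MulAction.orbit L cbase
  let p : ℕ × Chain × List ℕ × ℕ → Bool := fun e => decide (cpt e.1 ∈ B)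
  have h1 : B.ncard ≤ sizeSum (Top.chains.filter p) := by
    refine (Set.ncard_le_ncard ?_).trans (orbUnion_ncard_le _ fun e he => List.mem_of_mem_filter he)
    intro x hx
    obtain ⟨e, he, σ, rfl⟩ := mem_orbUnion.1 (orbUnion_all.symm ▸ Set.mem_univ x : x ∈ orbUnion Top.chains)
    exact mem_orbUnion.2 ⟨e, List.mem_filter.2 ⟨he, decide_eq_true ((jemb_smul_iff hL σ _).1 hx)⟩, σ, rfl⟩
  have h2 : Bᶜ.ncard ≤ sizeSum (Top.chains.filter fun e => !p e) := by
    refine (Set.ncard_le_ncard ?_).trans (orbUnion_ncard_le _ fun e he => List.mem_of_mem_filter he)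
    intro x hx
    obtain ⟨e, he, σ, rfl⟩ := mem_orbUnion.1 (orbUnion_all.symm ▸ Set.mem_univ x : x ∈ orbUnion Top.chains)
    refine mem_orbUnion.2 ⟨e, List.mem_filter.2 ⟨he, ?_⟩, σ, rfl⟩
    simp only [p, Bool.not_eq_true', decide_eq_false_iff_not]
    exact fun h => hx ((jemb_smul_iff hL σ _).2 h)
  have hsum : ∀ es : List (ℕ × Chain × List ℕ × ℕ),
      sizeSum (es.filter p) + sizeSum (es.filter fun e => !p e) = sizeSum es := by
    intro es
    induction es with
    | nil => rfl
    | cons e es ih =>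
      simp only [sizeSum] at ih ⊢
      cases hp : p e <;> simp [hp, ← ih] <;> omega
  have h3 : B.ncard = sizeSum (Top.chains.filter p) := by
    have := hsum Top.chains
    have h4 := Set.ncard_add_ncard_compl B
    rw [J4_card_eq.2] at h4
    rw [sizeSum_all] at this
    omega
  have hst : MulAction.stabilizer L cbase = subH.subgroupOf L := by
    ext g
    rw [MulAction.mem_stabilizer_iff, Subgroup.mem_subgroupOf]
    exact smul_cbase_eq
  have hB : B.ncard = subH.relIndex L := by
    rw [Subgroup.relIndex, ← hst, MulAction.index_stabilizer]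
  have hd : B.ncard ∣ 173067389 := by
    rw [hB, ← J4_card_eq.2]
    exact ⟨L.index, (Subgroup.relIndex_mul_index hL).symm⟩
  have h0 : cpt 0 ∈ B := by
    rw [cpt, Cert.pt_zero]
    exact MulAction.mem_orbit_self _
  have hsplit : Top.chains = (0, Top.chain0, Top.gens0, 1) :: Top.chains.tail := rfl
  have hS : sizeSum (Top.chains.filter p) = 1 + ((Top.chains.tail.filter p).map fun e => e.2.2.2).sum := by
    rw [hsplit, List.filter_cons, if_pos (by simpa [p] using h0), sizeSum, List.map_cons, List.sum_cons]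
    rfl
  rw [h3, hS] at hd
  rcases unionOK_sound _ p _ _ union_ok hd with h | h
  · left
    refine le_antisymm ?_ hL
    exact Subgroup.relIndex_eq_one.1 (by rw [← hB, h3, hS, h])
  · right
    refine Subgroup.index_eq_one.1 ?_
    have hm := Subgroup.relIndex_mul_index hL
    have hi : subH.index = 173067389 := J4_card_eq.2
    rw [← hB, h3, hS, h, hi] at hm
    omega

theorem subH_ne_top : subH ≠ ⊤ := fun h => by
  have := J4_card_eq.2
  rw [show Nat.card Cosets = subH.index from rfl, h, Subgroup.index_top] at this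
  norm_num at this

/-- normal subgroups meet the copy of the group of the code trivially or contain everything -/
theorem normal_cases {N : Subgroup Cfsg.Spor.J4} [N.Normal] :
    N = ⊤ ∨ (∀ σ : M24, jemb σ ∈ N → σ = 1) := by
  have : IsSimpleGroup M24 := CfsgLib.Golay.isSimpleGroup_M24
  rcases IsSimpleGroup.eq_bot_or_eq_top_of_normal (N.comap jemb) inferInstance with h | h
  · exact Or.inr fun σ hσ => Subgroup.mem_bot.1 (h ▸ (hσ : σ ∈ N.comap jemb))
  · left
    have hM : ∀ σ : M24, jemb σ ∈ N := fun σ => (h ▸ Subgroup.mem_top σ : σ ∈ N.comap jemb)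
    let π := QuotientGroup.mk' N
    have hπ : ∀ σ : M24, π (jemb σ) = 1 := fun σ => (QuotientGroup.eq_one_iff _).2 (hM σ)
    have ht : π jt = 1 := by
      have e := congrArg π extra_eq.2.2.2.1
      rw [map_pow, map_mul, map_mul, map_mul, map_inv, hπ, hπ, map_one, inv_one, one_mul, one_mul, mul_one,
        pow_succ, pow_two, ← map_mul, jt_sq, map_one, one_mul] at e
      exact e
    rw [eq_top_iff, ← closure_emb_t, Subgroup.closure_le]
    rintro _ (⟨σ, rfl⟩ | rfl)
    · exact hM σ
    · exact (QuotientGroup.eq_one_iff _).1 ht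

theorem inf_subH_le {N : Subgroup Cfsg.Spor.J4} [hN : N.Normal] (hM : ∀ σ : M24, jemb σ ∈ N → σ = 1)
    {g : Cfsg.Spor.J4} (hgN : g ∈ N) (hgH : g ∈ subH) : g ∈ subW := by
  have : IsSimpleGroup M24 := CfsgLib.Golay.isSimpleGroup_M24
  let U : Subgroup Cfsg.Spor.J4 := (N ⊓ subH) ⊔ subW
  have hU : (U.comap jemb).Normal := ⟨fun σ hσ τ => by
    have hle : U ≤ U.comap (MulAut.conj (jemb τ)).toMonoidHom := by
      refine sup_le (fun a ha => ?_) (fun a ha => ?_)
      · exact Subgroup.mem_sup_left ⟨hN.conj_mem a ha.1 _,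
          Subgroup.mul_mem _ (Subgroup.mul_mem _ (jemb_mem τ) ha.2) (Subgroup.inv_mem _ (jemb_mem τ))⟩
      · exact Subgroup.mem_sup_right (subW_conj τ ha)
    show jemb (τ * σ * τ⁻¹) ∈ U
    rw [map_mul, map_mul, map_inv]
    exact hle hσ⟩
  obtain ⟨a, ha, σ, e⟩ := mem_subH.1 hgH
  rcases IsSimpleGroup.eq_bot_or_eq_top_of_normal (U.comap jemb) hU with h | h
  · have h1 : jemb σ ∈ U := by
      rw [show jemb σ = a⁻¹ * g by rw [e]; group]
      exact U.mul_mem (Subgroup.mem_sup_right (subW.inv_mem ha)) (Subgroup.mem_sup_left ⟨hgN, hgH⟩)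
    have h2 : σ ∈ U.comap jemb := h1
    rw [h, Subgroup.mem_bot] at h2
    rw [e, h2, map_one, mul_one]
    exact ha
  · exfalso
    rcases subW_irred (V := N ⊓ subW) inf_le_right
      (fun b hb => ⟨hN.conj_mem b hb.1 _, subW_conj s23 hb.2⟩) with hb | hb
    · have hcw : U ≤ Subgroup.centralizer {jw} := by
        refine sup_le (fun b hb' => ?_) (fun b hb' => ?_)
        · refine Subgroup.mem_centralizer_singleton_iff.2 ?_
          have hk : b * jw * b⁻¹ * jw⁻¹ ∈ N ⊓ subW := by
            refine ⟨?_, subW.mul_mem (subH_conj hb'.2 jw_mem) (subW.inv_mem jw_mem)⟩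
            rw [mul_assoc, mul_assoc]
            exact N.mul_mem hb'.1 (by rw [← mul_assoc]; exact hN.conj_mem _ (N.inv_mem hb'.1) _)
          rw [hb, Subgroup.mem_bot, mul_inv_eq_one, mul_inv_eq_iff_eq_mul] at hk
          exact hk
        · exact Subgroup.mem_centralizer_singleton_iff.2 (subW_comm hb' jw_mem).eq
      refine s23_moves ?_
      rw [mul_inv_eq_iff_eq_mul]
      exact Subgroup.mem_centralizer_singleton_iff.1
        (hcw (h ▸ Subgroup.mem_top s23 : s23 ∈ U.comap jemb))
    · have hle : U ≤ N := sup_le inf_le_left (inf_eq_right.1 hb)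
      have h23 := hM s23 (hle (h ▸ Subgroup.mem_top s23 : s23 ∈ U.comap jemb))
      exact s23_moves (by rw [h23, map_one]; group)

theorem isSimple : IsSimpleGroup Cfsg.Spor.J4 := by
  have : Nontrivial Cfsg.Spor.J4 := by
    rw [← Finite.one_lt_card_iff_nontrivial, J4_card_eq.1]; norm_num
  refine ⟨fun N hN => ?_⟩
  rcases normal_cases (N := N) with h | hM
  · exact Or.inr h
  rcases eq_subH_or_top (L := N ⊔ subH) le_sup_right with hL | hL
  · left
    have hNH : N ≤ subH := hL ▸ le_sup_left
    have hNW : N ≤ subW := fun g hg => inf_subH_le hM hg (hNH hg)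
    rcases subW_irred hNW (fun b hb => hN.conj_mem b hb _) with h | h
    · exact h
    · exfalso
      have ht : jt⁻¹ = jt := inv_eq_of_mul_eq_one_right jt_sq
      have h1 := hN.conj_mem jw (h.symm ▸ jw_mem : jw ∈ N) jt
      rw [ht] at h1
      exact jt_not_normalizes (h ▸ h1)
  · exfalso
    let K : Subgroup Cfsg.Spor.J4 := N ⊔ subW
    have hconj : ∀ g : Cfsg.Spor.J4, g ∈ N ⊔ subH → ∀ k ∈ K, g * k * g⁻¹ ∈ K := by
      intro g hg k hk
      obtain ⟨n, hn, h, hh, rfl⟩ := Subgroup.mem_sup_of_normal_left.1 hg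
      have h1 : h * k * h⁻¹ ∈ K := by
        obtain ⟨m, hm, a, ha, rfl⟩ := Subgroup.mem_sup_of_normal_left.1 hk
        rw [show h * (m * a) * h⁻¹ = (h * m * h⁻¹) * (h * a * h⁻¹) by group]
        exact K.mul_mem (Subgroup.mem_sup_left (hN.conj_mem m hm h)) (Subgroup.mem_sup_right (subH_conj hh ha))
      rw [show n * h * k * (n * h)⁻¹ = n * (h * k * h⁻¹) * n⁻¹ by group]
      exact K.mul_mem (K.mul_mem (Subgroup.mem_sup_left hn) h1) (Subgroup.mem_sup_left (N.inv_mem hn))
    have : K.Normal := ⟨fun k hk g => hconj g (hL ▸ Subgroup.mem_top g) k hk⟩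
    let π := QuotientGroup.mk' K
    have hinj : ∀ σ : M24, π (jemb σ) = 1 → σ = 1 := fun σ hσ => by
      obtain ⟨n, hn, a, ha, e⟩ := Subgroup.mem_sup_of_normal_left.1 ((QuotientGroup.eq_one_iff _).1 hσ)
      have hnH : n ∈ subH := by
        rw [show n = jemb σ * a⁻¹ by rw [← e]; group]
        exact subH.mul_mem (jemb_mem σ) (subW_le_subH (subW.inv_mem ha))
      exact emb_mem_subW (e ▸ subW.mul_mem (inf_subH_le hM hn hnH) ha)
    have hsur : ∀ g : Cfsg.Spor.J4, ∃ σ : M24, π g = π (jemb σ) := fun g => by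
      obtain ⟨n, hn, h, hh, rfl⟩ := Subgroup.mem_sup_of_normal_left.1 (hL ▸ Subgroup.mem_top g : g ∈ N ⊔ subH)
      obtain ⟨a, ha, σ, rfl⟩ := mem_subH.1 hh
      refine ⟨σ, ?_⟩
      rw [← mul_assoc, map_mul π (n * a)]
      have e1 : π (n * a) = 1 :=
        (QuotientGroup.eq_one_iff _).2 (K.mul_mem (Subgroup.mem_sup_left hn) (Subgroup.mem_sup_right ha))
      rw [e1, one_mul]
    obtain ⟨τ, hτ⟩ := hsur jt
    have hcomm : ∀ ρ : M24, jemb ρ * jt = jt * jemb ρ → Commute τ ρ := fun ρ h => by
      have h1 := congrArg π h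
      rw [map_mul, map_mul, hτ] at h1
      have h2 : π (jemb ((τ * ρ)⁻¹ * (ρ * τ))) = 1 := by
        simp only [map_mul, map_inv]
        rw [h1, inv_mul_cancel]
      exact inv_mul_eq_one.1 (hinj _ h2)
    have hτ1 := eq_one_of_commute (hcomm mX commute_jt_mX) (hcomm pc commute_jt_pc)
    rw [hτ1, map_one, map_one] at hτ
    refine pa_sq_ne (hinj _ ?_)
    have e := congrArg π extra_eq.2.2.2.2
    rw [map_pow, map_mul, map_mul, map_mul, map_mul, map_inv, hτ, map_one, mul_one, mul_one, inv_mul_cancel,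
      mul_one, pow_two] at e
    rwa [map_mul, map_mul]

theorem rep_injective : Function.Injective rep := by
  have := isSimple
  rw [← MonoidHom.ker_eq_bot_iff]
  refine (IsSimpleGroup.eq_bot_or_eq_top_of_normal _ inferInstance).resolve_right fun h => ?_
  exact CfsgLib.J4Rep.permX_ne_one (rep_jx ▸ MonoidHom.mem_ker.1 (h ▸ Subgroup.mem_top _))

end CfsgLib.J4DCE.J
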