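import Cfsg.Agent.Lib.J4DCE.Engine
import Mathlib.GroupTheory.Index
import Cfsg.Agent.Lib.J4M24.Perms

/-!
Subgroups of the group of the code given by transversal chains: membership by sifting, a lower bound
for the order, and coset tables checked by sifting.
-/
set_option autoImplicit false

namespace CfsgLib.J4DCE

open Cfsg
open CfsgLib.Presented (NTree)

attribute [local irreducible] enc pmask tImg

/-- elements given by products of earlier ones, and transversals -/
structure Chain where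
  elt : NTree
  inv : NTree
  ng : ℕ
  ops : List (ℕ × ℕ)
  levels : List (ℕ × List ℕ)

/-- element `n` -/
noncomputable def Chain.p (c : Chain) (n : ℕ) : ℕ := c.elt.get 120 n
/-- inverse of element `n` -/
noncomputable def Chain.q (c : Chain) (n : ℕ) : ℕ := c.inv.get 120 n

/-- the products are right -/
noncomputable def Chain.chkOps (c : Chain) : ℕ → List (ℕ × ℕ) → Bool
  | _, [] => true
  | n, o :: os => Nat.blt o.1 n && Nat.blt o.2 n && Nat.beq (pmul (c.p o.1) (c.p o.2)) (c.p n) &&
      Nat.beq (pmul (c.q o.2) (c.q o.1)) (c.q n) && c.chkOps (n + 1) os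

/-- transversal elements are listed elements -/
noncomputable def Chain.valid (c : Chain) : Bool :=
  c.chkOps c.ng c.ops && c.levels.all fun l => l.2.all fun n => Nat.blt n (c.ng + c.ops.length)

/-- sift a packed permutation through the levels -/
noncomputable def Chain.sift (c : Chain) : List (ℕ × List ℕ) → ℕ → Bool
  | [], x => Nat.beq x pid
  | l :: ls, x =>
    match l.2.find? (fun n => Nat.beq (pget (c.p n) l.1) (pget x l.1)) with
    | none => false
    | some n => Presented.Vec.force (pmul (c.q n) x) fun x' => c.sift ls x'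

/-- membership test -/
noncomputable def Chain.mem (c : Chain) (x : ℕ) : Bool := c.sift c.levels x

/-- the generators lie in a subgroup -/
def Chain.GensIn (c : Chain) (Q : Subgroup M24) : Prop :=
  ∀ n < c.ng, ∃ σ ∈ Q, pk σ.1 = c.p n ∧ pk (σ⁻¹ : M24).1 = c.q n

theorem Chain.chkOps_sound {c : Chain} {Q : Subgroup M24} : ∀ (os : List (ℕ × ℕ)) (n : ℕ),
    (∀ m < n, ∃ σ ∈ Q, pk σ.1 = c.p m ∧ pk (σ⁻¹ : M24).1 = c.q m) → c.chkOps n os = true →
    ∀ m < n + os.length, ∃ σ ∈ Q, pk σ.1 = c.p m ∧ pk (σ⁻¹ : M24).1 = c.q m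
  | [], n, h, _ => by simpa using h
  | o :: os, n, h, hc => by
    simp only [Chain.chkOps, Bool.and_eq_true, Nat.blt_eq] at hc
    obtain ⟨⟨⟨⟨h1, h2⟩, h3⟩, h4⟩, h5⟩ := hc
    have h' : ∀ m < n + 1, ∃ σ ∈ Q, pk σ.1 = c.p m ∧ pk (σ⁻¹ : M24).1 = c.q m := fun m hm => by
      rcases Nat.lt_succ_iff_lt_or_eq.1 hm with hm' | rfl
      · exact h m hm'
      · obtain ⟨a, ha, ha1, ha2⟩ := h _ h1
        obtain ⟨b, hb, hb1, hb2⟩ := h _ h2
        refine ⟨a * b, Q.mul_mem ha hb, ?_, ?_⟩
        · rw [← Nat.eq_of_beq_eq_true h3, ← ha1, ← hb1, pmul_coe]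
        · rw [← Nat.eq_of_beq_eq_true h4, ← ha2, ← hb2, pmul_coe, mul_inv_rev]
    intro m hm
    exact Chain.chkOps_sound os (n + 1) h' h5 m (by rw [List.length_cons] at hm; omega)

theorem Chain.elts {c : Chain} {Q : Subgroup M24} (hv : c.valid = true) (hg : c.GensIn Q)
    {l : ℕ × List ℕ} (hl : l ∈ c.levels) {n : ℕ} (hn : n ∈ l.2) :
    ∃ σ ∈ Q, pk σ.1 = c.p n ∧ pk (σ⁻¹ : M24).1 = c.q n := by
  simp only [Chain.valid, Bool.and_eq_true, List.all_eq_true, Nat.blt_eq] at hv
  exact Chain.chkOps_sound c.ops c.ng hg hv.1 n (hv.2 l hl n hn)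

theorem Chain.sift_sound {c : Chain} {Q : Subgroup M24} (hv : c.valid = true) (hg : c.GensIn Q) :
    ∀ (ls : List (ℕ × List ℕ)), (∀ l ∈ ls, l ∈ c.levels) → ∀ γ : M24, c.sift ls (pk γ.1) = true → γ ∈ Q
  | [], _, γ, h => by
    have := pk_injective ((Nat.eq_of_beq_eq_true h).trans pid_coe)
    rw [Subtype.ext this]
    exact Q.one_mem
  | l :: ls, hls, γ, h => by
    simp only [Chain.sift] at h
    cases hf : l.2.find? (fun n => Nat.beq (pget (c.p n) l.1) (pget (pk γ.1) l.1)) with
    | none => simp [hf] at h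
    | some n =>
      simp only [hf, Presented.Vec.force_eq] at h
      obtain ⟨σ, hσ, -, hq⟩ := Chain.elts hv hg (hls l List.mem_cons_self) (List.mem_of_find?_eq_some hf)
      rw [← hq, pmul_coe] at h
      have := Chain.sift_sound hv hg ls (fun l' hl' => hls l' (List.mem_cons_of_mem _ hl')) _ h
      simpa using Q.mul_mem hσ this

theorem Chain.mem_sound {c : Chain} {Q : Subgroup M24} (hv : c.valid = true) (hg : c.GensIn Q) {γ : M24}
    {x : ℕ} (hx : pk γ.1 = x) (h : c.mem x = true) : γ ∈ Q :=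
  Chain.sift_sound hv hg c.levels (fun _ hl => hl) γ (by rw [hx]; exact h)

/-- the transversals are distinct and fix the earlier base points -/
noncomputable def Chain.lower (c : Chain) : List ℕ → List (ℕ × List ℕ) → Bool
  | _, [] => true
  | prev, l :: ls => Nat.blt l.1 24 &&
      (l.2.all fun n => prev.all fun b => Nat.beq (pget (c.p n) b) b) &&
      decide ((l.2.map fun n => pget (c.p n) l.1).Nodup) && c.lower (l.1 :: prev) ls

/-- the product of the lengths -/
def lenProd (ls : List (ℕ × List ℕ)) : ℕ := (ls.map fun l => l.2.length).prod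

/-- elements fixing some positions -/
def fixSub (bs : List ℕ) : Subgroup M24 where
  carrier := {σ | ∀ b ∈ bs, b < 24 → imgF σ.1 b = b}
  one_mem' := fun b _ hb => imgF_one hb
  mul_mem' := fun {a c} ha hc b hb hb' => by
    show imgF (a.1 * c.1) b = b
    rw [← imgF_mul _ _ hb', hc b hb hb', ha b hb hb']
  inv_mem' := fun {a} ha b hb hb' => by
    show imgF (a.1)⁻¹ b = b
    conv_lhs => rw [← ha b hb hb']
    rw [imgF_mul _ _ hb', inv_mul_cancel, imgF_one hb']

theorem Chain.lower_sound {c : Chain} {Q : Subgroup M24} (hv : c.valid = true) (hg : c.GensIn Q) :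
    ∀ (ls : List (ℕ × List ℕ)), (∀ l ∈ ls, l ∈ c.levels) → ∀ prev, c.lower prev ls = true →
      lenProd ls ≤ Nat.card ↥(Q ⊓ fixSub prev)
  | [], _, prev, _ => by
    show 1 ≤ _
    exact Nat.card_pos
  | l :: ls, hls, prev, h => by
    simp only [Chain.lower, Bool.and_eq_true, List.all_eq_true, decide_eq_true_eq, Nat.blt_eq] at h
    obtain ⟨⟨⟨hb, hfix⟩, hnd⟩, hrest⟩ := h
    have ih := Chain.lower_sound hv hg ls (fun l' hl' => hls l' (List.mem_cons_of_mem _ hl')) _ hrest
    have hel : ∀ i : Fin l.2.length, ∃ σ ∈ Q ⊓ fixSub prev, pk σ.1 = c.p (l.2.get i) := fun i => by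
      obtain ⟨σ, hσ, hp, -⟩ := Chain.elts hv hg (hls l List.mem_cons_self) (List.get_mem l.2 i)
      refine ⟨σ, ⟨hσ, fun b hb' hb24 => ?_⟩, hp⟩
      rw [← pget_pk σ.1 hb24, hp]
      exact Nat.eq_of_beq_eq_true (hfix _ (List.get_mem l.2 i) b hb')
    choose T hT hTp using hel
    let f : Fin l.2.length × ↥(Q ⊓ fixSub (l.1 :: prev)) → ↥(Q ⊓ fixSub prev) := fun x =>
      ⟨T x.1 * x.2.1, Subgroup.mul_mem _ (hT x.1)
        ⟨x.2.2.1, fun b hb' hb24 => x.2.2.2 b (List.mem_cons_of_mem _ hb') hb24⟩⟩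
    have hf : Function.Injective f := by
      rintro ⟨i, a⟩ ⟨j, b⟩ hij
      have e : T i * a.1 = T j * b.1 := congrArg Subtype.val hij
      have e1 : ∀ (i : Fin l.2.length) (a : ↥(Q ⊓ fixSub (l.1 :: prev))),
          imgF (T i * a.1 : M24).1 l.1 = pget (c.p (l.2.get i)) l.1 := fun i a => by
        show imgF ((T i).1 * a.1.1) l.1 = _
        rw [← imgF_mul _ _ hb, a.2.2 l.1 List.mem_cons_self hb, ← pget_pk _ hb, hTp]
      have e2 := e1 i a
      rw [e, e1 j b] at e2
      obtain rfl : i = j := by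
        apply Fin.ext
        refine (List.nodup_iff_injective_get.1 hnd (a₁ := ⟨i, by simp⟩) (a₂ := ⟨j, by simp⟩) ?_ |> fun h => by
          simpa using congrArg Fin.val h)
        simpa using e2.symm
      exact Prod.ext rfl (Subtype.ext (mul_left_cancel e))
    refine le_trans ?_ (Nat.card_le_card_of_injective f hf)
    rw [Nat.card_prod, Nat.card_fin, lenProd, List.map_cons, List.prod_cons]
    exact Nat.mul_le_mul_left _ ih

theorem Chain.le_card {c : Chain} {Q : Subgroup M24} (hv : c.valid = true) (hg : c.GensIn Q)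
    (h : c.lower [] c.levels = true) : lenProd c.levels ≤ Nat.card Q := by
  refine le_trans (Chain.lower_sound hv hg c.levels (fun _ hl => hl) [] h) ?_
  exact Nat.card_le_card_of_injective _ (Subgroup.inclusion_injective inf_le_left)

/-- a table of representatives with their inverses -/
structure Reps where
  n : ℕ
  g : NTree
  gi : NTree

/-- representative `k` -/
noncomputable def Reps.p (R : Reps) (k : ℕ) : ℕ := R.g.get 120 k
/-- inverse of representative `k` -/
noncomputable def Reps.q (R : Reps) (k : ℕ) : ℕ := R.gi.get 120 k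

/-- the representatives are valid -/
noncomputable def Reps.ok (R : Reps) : Bool :=
  ((List.range R.n).all fun k => okPerm (R.p k) (R.q k)) && Nat.beq (R.p 0) pid && Nat.blt 0 R.n

/-- `a` carries each coset to the tabled one -/
noncomputable def stepOK (c : Chain) (R : Reps) (a : ℕ) (nx : NTree) (lo cnt : ℕ) : Bool :=
  (List.range cnt).all fun i =>
    Presented.Vec.force (lo + i) fun k => Presented.Vec.force (nx.get 12 k) fun k' =>
      Nat.blt k' R.n && c.mem (pmul (R.q k') (pmul a (R.p k)))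

/-- `σ` carries each coset to one of the listed ones -/
def Carries (Q : Subgroup M24) (R : Reps) (σ : M24) : Prop :=
  ∀ k < R.n, ∃ k' < R.n, ∃ g g' : M24, pk g.1 = R.p k ∧ pk g'.1 = R.p k' ∧ ∃ c ∈ Q, σ * g = g' * c

/-- representatives in a range are valid -/
noncomputable def Reps.okRange (R : Reps) (lo cnt : ℕ) : Bool :=
  (List.range cnt).all fun i => Presented.Vec.force (lo + i) fun k => okPerm (R.p k) (R.q k)

theorem Reps.ok_of_ranges {R : Reps} (h0 : (Nat.beq (R.p 0) pid && Nat.blt 0 R.n) = true)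
    (h : ∀ k < R.n, ∃ lo cnt, lo ≤ k ∧ k < lo + cnt ∧ R.okRange lo cnt = true) : R.ok = true := by
  simp only [Bool.and_eq_true] at h0
  simp only [Reps.ok, Bool.and_eq_true, List.all_eq_true, List.mem_range]
  refine ⟨⟨fun k hk => ?_, h0.1⟩, h0.2⟩
  obtain ⟨lo, cnt, h1, h2, hs⟩ := h k hk
  simp only [Reps.okRange, List.all_eq_true, List.mem_range, Presented.Vec.force_eq] at hs
  have hs' := hs (k - lo) (by omega)
  rwa [Nat.add_sub_cancel' h1] at hs'

theorem Reps.exists_g {R : Reps} (h : R.ok = true) {k : ℕ} (hk : k < R.n) :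
    ∃ g : M24, pk g.1 = R.p k ∧ pk (g⁻¹ : M24).1 = R.q k := by
  simp only [Reps.ok, Bool.and_eq_true, List.all_eq_true, List.mem_range] at h
  exact exists_of_okPerm (h.1.1 k hk)

theorem carries_of_stepOK {c : Chain} {Q : Subgroup M24} (hv : c.valid = true) (hg : c.GensIn Q) {R : Reps}
    (hR : R.ok = true) {σ : M24} {a : ℕ} (ha : pk σ.1 = a) {nx : NTree}
    (h : ∀ k < R.n, ∃ lo cnt, lo ≤ k ∧ k < lo + cnt ∧ stepOK c R a nx lo cnt = true) : Carries Q R σ := by
  intro k hk
  obtain ⟨lo, cnt, h1, h2, hs⟩ := h k hk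
  simp only [stepOK, List.all_eq_true, List.mem_range, Presented.Vec.force_eq, Bool.and_eq_true, Nat.blt_eq] at hs
  have hs' := hs (k - lo) (by omega)
  rw [Nat.add_sub_cancel' h1] at hs'
  obtain ⟨g, hg1, -⟩ := Reps.exists_g hR hk
  obtain ⟨g', hg1', hg2'⟩ := Reps.exists_g hR hs'.1
  refine ⟨_, hs'.1, g, g', hg1, hg1', g'⁻¹ * (σ * g), ?_, by group⟩
  exact Chain.mem_sound hv hg (by rw [← hg2', ← ha, ← hg1, pmul_coe, pmul_coe]) hs'.2

theorem Carries.mul {Q : Subgroup M24} {R : Reps} {σ τ : M24} (h1 : Carries Q R σ) (h2 : Carries Q R τ) :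
    Carries Q R (σ * τ) := by
  intro k hk
  obtain ⟨k1, hk1, g, g1, hg, hg1, c, hc, e⟩ := h2 k hk
  obtain ⟨k2, hk2, g1', g2, hg1', hg2, c', hc', e'⟩ := h1 k1 hk1
  obtain rfl : g1' = g1 := Subtype.ext (pk_injective (hg1'.trans hg1.symm))
  refine ⟨k2, hk2, g, g2, hg, hg2, c' * c, Q.mul_mem hc' hc, ?_⟩
  rw [mul_assoc, e, ← mul_assoc, e', mul_assoc]

/-- the two generators of the group of the code -/
noncomputable abbrev mX : M24 := ⟨Presented.J4M24.ptX, Presented.J4M24.ptX_mem⟩
/-- the two generators of the group of the code -/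
noncomputable abbrev mY : M24 := ⟨Presented.J4M24.ptY, Presented.J4M24.ptY_mem⟩

theorem closure_gens : Subgroup.closure ({mX, mY} : Set M24) = ⊤ := by
  rw [eq_top_iff]
  intro σ _
  have h := Presented.J4M24.M24_le
    (H := (Subgroup.closure ({mX, mY} : Set M24)).map (Subgroup.subtype M24))
    ⟨mX, Subgroup.subset_closure (Or.inl rfl), rfl⟩ ⟨mY, Subgroup.subset_closure (Or.inr rfl), rfl⟩ σ.2
  obtain ⟨σ', hσ', e⟩ := h
  rwa [← Subtype.ext e]

theorem mY_cube : mY * (mY * mY) = 1 := Subtype.ext (by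
  have h := Presented.J4M24.pt_rels [1, 1, 1] (by decide)
  have h' : Presented.J4M24.ptY * (Presented.J4M24.ptY * (Presented.J4M24.ptY * 1)) = 1 := h
  rw [mul_one] at h'
  exact h')

theorem mX_sq : mX * mX = 1 := Subtype.ext Presented.J4M24.ptX_sq

theorem carries_all {Q : Subgroup M24} {R : Reps} (hR : R.ok = true) (hX : Carries Q R mX) (hY : Carries Q R mY)
    (σ : M24) : Carries Q R σ := by
  have h1 : Carries Q R 1 := fun k hk => by
    obtain ⟨g, hg, -⟩ := Reps.exists_g hR hk
    exact ⟨k, hk, g, g, hg, hg, 1, Q.one_mem, by simp⟩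
  have hXi : mX⁻¹ = mX := inv_eq_of_mul_eq_one_right mX_sq
  have hYi : mY⁻¹ = mY * mY := inv_eq_of_mul_eq_one_right mY_cube
  have hσ : σ ∈ Subgroup.closure ({mX, mY} : Set M24) := by rw [closure_gens]; exact Subgroup.mem_top _
  induction hσ using Subgroup.closure_induction'' with
  | one => exact h1
  | mem z hz => rcases hz with rfl | rfl <;> assumption
  | inv_mem z hz => rcases hz with rfl | rfl
                    · rwa [hXi]
                    · rw [hYi]; exact hY.mul hY
  | mul a b _ _ ha hb => exact ha.mul hb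

/-- every element is a representative times an element of the subgroup -/
theorem decompose {Q : Subgroup M24} {R : Reps} (hR : R.ok = true) (hX : Carries Q R mX) (hY : Carries Q R mY)
    (σ : M24) : ∃ k < R.n, ∃ g : M24, pk g.1 = R.p k ∧ ∃ c ∈ Q, σ = g * c := by
  have h0 := hR
  simp only [Reps.ok, Bool.and_eq_true, Nat.blt_eq] at h0
  obtain ⟨k, hk, g0, g, hg0, hg, c, hc, e⟩ := carries_all hR hX hY σ 0 h0.2
  obtain rfl : g0 = 1 := Subtype.ext (pk_injective (hg0.trans ((Nat.eq_of_beq_eq_true h0.1.2).trans pid_coe)))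
  exact ⟨k, hk, g, hg, c, hc, by simpa using e⟩

end CfsgLib.J4DCE
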