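import Cfsg.Agent.Lib.J4DCE.SubData

/-! Kernel checks of the seven orbit certificates. -/
set_option autoImplicit false
set_option maxRecDepth 20000

namespace CfsgLib.J4DCE.Sub

theorem ok0 : J.subOK sub0 = true := by decide +kernel

theorem ok1 : J.subOK sub1 = true := by decide +kernel

theorem ok2 : J.subOK sub2 = true := by decide +kernel

theorem ok3 : J.subOK sub3 = true := by decide +kernel

theorem ok4 : J.subOK sub4 = true := by decide +kernel

theorem ok5 : J.subOK sub5 = true := by decide +kernel

theorem ok6 : J.subOK sub6 = true := by decide +kernel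

theorem subs_ok : ∀ D ∈ subs, J.subOK D = true := by
  intro D hD
  simp only [subs, List.mem_cons, List.not_mem_nil, or_false] at hD
  rcases hD with rfl | rfl | rfl | rfl | rfl | rfl | rfl
  · exact ok0
  · exact ok1
  · exact ok2
  · exact ok3
  · exact ok4
  · exact ok5
  · exact ok6

end CfsgLib.J4DCE.Sub
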