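import Cfsg.Agent.Lib.J4DCE.Upper

/-!
Traces of products of conjugates of `w` on the named cosets, and checkable certificates bounding the
orbits of the subgroup generated by the copy of the group of the code and `w`.
-/
set_option autoImplicit false
set_option maxRecDepth 4000

namespace CfsgLib.J4DCE

open Cfsg
open CfsgLib.Presented (NTree)

/-- a trace: the product of some conjugates of `w` carries the start to `g` applied to the point `j` -/
structure Tr where
  ks : List ℕ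
  j : ℕ
  g : ℕ
  st : ℕ

/-- the certificate of one orbit -/
structure SubData where
  l : ℕ
  size : ℕ
  chain : Chain
  rest : List ℕ
  fix : List Tr
  gens : List Tr
  conn : List Tr

/-- cancel adjacent equal letters -/
noncomputable def redT (w : List ℕ) : List ℕ := w.foldr pushT []

section

variable {G : Type*} [Group G] {emb : M24 →* G} {t : G} {T0 : ℕ}

theorem val_redT (hS : Setting emb t T0) : ∀ w : List ℕ, val emb t T0 (redT w) = val emb t T0 w
  | [] => rfl
  | u :: w => by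
    show val emb t T0 (pushT u (redT w)) = _
    rw [val_pushT hS, val_redT hS w, val_cons]

end

namespace J

open CfsgLib.Presented.J4M24 (jx jy)

attribute [local irreducible] enc pmask tImg

/-- the letters of a product of conjugates of `w` -/
noncomputable def ksWord (ks : List ℕ) : List ℕ := ks.flatMap fun k => wlc (WMod.reps.p k)

/-- the product of conjugates of `w` -/
noncomputable def ksVal (ks : List ℕ) : Cfsg.Spor.J4 := (ks.map (wk jemb jw WMod.reps)).prod

theorem ksVal_mem (ks : List ℕ) : ksVal ks ∈ subW :=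
  Subgroup.list_prod_mem _ fun x hx => by
    obtain ⟨k, -, rfl⟩ := List.mem_map.1 hx
    exact conjW_mem _

theorem val_ksWord : ∀ ks : List ℕ, (∀ k ∈ ks, k < 1771) → val jemb jt Orb.T0 (ksWord ks) = ksVal ks
  | [], _ => rfl
  | k :: ks, h => by
    have e : ksWord (k :: ks) = wlc (WMod.reps.p k) ++ ksWord ks := List.flatMap_cons ..
    have ih := val_ksWord ks fun x hx => h x (List.mem_cons_of_mem _ hx)
    rw [e, ksVal, List.map_cons, List.prod_cons, wk,
      ← val_wlc (repG_spec WMod.reps_ok (h k List.mem_cons_self)).1, val, List.map_append,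
      List.prod_append]
    exact congrArg _ ih

/-- a trace is right -/
noncomputable def chkTr (l : ℕ) (a : Tr) : Bool :=
  a.ks.all (fun k => Nat.blt k 1771) &&
    Top.cert.walk Top.nF ⟨0, pid, pid, 0, 0, pid, pid, 2, Top.cert.rels.length, pid, pid, 0⟩ a.j a.g
      (redT (ksWord a.ks)) 600 a.st l pid []

theorem chkTr_sound {l : ℕ} {a : Tr} (h : chkTr l a = true) :
    ∃ ρ : M24, pk ρ.1 = a.g ∧ jemb ρ • cpt a.j = ksVal a.ks • cpt l := by
  simp only [chkTr, Bool.and_eq_true, List.all_eq_true, Nat.blt_eq] at h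
  obtain ⟨hk, hw⟩ := h
  obtain ⟨ρ, hρ, he⟩ := Cert.walk_sound (x := cpt l) top_interp
    (fun m hm => Cert.holds_of_ok top_interp Top.facts_ok m hm) (ι := 1)
    (by exact pk_one) (by rw [inv_one]; exact pk_one) (σ := 1) pid_coe
    (by rw [map_one, val_nil]; rfl) hw
  refine ⟨ρ, hρ.symm, he.trans ?_⟩
  exact congrArg (· • cpt l) ((val_redT setting _).trans (val_ksWord a.ks hk))

/-- the stabiliser chain of a named point -/
noncomputable def topEntry (l : ℕ) : ℕ × Chain × List ℕ × ℕ :=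
  (Top.chains.find? fun e => Nat.beq e.1 l).getD (0, Top.chain0, Top.gens0, 0)

/-- a fixing trace is right -/
noncomputable def chkFix (D : SubData) (a : Tr) : Bool :=
  chkTr D.l a && Nat.beq a.j D.l && (topEntry D.l).2.1.mem a.g &&
    (match a.ks with | [] => false | _ :: tl => tl.all fun k => D.rest.any fun r => Nat.beq k r)

/-- a generating trace is right -/
noncomputable def chkGen (D : SubData) (n : ℕ) (a : Tr) : Bool :=
  chkTr D.l a && Nat.beq a.j D.l && Nat.beq (D.chain.p (2 * n)) a.g &&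
    okPerm (D.chain.p (2 * n)) (D.chain.q (2 * n)) &&
    Nat.beq (D.chain.p (2 * n + 1)) (D.chain.q (2 * n)) &&
    Nat.beq (D.chain.q (2 * n + 1)) (D.chain.p (2 * n))

/-- the certificate of an orbit is right -/
noncomputable def subOK (D : SubData) : Bool :=
  (Top.chains.any fun e => Nat.beq e.1 D.l) && D.fix.all (chkFix D) &&
    (WMod.basis.all fun k => (D.rest.any fun r => Nat.beq k r) ||
      D.fix.any fun a => match a.ks with | [] => false | hd :: _ => Nat.beq k hd) &&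
    ((List.range D.gens.length).all fun n => chkGen D n (D.gens.getD n ⟨[], 0, 0, 0⟩)) &&
    Nat.beq D.chain.ng (2 * D.gens.length) && D.chain.valid && D.chain.lower [] D.chain.levels &&
    Nat.beq (D.size * lenProd D.chain.levels) (244823040 * 2 ^ D.rest.length) &&
    Nat.blt 0 (lenProd D.chain.levels) && D.conn.all (chkTr D.l)

theorem topEntry_gensIn {l : ℕ} (h : (Top.chains.any fun e => Nat.beq e.1 l) = true) :
    (topEntry l).2.1.valid = true ∧
      (topEntry l).2.1.GensIn ((MulAction.stabilizer Cfsg.Spor.J4 (cpt l)).comap jemb) := by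
  obtain ⟨e0, he0, hl0⟩ := List.any_eq_true.1 h
  obtain ⟨e, he⟩ : ∃ e, (Top.chains.find? fun e => Nat.beq e.1 l) = some e :=
    Option.isSome_iff_exists.1 (List.find?_isSome.2 ⟨e0, he0, hl0⟩)
  have hte : topEntry l = e := by rw [topEntry, he]; rfl
  have hel : e.1 = l := Nat.eq_of_beq_eq_true (List.find?_some (p := fun e : ℕ × Chain × List ℕ × ℕ => Nat.beq e.1 l) he)
  have hmem := List.mem_of_find?_eq_some he
  rw [hte, ← hel]
  have hn := List.all_eq_true.1 nodes_ok e hmem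
  simp only [nodeOK, Bool.and_eq_true, List.all_eq_true, List.mem_range] at hn
  obtain ⟨⟨⟨hv, -⟩, -⟩, hg⟩ := hn
  refine ⟨hv, fun n hn => ?_⟩
  have h := hg n hn
  simp only [genOK, Presented.Vec.force_eq, Bool.and_eq_true, Nat.blt_eq] at h
  obtain ⟨⟨⟨⟨hf, hr⟩, hi⟩, hj⟩, hc⟩ := h
  obtain ⟨-, ρ, hρ, hρ', hfact⟩ := Cert.holds_of_ok top_interp Top.facts_ok _ hf
  rw [Nat.eq_of_beq_eq_true hi, Nat.eq_of_beq_eq_true hj, Nat.eq_of_beq_eq_true hr, ltr, if_pos rfl,
    one_smul] at hfact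
  have hρQ : ρ ∈ (MulAction.stabilizer Cfsg.Spor.J4 (cpt e.1)).comap jemb :=
    MulAction.mem_stabilizer_iff.2 hfact
  cases hb : Nat.beq (e.2.2.1.getD n 0 % 2) 0
  · rw [hb, cond_false, Bool.and_eq_true] at hc
    exact ⟨ρ⁻¹, Subgroup.inv_mem _ hρQ, hρ'.trans (Nat.eq_of_beq_eq_true hc.1),
      by rw [inv_inv]; exact hρ.trans (Nat.eq_of_beq_eq_true hc.2)⟩
  · rw [hb, cond_true, Bool.and_eq_true] at hc
    exact ⟨ρ, hρQ, hρ.trans (Nat.eq_of_beq_eq_true hc.1), hρ'.trans (Nat.eq_of_beq_eq_true hc.2)⟩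

/-- the permutations by which some element of `subW` moves a point -/
noncomputable def moveSub (P : Cosets) : Subgroup M24 where
  carrier := {σ | ∃ a ∈ subW, (a * jemb σ) • P = P}
  one_mem' := ⟨1, subW.one_mem, by rw [map_one, one_mul, one_smul]⟩
  mul_mem' := by
    rintro σ τ ⟨a, ha, ea⟩ ⟨b, hb, eb⟩
    refine ⟨a * (jemb σ * b * (jemb σ)⁻¹), subW.mul_mem ha (subW_conj σ hb), ?_⟩
    rw [map_mul, show a * (jemb σ * b * (jemb σ)⁻¹) * (jemb σ * jemb τ) = (a * jemb σ) * (b * jemb τ) by group,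
      mul_smul, eb, ea]
  inv_mem' := by
    rintro σ ⟨a, ha, ea⟩
    refine ⟨(jemb σ)⁻¹ * a⁻¹ * jemb σ, ?_, ?_⟩
    · have h := subW_conj σ⁻¹ (subW.inv_mem ha)
      rwa [map_inv, inv_inv] at h
    · rw [map_inv, show (jemb σ)⁻¹ * a⁻¹ * jemb σ * (jemb σ)⁻¹ = (a * jemb σ)⁻¹ by group]
      exact inv_smul_eq_iff.2 ea.symm

theorem smul_subW_orbit {D : SubData} (h : subOK D = true) {a : Cfsg.Spor.J4} (ha : a ∈ subW) :
    ∃ b ∈ Subgroup.closure {x | x ∈ D.rest.map (wk jemb jw WMod.reps)}, a • cpt D.l = b • cpt D.l := by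
  simp only [subOK, Bool.and_eq_true, List.all_eq_true] at h
  obtain ⟨⟨⟨⟨⟨⟨⟨⟨⟨hany, hfix⟩, hbas⟩, -⟩, -⟩, -⟩, -⟩, -⟩, -⟩, -⟩ := h
  obtain ⟨hv, hgi⟩ := topEntry_gensIn hany
  set B := Subgroup.closure {x | x ∈ D.rest.map (wk jemb jw WMod.reps)} with hB
  have hBW : B ≤ subW := by
    rw [hB, Subgroup.closure_le]
    intro x hx
    obtain ⟨k, -, rfl⟩ := List.mem_map.1 hx
    exact conjW_mem _
  have hrest : ∀ k, (D.rest.any fun r => Nat.beq k r) = true → wk jemb jw WMod.reps k ∈ B := fun k hk => by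
    obtain ⟨r, hr, e⟩ := List.any_eq_true.1 hk
    rw [Nat.eq_of_beq_eq_true e]
    exact Subgroup.subset_closure (List.mem_map_of_mem hr)
  have key : ∀ x ∈ Subgroup.closure {x | x ∈ WMod.basis.map (wk jemb jw WMod.reps)},
      x ∈ subW ∧ ∃ b ∈ B, x • cpt D.l = b • cpt D.l := by
    intro x hx
    induction hx using Subgroup.closure_induction with
    | mem x hx =>
      obtain ⟨k, hk, rfl⟩ := List.mem_map.1 hx
      refine ⟨conjW_mem _, ?_⟩
      rcases Bool.or_eq_true_iff.1 (hbas k hk) with hr | hf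
      · exact ⟨_, hrest k hr, rfl⟩
      obtain ⟨c, hc, hck⟩ := List.any_eq_true.1 hf
      have h1 := hfix c hc
      simp only [chkFix, Bool.and_eq_true] at h1
      obtain ⟨⟨⟨htr, hj⟩, hm⟩, htl⟩ := h1
      obtain ⟨ρ, hρ, e⟩ := chkTr_sound htr
      have hρs : ρ ∈ (MulAction.stabilizer Cfsg.Spor.J4 (cpt D.l)).comap jemb :=
        Chain.mem_sound hv hgi hρ hm
      rw [Nat.eq_of_beq_eq_true hj, show jemb ρ • cpt D.l = cpt D.l from MulAction.mem_stabilizer_iff.1 hρs] at e
      obtain ⟨ks, j, g, st⟩ := c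
      rcases ks with - | ⟨hd, tl⟩
      · simp at hck
      obtain rfl := Nat.eq_of_beq_eq_true hck
      have hp : ksVal tl ∈ B := Subgroup.list_prod_mem _ fun y hy => by
        obtain ⟨r, hr, rfl⟩ := List.mem_map.1 hy
        exact hrest r (List.all_eq_true.1 htl r hr)
      refine ⟨ksVal tl, hp, ?_⟩
      have e' : cpt D.l = (wk jemb jw WMod.reps k * ksVal tl) • cpt D.l := e
      rw [(subW_comm (show wk jemb jw WMod.reps k ∈ subW from conjW_mem _) (hBW hp)).eq, mul_smul] at e'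
      conv_rhs => rw [e']
      rw [smul_smul (ksVal tl), subW_sq (hBW hp), one_smul]
    | one => exact ⟨subW.one_mem, 1, B.one_mem, rfl⟩
    | mul x y _ _ ihx ihy =>
      obtain ⟨hxW, b, hb, ex⟩ := ihx
      obtain ⟨hyW, c, hc, ey⟩ := ihy
      refine ⟨subW.mul_mem hxW hyW, c * b, B.mul_mem hc hb, ?_⟩
      rw [mul_smul, ey, smul_smul, (subW_comm hxW (hBW hc)).eq, mul_smul, ex, smul_smul]
    | inv x _ ih =>
      rw [inv_eq_of_mul_eq_one_right (subW_sq ih.1)]
      exact ih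
  exact (key a (subW_le_basis ha)).2

theorem orbit_ncard_le {D : SubData} (h : subOK D = true) :
    (MulAction.orbit ↥subH (cpt D.l)).ncard ≤ D.size := by
  have h' := h
  simp only [subOK, Bool.and_eq_true, List.all_eq_true, List.mem_range, Nat.blt_eq] at h'
  obtain ⟨⟨⟨⟨⟨⟨⟨-, hgen⟩, hng⟩, hv⟩, hlow⟩, hsz⟩, hpos⟩, -⟩ := h'
  have hng := Nat.eq_of_beq_eq_true hng
  have hsz := Nat.eq_of_beq_eq_true hsz
  let Q := moveSub (cpt D.l)
  have hQ : D.chain.GensIn Q := fun n hn => by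
    have h1 := hgen (n / 2) (by omega)
    simp only [chkGen, Bool.and_eq_true] at h1
    obtain ⟨⟨⟨⟨⟨htr, hj⟩, hp⟩, hok⟩, hp1⟩, hq1⟩ := h1
    obtain ⟨ρ, hρ, e⟩ := chkTr_sound htr
    obtain ⟨σ, hσ, hσi⟩ := exists_of_okPerm hok
    obtain rfl : σ = ρ := Subtype.ext (pk_injective (hσ.trans ((Nat.eq_of_beq_eq_true hp).trans hρ.symm)))
    have hm : σ ∈ Q := by
      refine ⟨_, ksVal_mem (D.gens.getD (n / 2) ⟨[], 0, 0, 0⟩).ks, ?_⟩
      rw [Nat.eq_of_beq_eq_true hj] at e
      rw [mul_smul, e, smul_smul, subW_sq (ksVal_mem _), one_smul]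
    rcases Nat.even_or_odd' n with ⟨m, rfl | rfl⟩
    · rw [show 2 * m / 2 = m by omega] at hσ hσi
      exact ⟨σ, hm, hσ, hσi⟩
    · rw [show (2 * m + 1) / 2 = m by omega] at hσ hσi hp1 hq1
      exact ⟨σ⁻¹, Q.inv_mem hm, hσi.trans (Nat.eq_of_beq_eq_true hp1).symm,
        by rw [inv_inv]; exact hσ.trans (Nat.eq_of_beq_eq_true hq1).symm⟩
  have hcard := Chain.le_card hv hQ hlow
  set B := Subgroup.closure {x | x ∈ D.rest.map (wk jemb jw WMod.reps)} with hB
  obtain ⟨hB0, hB1⟩ := card_closure_invol_le (D.rest.map (wk jemb jw WMod.reps))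
    (fun a ha => by
      obtain ⟨k, -, rfl⟩ := List.mem_map.1 ha
      exact wk_sq k)
    (fun a ha b hb => by
      obtain ⟨k, -, rfl⟩ := List.mem_map.1 ha
      obtain ⟨l, -, rfl⟩ := List.mem_map.1 hb
      exact commute_conjW _ _)
  rw [List.length_map] at hB1
  have : Finite ↥B := Nat.finite_of_card_ne_zero hB0
  let f : (M24 ⧸ Q) × ↥B → Cosets := fun p => (jemb p.1.out * p.2.1) • cpt D.l
  have hsub : MulAction.orbit ↥subH (cpt D.l) ⊆ Set.range f := by
    rintro _ ⟨g, rfl⟩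
    obtain ⟨a, ha, σ, e⟩ := mem_subH.1 g.2
    obtain ⟨c, hc, ec⟩ : ∃ c ∈ Q, σ = (QuotientGroup.mk σ : M24 ⧸ Q).out * c :=
      ⟨_, (QuotientGroup.eq.1 (Quotient.out_eq (QuotientGroup.mk σ : M24 ⧸ Q))), by group⟩
    set r := (QuotientGroup.mk σ : M24 ⧸ Q).out
    obtain ⟨a', ha', ea'⟩ := hc
    have hc' : jemb c • cpt D.l = a' • cpt D.l := by
      rw [mul_smul] at ea'
      conv_rhs => rw [← ea', smul_smul, subW_sq ha', one_smul]
    have hx : (jemb r)⁻¹ * a * jemb r * a' ∈ subW := by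
      have := subW_conj r⁻¹ ha
      rw [map_inv, inv_inv] at this
      exact subW.mul_mem this ha'
    obtain ⟨b, hb, eb⟩ := smul_subW_orbit h hx
    refine ⟨(QuotientGroup.mk σ, ⟨b, hb⟩), ?_⟩
    show (jemb r * b) • cpt D.l = (g : Cfsg.Spor.J4) • cpt D.l
    calc (jemb r * b) • cpt D.l = jemb r • (b • cpt D.l) := mul_smul _ _ _
      _ = jemb r • (((jemb r)⁻¹ * a * jemb r * a') • cpt D.l) := congrArg _ eb.symm
      _ = (a * jemb r) • (a' • cpt D.l) := by
        rw [smul_smul, smul_smul]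
        congr 1
        group
      _ = (a * jemb r) • (jemb c • cpt D.l) := congrArg _ hc'.symm
      _ = (g : Cfsg.Spor.J4) • cpt D.l := by
        rw [smul_smul, e, ec, map_mul, mul_assoc]
  have hle : (MulAction.orbit ↥subH (cpt D.l)).ncard ≤ Q.index * 2 ^ D.rest.length := by
    refine (Set.ncard_le_ncard hsub (Set.finite_range _)).trans ?_
    rw [← Nat.card_coe_set_eq]
    refine (Finite.card_range_le f).trans ?_
    rw [Nat.card_prod, Subgroup.index_eq_card]
    exact Nat.mul_le_mul_left _ hB1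
  have hi : Q.index * lenProd D.chain.levels ≤ 244823040 := by
    rw [← CfsgLib.Golay.natCard_M24, ← Subgroup.index_mul_card Q]
    exact Nat.mul_le_mul_left _ hcard
  refine Nat.le_of_mul_le_mul_right ?_ hpos
  calc (MulAction.orbit ↥subH (cpt D.l)).ncard * lenProd D.chain.levels
      ≤ Q.index * 2 ^ D.rest.length * lenProd D.chain.levels := Nat.mul_le_mul_right _ hle
    _ = Q.index * lenProd D.chain.levels * 2 ^ D.rest.length := by ring
    _ ≤ 244823040 * 2 ^ D.rest.length := Nat.mul_le_mul_right _ hi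
    _ = D.size * lenProd D.chain.levels := hsz.symm

theorem conn_mem_orbit {D : SubData} (h : subOK D = true) {c : Tr} (hc : c ∈ D.conn) :
    cpt c.j ∈ MulAction.orbit ↥subH (cpt D.l) := by
  simp only [subOK, Bool.and_eq_true, List.all_eq_true] at h
  obtain ⟨ρ, -, e⟩ := chkTr_sound (h.2 c hc)
  refine ⟨⟨(jemb ρ)⁻¹ * ksVal c.ks, subH.mul_mem (subH.inv_mem (jemb_mem ρ))
    (subW_le_subH (ksVal_mem _))⟩, ?_⟩
  show ((jemb ρ)⁻¹ * ksVal c.ks) • cpt D.l = cpt c.j
  rw [mul_smul, ← e, inv_smul_smul]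

end J

end CfsgLib.J4DCE
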