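import Cfsg.Agent.Lib.J4DCE.SubCheck
import Cfsg.Agent.Lib.J4DCE.Simple

/-!
The subgroup `2^11:M24` of the presented fourth Janko group has seven orbits on its cosets, of known
sizes, and is the normaliser of its normal subgroup of order `2^11`.
-/
set_option autoImplicit false
set_option maxRecDepth 4000

namespace CfsgLib.J4DCE

universe u v

/-- a subgroup with the index and the seven orbit lengths on its cosets -/
def SubOrbits {G : Type u} [Group G] (K : Subgroup G) : Prop :=
  K.index = 173067389 ∧ ∃ c : Fin 7 → G ⧸ K,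
    (∀ i j : Fin 7, i ≠ j → MulAction.orbit ↥K (c i) ≠ MulAction.orbit ↥K (c j)) ∧
    (∀ q : G ⧸ K, ∃ i : Fin 7, q ∈ MulAction.orbit ↥K (c i)) ∧
    (List.ofFn fun i => (MulAction.orbit ↥K (c i)).ncard) =
      [1, 15180, 28336, 3400320, 32643072, 54405120, 82575360]

theorem SubOrbits.map {G : Type u} [Group G] {G' : Type v} [Group G'] (e : G ≃* G') {K : Subgroup G}
    (h : SubOrbits K) : SubOrbits (K.map e.toMonoidHom) := by
  obtain ⟨hi, c, hne, hcov, hl⟩ := h
  have hmem : ∀ g : G, e g ∈ K.map e.toMonoidHom ↔ g ∈ K := fun g =>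
    ⟨fun ⟨x, hx, ex⟩ => e.injective ex ▸ hx, fun hg => ⟨g, hg, rfl⟩⟩
  let φ : G ⧸ K → G' ⧸ K.map e.toMonoidHom := Quotient.map' e fun a b hab => by
    rw [QuotientGroup.leftRel_apply] at hab ⊢
    rw [← map_inv, ← map_mul, hmem]
    exact hab
  have hφ : ∀ g : G, φ (g : G ⧸ K) = ((e g : G') : G' ⧸ K.map e.toMonoidHom) := fun g => rfl
  have hinj : Function.Injective φ := by
    intro x y hxy
    obtain ⟨a, rfl⟩ := QuotientGroup.mk_surjective x
    obtain ⟨b, rfl⟩ := QuotientGroup.mk_surjective y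
    rw [hφ, hφ, QuotientGroup.eq, ← map_inv, ← map_mul, hmem] at hxy
    exact QuotientGroup.eq.2 hxy
  have hsurj : Function.Surjective φ := fun q => by
    obtain ⟨b, rfl⟩ := QuotientGroup.mk_surjective q
    exact ⟨(e.symm b : G), by rw [hφ, MulEquiv.apply_symm_apply]⟩
  have horb : ∀ x : G ⧸ K, MulAction.orbit ↥(K.map e.toMonoidHom) (φ x) = φ '' MulAction.orbit ↥K x := by
    intro x
    obtain ⟨a, rfl⟩ := QuotientGroup.mk_surjective x
    ext q
    constructor
    · rintro ⟨⟨_, k, hk, rfl⟩, rfl⟩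
      refine ⟨_, ⟨⟨k, hk⟩, rfl⟩, ?_⟩
      show φ ((k * a : G) : G ⧸ K) = ((e k * e a : G') : G' ⧸ K.map e.toMonoidHom)
      rw [hφ, map_mul]
    · rintro ⟨_, ⟨⟨k, hk⟩, rfl⟩, rfl⟩
      refine ⟨⟨e k, (hmem k).2 hk⟩, ?_⟩
      show ((e k * e a : G') : G' ⧸ K.map e.toMonoidHom) = φ ((k * a : G) : G ⧸ K)
      rw [hφ, map_mul]
  refine ⟨?_, fun i => φ (c i), fun i j hij h => hne i j hij ?_, fun q => ?_, ?_⟩
  · rw [← hi, Subgroup.index_eq_card, Subgroup.index_eq_card]
    exact (Nat.card_congr (Equiv.ofBijective φ ⟨hinj, hsurj⟩)).symm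
  · simp only [horb] at h
    exact hinj.image_injective h
  · obtain ⟨x, rfl⟩ := hsurj q
    obtain ⟨i, hi⟩ := hcov x
    exact ⟨i, by rw [horb]; exact ⟨x, hi, rfl⟩⟩
  · rw [← hl]
    congr 1
    funext i
    rw [horb, Set.ncard_image_of_injective _ hinj]

namespace J

attribute [local irreducible] enc pmask tImg

theorem normalizer_subW : Subgroup.normalizer (subW : Set Cfsg.Spor.J4) = subH := by
  have hle : subH ≤ Subgroup.normalizer (subW : Set Cfsg.Spor.J4) := fun g hg => by
    rw [Subgroup.mem_normalizer_iff]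
    intro a
    refine ⟨fun ha => subH_conj hg ha, fun ha => ?_⟩
    have h := subH_conj (subH.inv_mem hg) ha
    rwa [show g⁻¹ * (g * a * g⁻¹) * g⁻¹⁻¹ = a by group] at h
  rcases eq_subH_or_top hle with h | h
  · exact h
  · have : subW.Normal := Subgroup.normalizer_eq_top_iff.1 h
    have := isSimple
    have hc := subW_fix_bot.2
    rcases IsSimpleGroup.eq_bot_or_eq_top_of_normal subW inferInstance with e | e
    · rw [e, Subgroup.card_bot] at hc
      norm_num at hc
    · rw [e, Subgroup.card_top, J4_card_eq.1] at hc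
      norm_num at hc

/-- the certificate number `i` -/
noncomputable def subAt (i : Fin 7) : SubData := Sub.subs.getD i.1 Sub.sub0

theorem subAt_ok (i : Fin 7) : subOK (subAt i) = true := by
  refine Sub.subs_ok _ ?_
  fin_cases i <;> simp [subAt, Sub.subs]

theorem subAt_size : (List.ofFn fun i => (subAt i).size) =
    [1, 15180, 28336, 3400320, 32643072, 54405120, 82575360] := by
  simp [List.ofFn_succ, subAt, Sub.subs, Sub.sub0, Sub.sub1, Sub.sub2, Sub.sub3, Sub.sub4, Sub.sub5, Sub.sub6]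

/-- every live point is a start or is connected to one -/
theorem live_cover : (Top.live.all fun l => (List.finRange 7).any fun i =>
    Nat.beq (subAt i).l l || (subAt i).conn.any fun c => Nat.beq c.j l) = true := by decide +kernel

theorem subOrbits_subH : SubOrbits subH := by
  classical
  set O : Fin 7 → Set Cosets := fun i => MulAction.orbit ↥subH (cpt (subAt i).l) with hO
  have hcov : ∀ x : Cosets, ∃ i, x ∈ O i := by
    intro x
    obtain ⟨σ, l, hl, rfl⟩ := cover_all x
    obtain ⟨i, -, hi⟩ := List.any_eq_true.1 (List.all_eq_true.1 live_cover l hl)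
    refine ⟨i, ?_⟩
    have hcl : cpt l ∈ O i := by
      rcases Bool.or_eq_true_iff.1 hi with h | h
      · rw [← Nat.eq_of_beq_eq_true h]
        exact MulAction.mem_orbit_self _
      · obtain ⟨c, hc, hcj⟩ := List.any_eq_true.1 h
        rw [← Nat.eq_of_beq_eq_true hcj]
        exact conn_mem_orbit (subAt_ok i) hc
    exact MulAction.mem_orbit_of_mem_orbit (⟨jemb σ, jemb_mem σ⟩ : ↥subH) hcl
  have hsum : ∑ i, (subAt i).size = 173067389 := by
    rw [← List.sum_ofFn, subAt_size]
    rfl
  have hle : ∀ i, (O i).ncard ≤ (subAt i).size := fun i => orbit_ncard_le (subAt_ok i)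
  have hcard : ∀ s : Finset (Fin 7), (∀ x : Cosets, ∃ i ∈ s, x ∈ O i) →
      173067389 ≤ ∑ i ∈ s, (O i).ncard := fun s hs => by
    rw [← J4_card_eq.2, ← Set.ncard_univ]
    refine le_trans (Set.ncard_le_ncard (t := ⋃ i ∈ s, O i) ?_ (Set.toFinite _)) (s.set_ncard_biUnion_le O)
    intro x _
    obtain ⟨i, hi, hx⟩ := hs x
    exact Set.mem_biUnion hi hx
  have htot := hcard Finset.univ fun x => (hcov x).imp fun i hi => ⟨Finset.mem_univ i, hi⟩
  have heq : ∀ i, (O i).ncard = (subAt i).size := by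
    intro i
    by_contra hne
    have := Finset.sum_lt_sum (s := Finset.univ) (fun j _ => hle j)
      ⟨i, Finset.mem_univ i, lt_of_le_of_ne (hle i) hne⟩
    omega
  refine ⟨?_, fun i => cpt (subAt i).l, fun i j hij h => ?_, hcov, ?_⟩
  · rw [Subgroup.index_eq_card]
    exact J4_card_eq.2
  · have h1 := hcard (Finset.univ.erase i) fun x => by
      obtain ⟨k, hk⟩ := hcov x
      rcases eq_or_ne k i with rfl | hki
      · exact ⟨j, Finset.mem_erase.2 ⟨hij.symm, Finset.mem_univ j⟩, (show O k = O j from h) ▸ hk⟩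
      · exact ⟨k, Finset.mem_erase.2 ⟨hki, Finset.mem_univ k⟩, hk⟩
    have h2 := Finset.add_sum_erase Finset.univ (fun k => (O k).ncard) (Finset.mem_univ i)
    have h3 : 0 < (O i).ncard := (Set.ncard_pos (Set.toFinite _)).2 ⟨_, MulAction.mem_orbit_self _⟩
    have h4 : ∑ k, (O k).ncard = 173067389 := by rw [← hsum]; exact Finset.sum_congr rfl fun k _ => heq k
    omega
  · rw [← subAt_size]
    congr 1
    funext i
    exact heq i

end J

end CfsgLib.J4DCE
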