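import Cfsg.Agent.Lib.J4DCE.TopData

/-! Generated: the live points. -/
set_option autoImplicit false
set_option maxRecDepth 20000

namespace CfsgLib.J4DCE.Top

open CfsgLib.Presented (ATree NTree)

def live : List ℕ := [0, 1, 3, 4, 5, 6, 7, 8, 9, 10, 11, 12, 13, 15, 16, 17, 18, 19, 20, 21]

def nF : ℕ := 2021

end CfsgLib.J4DCE.Top
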